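/-
Groups with root elements satisfying the relations of a Chevalley datum: monomial elements, torus, Weyl group.
-/
import Cfsg.Agent.Lib.Lie.Chev.Matrix
import Cfsg.Agent.Lib.Lie.RootPerm

set_option autoImplicit false

namespace CfsgLib.Lie.Chev

open Cfsg.Lie (ChevalleyDatum)

/-- `n_r(c)` for given root elements -/
def neOf (D : ChevalleyDatum) {F G : Type*} [Field F] [Group G] (xe : ℕ → F → G) (r : ℕ) (c : F) : G :=
  xe r c * xe (D.neg r) (-c⁻¹) * xe r c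

/-- `h_r(c)` for given root elements -/
def heOf (D : ChevalleyDatum) {F G : Type*} [Field F] [Group G] (xe : ℕ → F → G) (r : ℕ) (c : F) : G :=
  neOf D xe r c * neOf D xe r (-1)

/-- A group with root elements satisfying the Chevalley relations, mapping to the matrix group. -/
structure Rel (D : ChevalleyDatum) (X : Aux) (F : Type*) [Field F] (G : Type*) [Group G] where
  cert : Cert D X
  xe : ℕ → F → G
  θ : G →* GL D.Idx F
  θ_xe : ∀ r t, ((θ (xe r t) : GL D.Idx F) : Matrix D.Idx D.Idx F) = D.x F r t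
  xe_oob : ∀ r t, ¬ r < D.nroots → xe r t = 1
  gen : Subgroup.closure {g | ∃ r t, g = xe r t} = ⊤
  xe_add : ∀ r t u, r < D.nroots → xe r t * xe r u = xe r (t + u)
  xe_comm : ∀ r s t u, r < D.nroots → s < D.nroots → s ≠ r → s ≠ D.neg r →
    xe s u * xe r t = xe r t * xe s u * ((D.commWord F r s t u).map fun p => xe p.1 p.2).prod
  nconj : ∀ i r (c : F) t, i < D.rank → r < D.nroots → c ≠ 0 →
    neOf D xe (D.simple i) c * xe r t =
      xe (X.w i r) ((X.eta i r : F) * c ^ (-(D.cartan i r)) * t) * neOf D xe (D.simple i) c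
  hmul : ∀ i (a b : F), i < D.rank → a ≠ 0 → b ≠ 0 →
    heOf D xe (D.simple i) a * heOf D xe (D.simple i) b = heOf D xe (D.simple i) (a * b)

namespace Rel

variable {D : ChevalleyDatum} {X : Aux} {F : Type*} [Field F] {G : Type*} [Group G] (R : Rel D X F G)

/-- `n_r(c)` -/
abbrev ne (r : ℕ) (c : F) : G := neOf D R.xe r c
/-- `h_r(c)` -/
abbrev he (r : ℕ) (c : F) : G := heOf D R.xe r c

include R

theorem hmul' (i : ℕ) {a b : F} (hi : i < D.rank) (ha : a ≠ 0) (hb : b ≠ 0) :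
    R.he (D.simple i) a * R.he (D.simple i) b = R.he (D.simple i) (a * b) := R.hmul i a b hi ha hb

theorem xe_zero (r : ℕ) : R.xe r 0 = 1 := by
  by_cases hr : r < D.nroots
  · have := R.xe_add r 0 0 hr
    rw [add_zero] at this
    exact mul_eq_left.1 this
  · exact R.xe_oob r 0 hr

theorem xe_add' (r : ℕ) (t u : F) : R.xe r t * R.xe r u = R.xe r (t + u) := by
  by_cases hr : r < D.nroots
  · exact R.xe_add r t u hr
  · simp [R.xe_oob r _ hr]

theorem xe_neg (r : ℕ) (t : F) : R.xe r (-t) = (R.xe r t)⁻¹ := by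
  rw [eq_inv_iff_mul_eq_one, R.xe_add', neg_add_cancel, R.xe_zero]

theorem ne_neg (r : ℕ) (c : F) : R.ne r (-c) = (R.ne r c)⁻¹ := by
  simp only [ne, neOf, mul_inv_rev, inv_neg, R.xe_neg, inv_inv, mul_assoc]

theorem he_one (r : ℕ) : R.he r 1 = 1 := by
  show R.ne r 1 * R.ne r (-1) = 1
  rw [R.ne_neg, mul_inv_cancel]

/-- identity used in Bruhat decomposition -/
theorem xe_neg_eq (r : ℕ) {t : F} (ht : t ≠ 0) :
    R.xe (D.neg r) (-t) = R.xe r (-t⁻¹) * R.ne r t⁻¹ * R.xe r (-t⁻¹) := by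
  have _ := ht
  simp only [ne, neOf, inv_inv, R.xe_neg r]
  group

/-- roots as a finite type: negative -/
def negF (r : Fin D.nroots) : Fin D.nroots := ⟨D.neg r, R.cert.neg_lt r.2⟩

/-- simple roots -/
def sroot (i : Fin D.rank) : Fin D.nroots := ⟨D.simple i, R.cert.simple_lt i.2⟩

/-- simple reflection as a permutation -/
def wperm (i : Fin D.rank) : Equiv.Perm (Fin D.nroots) :=
  Function.Involutive.toPerm (fun s => ⟨X.w i s, R.cert.w_lt i.2 s.2⟩)
    (fun s => Fin.ext (R.cert.w_w i.2 s.2))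

theorem wperm_apply (i : Fin D.rank) (s : Fin D.nroots) : (R.wperm i s : ℕ) = X.w i s := rfl

theorem negF_negF (r : Fin D.nroots) : R.negF (R.negF r) = r := Fin.ext (R.cert.neg_neg r.2)

theorem negF_ne (r : Fin D.nroots) : R.negF r ≠ r := fun h => R.cert.neg_ne r.2 (congrArg Fin.val h)

theorem wperm_sroot (i : Fin D.rank) : R.wperm i (R.sroot i) = R.negF (R.sroot i) :=
  Fin.ext (R.cert.w_simple i.2)

theorem sroot_injective : Function.Injective R.sroot := by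
  intro i j h
  have h' : D.simple i = D.simple j := congrArg Fin.val h
  have h1 := R.cert.coef_simple i.2 i.2
  rw [h', R.cert.coef_simple j.2 i.2] at h1
  by_contra hne
  rw [if_neg (fun he : (i : ℕ) = j => hne (Fin.ext he))] at h1
  simp at h1

theorem sroot_pos (i : Fin D.rank) : half D ≤ (R.sroot i : ℕ) := R.cert.simple_pos i.2

theorem exists_cor_ne_zero {r : ℕ} (hr : r < D.nroots) : ∃ a : Fin D.rank, (X.cor a r : F) ≠ 0 := by
  obtain ⟨a, ha, b, hb, hg⟩ := R.cert.cor_primitive hr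
  by_contra hcon
  simp only [not_exists, not_not] at hcon
  have hbz := congrArg (fun z : ℤ => (z : F)) (Int.gcd_eq_gcd_ab (X.cor a r) (X.cor b r))
  rw [hg] at hbz
  push_cast at hbz
  rw [hcon ⟨a, ha⟩, hcon ⟨b, hb⟩] at hbz
  simp at hbz

theorem xe_inj_root {r r' : Fin D.nroots} {t t' : F} (ht : t ≠ 0) (h : R.xe r t = R.xe r' t') : r = r' := by
  obtain ⟨a, ha⟩ := R.exists_cor_ne_zero r.2
  have h' := congrArg (fun g => ((R.θ g : GL D.Idx F) : Matrix D.Idx D.Idx F) (Sum.inl a) (Sum.inr (R.negF r))) h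
  simp only [R.θ_xe, R.cert.xM_inl_inr r.2, R.cert.xM_inl_inr r'.2] at h'
  rw [if_pos (show (R.negF r : ℕ) = D.neg r from rfl)] at h'
  by_contra hne
  rw [if_neg] at h'
  · exact mul_ne_zero ha ht h'
  · intro he
    exact hne (Fin.ext (by
      rw [← R.cert.neg_neg r.2, show D.neg (r : ℕ) = D.neg r' from he, R.cert.neg_neg r'.2]))

theorem xe_inj_param {r : Fin D.nroots} {t t' : F} (h : R.xe r t = R.xe r t') : t = t' := by
  obtain ⟨a, ha⟩ := R.exists_cor_ne_zero r.2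
  have h' := congrArg (fun g => ((R.θ g : GL D.Idx F) : Matrix D.Idx D.Idx F) (Sum.inl a) (Sum.inr (R.negF r))) h
  simp only [R.θ_xe, R.cert.xM_inl_inr r.2] at h'
  simp only [show (R.negF r : ℕ) = D.neg r from rfl, if_true] at h'
  exact mul_left_cancel₀ ha h'

/-- `g` permutes the root subgroups by `σ` with scalars `a` -/
def IsMon (g : G) (σ : Equiv.Perm (Fin D.nroots)) (a : Fin D.nroots → F) : Prop :=
  ∀ r, a r ≠ 0 ∧ a (R.negF r) = (a r)⁻¹ ∧ σ (R.negF r) = R.negF (σ r) ∧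
    ∀ t, g * R.xe r t * g⁻¹ = R.xe (σ r) (a r * t)

theorem isMon_one : R.IsMon 1 1 fun _ => 1 := fun r => ⟨one_ne_zero, inv_one.symm, rfl, fun t => by simp⟩

theorem isMon_mul {g h : G} {σ τ : Equiv.Perm (Fin D.nroots)} {a b : Fin D.nroots → F}
    (hg : R.IsMon g σ a) (hh : R.IsMon h τ b) : R.IsMon (g * h) (σ * τ) fun r => a (τ r) * b r := by
  intro r
  obtain ⟨h1, h2, h3, h4⟩ := hh r
  obtain ⟨g1, g2, g3, g4⟩ := hg (τ r)
  dsimp only
  refine ⟨mul_ne_zero g1 h1, ?_, ?_, fun t => ?_⟩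
  · rw [h2, h3, g2, mul_inv]
  · rw [Equiv.Perm.mul_apply, h3, g3, Equiv.Perm.mul_apply]
  · rw [Equiv.Perm.mul_apply, mul_assoc (a (τ r)), ← g4, ← h4]; group

theorem isMon_inv {g : G} {σ : Equiv.Perm (Fin D.nroots)} {a : Fin D.nroots → F} (hg : R.IsMon g σ a) :
    R.IsMon g⁻¹ σ⁻¹ fun r => (a (σ⁻¹ r))⁻¹ := by
  intro r
  obtain ⟨g1, g2, g3, g4⟩ := hg (σ⁻¹ r)
  have hs : ∀ x, σ (σ⁻¹ x) = x := fun x => σ.apply_symm_apply x
  have e : σ⁻¹ (R.negF r) = R.negF (σ⁻¹ r) := by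
    apply σ.injective
    rw [g3, hs, hs]
  dsimp only
  refine ⟨inv_ne_zero g1, by rw [e, g2], e, fun t => ?_⟩
  have := g4 ((a (σ⁻¹ r))⁻¹ * t)
  rw [mul_inv_cancel_left₀ g1, hs] at this
  rw [← this]; group

theorem isMon_unique {g : G} {σ τ : Equiv.Perm (Fin D.nroots)} {a b : Fin D.nroots → F}
    (hg : R.IsMon g σ a) (hg' : R.IsMon g τ b) : σ = τ ∧ a = b := by
  have key : ∀ r, σ r = τ r ∧ a r = b r := by
    intro r
    have h := ((hg r).2.2.2 1).symm.trans ((hg' r).2.2.2 1)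
    rw [mul_one, mul_one] at h
    have e := R.xe_inj_root (hg r).1 h
    exact ⟨e, R.xe_inj_param (r := τ r) (by rwa [e] at h)⟩
  exact ⟨Equiv.ext fun r => (key r).1, funext fun r => (key r).2⟩

/-- the group of monomial elements -/
def Mon : Subgroup G where
  carrier := {g | ∃ σ a, R.IsMon g σ a}
  one_mem' := ⟨_, _, R.isMon_one⟩
  mul_mem' := by rintro g h ⟨σ, a, hg⟩ ⟨τ, b, hh⟩; exact ⟨_, _, R.isMon_mul hg hh⟩
  inv_mem' := by rintro g ⟨σ, a, hg⟩; exact ⟨_, _, R.isMon_inv hg⟩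

/-- the permutation of a monomial element -/
noncomputable def monPerm : R.Mon →* Equiv.Perm (Fin D.nroots) where
  toFun g := g.2.choose
  map_one' := (R.isMon_unique (1 : R.Mon).2.choose_spec.choose_spec R.isMon_one).1
  map_mul' g h := (R.isMon_unique (g * h).2.choose_spec.choose_spec
    (R.isMon_mul g.2.choose_spec.choose_spec h.2.choose_spec.choose_spec)).1

theorem monPerm_eq {g : R.Mon} {σ : Equiv.Perm (Fin D.nroots)} {a : Fin D.nroots → F} (hg : R.IsMon g σ a) :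
    R.monPerm g = σ :=
  (R.isMon_unique g.2.choose_spec.choose_spec hg).1

theorem exists_isMon (g : R.Mon) : ∃ a, R.IsMon g (R.monPerm g) a := g.2.choose_spec

theorem IsMon.conj_ne {g : G} {σ : Equiv.Perm (Fin D.nroots)} {a : Fin D.nroots → F} (hg : R.IsMon g σ a)
    (r : Fin D.nroots) (c : F) : g * R.ne r c * g⁻¹ = R.ne (σ r) (a r * c) := by
  obtain ⟨_, h2, h3, h4⟩ := hg r
  have h5 := (hg (R.negF r)).2.2.2 (-c⁻¹)
  rw [h2, h3] at h5
  have e : (a r)⁻¹ * -c⁻¹ = -(a r * c)⁻¹ := by rw [mul_inv]; ring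
  rw [e] at h5
  show g * (R.xe r c * R.xe (R.negF r) (-c⁻¹) * R.xe r c) * g⁻¹ =
    R.xe (σ r) (a r * c) * R.xe (R.negF (σ r)) (-(a r * c)⁻¹) * R.xe (σ r) (a r * c)
  rw [← h4 c, ← h5]; group

theorem isMon_ne_simple (i : Fin D.rank) {c : F} (hc : c ≠ 0) :
    R.IsMon (R.ne (D.simple i) c) (R.wperm i) fun r => (X.eta i r : F) * c ^ (-(D.cartan i r)) := by
  intro r
  refine ⟨mul_ne_zero (left_ne_zero_of_mul_eq_one (X.eta_sq_cast i r)) (zpow_ne_zero _ hc), ?_,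
    Fin.ext (R.cert.w_neg i.2 r.2), fun t => ?_⟩
  · show (X.eta i (D.neg r) : F) * c ^ (-(D.cartan i (D.neg r))) = _
    rw [R.cert.eta_neg i.2 r.2, R.cert.cartan_neg r.2 i.2, mul_inv, neg_neg, zpow_neg, inv_inv,
      inv_eq_of_mul_eq_one_left (X.eta_sq_cast (F := F) i r)]
  · rw [R.nconj i r c t i.2 r.2 hc]
    rw [mul_inv_cancel_right, wperm_apply]

/-- `n_i(1)` as a monomial element -/
def nMon (i : Fin D.rank) : R.Mon := ⟨R.ne (D.simple i) 1, _, _, R.isMon_ne_simple i one_ne_zero⟩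

theorem monPerm_nMon (i : Fin D.rank) : R.monPerm (R.nMon i) = R.wperm i :=
  R.monPerm_eq (R.isMon_ne_simple i one_ne_zero)

theorem neg_one_zpow_cartan (i s : ℕ) :
    (-1 : F) ^ (D.cartan i s) = ((-1 : ℤ) ^ (D.cartan i s).natAbs : ℤ) := by
  push_cast
  rcases Int.natAbs_eq (D.cartan i s) with hA | hA
  · conv_lhs => rw [hA, zpow_natCast]
  · conv_lhs => rw [hA, zpow_neg, zpow_natCast]
    rw [← inv_pow]; norm_num

theorem isMon_he_simple (i : Fin D.rank) {c : F} (hc : c ≠ 0) :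
    R.IsMon (R.he (D.simple i) c) 1 fun r => c ^ (D.cartan i r) := by
  have h := R.isMon_mul (R.isMon_ne_simple i hc) (R.isMon_ne_simple i (c := (-1 : F)) (by norm_num))
  have e1 : R.wperm i * R.wperm i = 1 := by
    ext s; simp [wperm_apply, R.cert.w_w i.2 s.2]
  rw [e1] at h
  refine (congrArg (R.IsMon _ 1) (funext fun r => ?_)).mpr h
  rw [wperm_apply, R.cert.cartan_w_self i.2 r.2, neg_neg, zpow_neg (-1 : F), R.neg_one_zpow_cartan,
    ← R.cert.eta_mul i.2 r.2]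
  have h1 := X.eta_sq_cast (F := F) i r
  have h2 := X.eta_sq_cast (F := F) i (X.w i r)
  push_cast
  field_simp
  rw [div_self (mul_ne_zero (left_ne_zero_of_mul_eq_one h2) (left_ne_zero_of_mul_eq_one h1))]

theorem ne_eq_he_mul (r : ℕ) (c : F) : R.ne r c = R.he r c * R.ne r 1 := by
  show _ = R.ne r c * R.ne r (-1) * R.ne r 1
  rw [R.ne_neg, inv_mul_cancel_right]

/-- the torus -/
def HS : Subgroup G :=
  Subgroup.closure {g | ∃ (i : Fin D.rank) (c : F), c ≠ 0 ∧ g = R.he (D.simple i) c}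

/-- lifts of the Weyl group -/
def Nw : Subgroup G := Subgroup.closure {g | ∃ i : Fin D.rank, g = R.ne (D.simple i) 1}

/-- the monomial group -/
def NS : Subgroup G := R.HS ⊔ R.Nw

theorem he_mem_HS (i : Fin D.rank) {c : F} (hc : c ≠ 0) : R.he (D.simple i) c ∈ R.HS :=
  Subgroup.subset_closure ⟨i, c, hc, rfl⟩

theorem ne_mem_Nw (i : Fin D.rank) : R.ne (D.simple i) 1 ∈ R.Nw := Subgroup.subset_closure ⟨i, rfl⟩

theorem HS_le_Mon : R.HS ≤ R.Mon :=
  (Subgroup.closure_le _).2 (by rintro _ ⟨i, c, hc, rfl⟩; exact ⟨_, _, R.isMon_he_simple i hc⟩)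

theorem Nw_le_Mon : R.Nw ≤ R.Mon :=
  (Subgroup.closure_le _).2 (by rintro _ ⟨i, rfl⟩; exact ⟨_, _, R.isMon_ne_simple i one_ne_zero⟩)

theorem NS_le_Mon : R.NS ≤ R.Mon := sup_le R.HS_le_Mon R.Nw_le_Mon

theorem isMon_of_mem_HS {h : G} (hh : h ∈ R.HS) : ∃ a, R.IsMon h 1 a := by
  induction hh using Subgroup.closure_induction with
  | mem x hx => obtain ⟨i, c, hc, rfl⟩ := hx; exact ⟨_, R.isMon_he_simple i hc⟩
  | one => exact ⟨_, R.isMon_one⟩
  | mul x y _ _ hx hy =>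
    obtain ⟨a, ha⟩ := hx; obtain ⟨b, hb⟩ := hy
    have := R.isMon_mul ha hb; rw [mul_one] at this; exact ⟨_, this⟩
  | inv x _ hx =>
    obtain ⟨a, ha⟩ := hx
    have := R.isMon_inv ha; rw [inv_one] at this; exact ⟨_, this⟩

theorem he_conj_he (j i : Fin D.rank) {c d : F} (hc : c ≠ 0) (hd : d ≠ 0) :
    R.he (D.simple j) d * R.he (D.simple i) c * (R.he (D.simple j) d)⁻¹ = R.he (D.simple i) c := by
  obtain ⟨g, hg, hM⟩ : ∃ g, g = R.he (D.simple j) d ∧ R.IsMon g 1 fun r => d ^ D.cartan j r :=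
    ⟨_, rfl, R.isMon_he_simple j hd⟩
  rw [← hg]
  have h1 := IsMon.conj_ne R hM (R.sroot i)
  simp only [Equiv.Perm.one_apply, sroot] at h1
  have ha : d ^ D.cartan j (D.simple i) ≠ 0 := zpow_ne_zero _ hd
  generalize d ^ D.cartan j (D.simple i) = e at h1 ha
  show g * (R.ne (D.simple i) c * R.ne (D.simple i) (-1)) * g⁻¹ = _
  have : g * (R.ne (D.simple i) c * R.ne (D.simple i) (-1)) * g⁻¹ =
      (g * R.ne (D.simple i) c * g⁻¹) * (g * R.ne (D.simple i) (-1) * g⁻¹) := by group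
  rw [this, h1, h1, show e * (-1 : F) = -e by ring, R.ne_neg, R.ne_eq_he_mul _ (e * c), R.ne_eq_he_mul _ e,
    mul_inv_rev, mul_assoc, mul_inv_cancel_left, mul_comm e c, ← R.hmul' i i.2 hc ha, mul_inv_cancel_right]

theorem HS_isMulCommutative {x y : G} (hx : x ∈ R.HS) (hy : y ∈ R.HS) : x * y = y * x := by
  induction hx using Subgroup.closure_induction with
  | mem a ha =>
    obtain ⟨j, d, hd, rfl⟩ := ha
    induction hy using Subgroup.closure_induction with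
    | mem b hb =>
      obtain ⟨i, c, hc, rfl⟩ := hb
      exact mul_inv_eq_iff_eq_mul.1 (R.he_conj_he j i hc hd)
    | one => simp
    | mul b b' _ _ hb hb' => rw [← mul_assoc, hb, mul_assoc, hb', ← mul_assoc]
    | inv b _ hb => exact (Commute.inv_right (show Commute _ b from hb)).eq
  | one => simp
  | mul a a' _ _ ha ha' => rw [mul_assoc, ha', ← mul_assoc, ha, mul_assoc]
  | inv a _ ha => exact (Commute.inv_left (show Commute a _ from ha)).eq

theorem ne_conj_he (i j : Fin D.rank) {c : F} (hc : c ≠ 0) :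
    R.ne (D.simple i) 1 * R.he (D.simple j) c * (R.ne (D.simple i) 1)⁻¹ ∈ R.HS := by
  have hb : c⁻¹ ^ D.cartan j (D.simple i) ≠ 0 := zpow_ne_zero _ (inv_ne_zero hc)
  obtain ⟨g, hg, hM, hgH⟩ : ∃ g, g = (R.he (D.simple j) c)⁻¹ ∧
      (R.IsMon g 1 fun r => c⁻¹ ^ D.cartan j r) ∧ g ∈ R.HS := by
    refine ⟨_, rfl, ?_, inv_mem (R.he_mem_HS j hc)⟩
    have := R.isMon_inv (R.isMon_he_simple j hc)
    simpa [inv_one, inv_zpow] using this
  have h1 := IsMon.conj_ne R hM (R.sroot i) 1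
  simp only [Equiv.Perm.one_apply, sroot, mul_one] at h1
  have h3 : R.ne (D.simple i) 1 * R.he (D.simple j) c * (R.ne (D.simple i) 1)⁻¹ =
      g⁻¹ * (R.ne (D.simple i) (c⁻¹ ^ D.cartan j (D.simple i)) * (R.ne (D.simple i) 1)⁻¹) := by
    rw [← h1, show R.he (D.simple j) c = g⁻¹ by rw [hg, inv_inv]]
    group
  rw [h3, R.ne_eq_he_mul _ (c⁻¹ ^ _), mul_inv_cancel_right]
  exact mul_mem (inv_mem hgH) (R.he_mem_HS i hb)

theorem NS_le_normalizer_HS : R.NS ≤ Subgroup.normalizer (R.HS : Set G) := by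
  refine sup_le Subgroup.le_normalizer ?_
  have key : ∀ i : Fin D.rank, ∀ h ∈ R.HS, R.ne (D.simple i) 1 * h * (R.ne (D.simple i) 1)⁻¹ ∈ R.HS := by
    intro i h hh
    induction hh using Subgroup.closure_induction with
    | mem x hx => obtain ⟨j, c, hc, rfl⟩ := hx; exact R.ne_conj_he i j hc
    | one => simp
    | mul x y _ _ hx hy => have := mul_mem hx hy; simpa [mul_assoc] using this
    | inv x _ hx => have := inv_mem hx; simpa [mul_assoc] using this
  refine (Subgroup.closure_le _).2 ?_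
  rintro _ ⟨i, rfl⟩
  rw [SetLike.mem_coe, Subgroup.mem_normalizer_iff]
  intro h
  refine ⟨key i h, fun hh => ?_⟩
  have h2 : R.ne (D.simple i) 1 * R.ne (D.simple i) 1 ∈ R.HS := by
    have : R.ne (D.simple i) 1 * R.ne (D.simple i) 1 = (R.he (D.simple i) (-1))⁻¹ := by
      show _ = (R.ne (D.simple i) (-1) * R.ne (D.simple i) (-1))⁻¹
      rw [R.ne_neg, mul_inv_rev, inv_inv]
    rw [this]; exact inv_mem (R.he_mem_HS i (by norm_num))
  have := key i _ hh
  have h3 := mul_mem (mul_mem (inv_mem h2) this) h2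
  have e : ∀ n : G, (n * n)⁻¹ * (n * (n * h * n⁻¹) * n⁻¹) * (n * n) = h := fun n => by group
  rwa [e] at h3

theorem exists_conj_simple_pos : ∀ r : Fin D.nroots, half D ≤ (r : ℕ) →
    ∃ g : R.Mon, (g : G) ∈ R.Nw ∧ ∃ i, R.monPerm g (R.sroot i) = r := by
  intro r
  induction hm : (r : ℕ) using Nat.strong_induction_on generalizing r with
  | _ m ih =>
    intro hp
    obtain ⟨i, hi, h⟩ := R.cert.cover'.2.2.1 r r.2 (by omega)
    rcases h with h | ⟨h1, h2⟩
    · exact ⟨1, one_mem _, ⟨i, hi⟩, by rw [map_one, Equiv.Perm.one_apply]; exact Fin.ext h.symm⟩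
    · obtain ⟨g, hg, j, hj⟩ := ih (X.w i r) (by omega) ⟨X.w i r, R.cert.w_lt hi r.2⟩ rfl h1
      refine ⟨R.nMon ⟨i, hi⟩ * g, mul_mem (R.ne_mem_Nw ⟨i, hi⟩) hg, j, ?_⟩
      rw [map_mul, Equiv.Perm.mul_apply, hj, R.monPerm_nMon]
      exact Fin.ext (R.cert.w_w hi r.2)

theorem exists_conj_simple (r : Fin D.nroots) :
    ∃ g : R.Mon, (g : G) ∈ R.Nw ∧ ∃ i, R.monPerm g (R.sroot i) = r := by
  by_cases hp : half D ≤ (r : ℕ)
  · exact R.exists_conj_simple_pos r hp
  · obtain ⟨g, hg, i, hi⟩ := R.exists_conj_simple_pos (R.negF r) ((R.cert.half_le_neg_iff r.2).2 (by omega))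
    obtain ⟨a, ha⟩ := R.exists_isMon g
    refine ⟨g * R.nMon i, mul_mem hg (R.ne_mem_Nw i), i, ?_⟩
    rw [map_mul, Equiv.Perm.mul_apply, R.monPerm_nMon, wperm_sroot, (ha (R.sroot i)).2.2.1, hi, negF_negF]

theorem he_conj_simple {g : G} {σ : Equiv.Perm (Fin D.nroots)} {a : Fin D.nroots → F} (hg : R.IsMon g σ a)
    (i : Fin D.rank) {c : F} (hc : c ≠ 0) : g * R.he (D.simple i) c * g⁻¹ = R.he (σ (R.sroot i)) c := by
  have ha := (hg (R.sroot i)).1
  have h1 := IsMon.conj_ne R hg (R.sroot i) ((a (R.sroot i))⁻¹ * c)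
  have h2 := IsMon.conj_ne R hg (R.sroot i) ((a (R.sroot i))⁻¹ * -1)
  rw [mul_inv_cancel_left₀ ha] at h1 h2
  show _ = R.ne (σ (R.sroot i)) c * R.ne (σ (R.sroot i)) (-1)
  rw [← h1, ← h2]
  generalize hd : (a (R.sroot i))⁻¹ = d
  have hd0 : d ≠ 0 := hd ▸ inv_ne_zero ha
  simp only [sroot]
  rw [show d * (-1 : F) = -d by ring, R.ne_neg, R.ne_eq_he_mul _ (d * c), R.ne_eq_he_mul _ d, mul_comm d c,
    ← R.hmul' i i.2 hc hd0]
  group

theorem he_mul (r : Fin D.nroots) {a b : F} (ha : a ≠ 0) (hb : b ≠ 0) :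
    R.he r a * R.he r b = R.he r (a * b) := by
  obtain ⟨g, _, i, rfl⟩ := R.exists_conj_simple r
  obtain ⟨c, hc⟩ := R.exists_isMon g
  rw [← R.he_conj_simple hc i ha, ← R.he_conj_simple hc i hb, ← R.he_conj_simple hc i (mul_ne_zero ha hb),
    ← R.hmul' i i.2 ha hb]
  group

theorem he_conj {g : G} {σ : Equiv.Perm (Fin D.nroots)} {a : Fin D.nroots → F} (hg : R.IsMon g σ a)
    (r : Fin D.nroots) {c : F} (hc : c ≠ 0) : g * R.he r c * g⁻¹ = R.he (σ r) c := by
  obtain ⟨h, _, i, rfl⟩ := R.exists_conj_simple r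
  obtain ⟨b, hb⟩ := R.exists_isMon h
  have h1 := R.he_conj_simple hb i hc
  have h2 := R.he_conj_simple (R.isMon_mul hg hb) i hc
  rw [← h1]
  rw [Equiv.Perm.mul_apply] at h2
  rw [← h2]; group

theorem he_mem (r : Fin D.nroots) {c : F} (hc : c ≠ 0) : R.he r c ∈ R.HS := by
  obtain ⟨g, hg, i, rfl⟩ := R.exists_conj_simple r
  obtain ⟨b, hb⟩ := R.exists_isMon g
  rw [← R.he_conj_simple hb i hc]
  exact (Subgroup.mem_normalizer_iff.1 (R.NS_le_normalizer_HS (Subgroup.mem_sup_right hg)) _).1 (R.he_mem_HS i hc)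

theorem ne_mem (r : Fin D.nroots) {c : F} (hc : c ≠ 0) : R.ne r c ∈ R.NS := by
  rw [R.ne_eq_he_mul]
  refine mul_mem (Subgroup.mem_sup_left (R.he_mem r hc)) ?_
  obtain ⟨g, hg, i, rfl⟩ := R.exists_conj_simple r
  obtain ⟨b, hb⟩ := R.exists_isMon g
  have h1 := IsMon.conj_ne R hb (R.sroot i) ((b (R.sroot i))⁻¹)
  rw [mul_inv_cancel₀ (hb (R.sroot i)).1] at h1
  rw [← h1]
  refine mul_mem (mul_mem (Subgroup.mem_sup_right hg) ?_) (inv_mem (Subgroup.mem_sup_right hg))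
  simp only [sroot]
  rw [R.ne_eq_he_mul]
  exact mul_mem (Subgroup.mem_sup_left (R.he_mem_HS i (inv_ne_zero (hb (R.sroot i)).1)))
    (Subgroup.mem_sup_right (R.ne_mem_Nw i))

end Rel

end CfsgLib.Lie.Chev
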