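/-
The Weyl group of a relation system: the permutation action of the monomial group on the roots.
-/
import Cfsg.Agent.Lib.Lie.Rel.Basic

set_option autoImplicit false

namespace CfsgLib.Lie.Chev

open Cfsg.Lie (ChevalleyDatum)
open CfsgLib.Lie.Exchange

namespace Rel

variable {D : ChevalleyDatum} {X : Aux} {F : Type*} [Field F] {G : Type*} [Group G] (R : Rel D X F G)
include R

theorem HS_le_NS : R.HS ≤ R.NS := le_sup_left
theorem Nw_le_NS : R.Nw ≤ R.NS := le_sup_right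

theorem ne_simple_mem_NS (i : Fin D.rank) {c : F} (hc : c ≠ 0) : R.ne (D.simple i) c ∈ R.NS :=
  R.ne_mem (R.sroot i) hc

/-- the permutation of an element of `NS` -/
noncomputable def nsPerm : R.NS →* Equiv.Perm (Fin D.nroots) := R.monPerm.comp (Subgroup.inclusion R.NS_le_Mon)

theorem nsPerm_eq {g : R.NS} {σ : Equiv.Perm (Fin D.nroots)} {a : Fin D.nroots → F} (hg : R.IsMon g σ a) :
    R.nsPerm g = σ := R.monPerm_eq hg

theorem isMon_nsPerm (g : R.NS) : ∃ a, R.IsMon g (R.nsPerm g) a := R.exists_isMon _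

theorem nsPerm_of_mem_HS (g : R.NS) (hg : (g : G) ∈ R.HS) : R.nsPerm g = 1 := by
  obtain ⟨a, ha⟩ := R.isMon_of_mem_HS hg
  exact R.nsPerm_eq ha

theorem nsPerm_negF (g : R.NS) (r : Fin D.nroots) : R.nsPerm g (R.negF r) = R.negF (R.nsPerm g r) :=
  ((R.isMon_nsPerm g).choose_spec r).2.2.1

/-- `n_i(1)` in `NS` -/
def nS (i : Fin D.rank) : R.NS := ⟨R.ne (D.simple i) 1, R.ne_simple_mem_NS i one_ne_zero⟩

theorem nsPerm_nS (i : Fin D.rank) : R.nsPerm (R.nS i) = R.wperm i :=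
  R.nsPerm_eq (R.isMon_ne_simple i one_ne_zero)

theorem wperm_mul_self (i : Fin D.rank) : R.wperm i * R.wperm i = 1 := by
  ext s; simp [wperm_apply, R.cert.w_w i.2 s.2]

theorem nS_mul_self_mem (i : Fin D.rank) : ((R.nS i * R.nS i : R.NS) : G) ∈ R.HS := by
  have : R.ne (D.simple i) 1 * R.ne (D.simple i) 1 = (R.he (D.simple i) (-1))⁻¹ := by
    show _ = (R.ne (D.simple i) (-1) * R.ne (D.simple i) (-1))⁻¹
    rw [R.ne_neg, mul_inv_rev, inv_inv]
  show R.ne (D.simple i) 1 * R.ne (D.simple i) 1 ∈ R.HS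
  rw [this]; exact inv_mem (R.he_mem_HS i (by norm_num))

instance HS_subgroupOf_normal : (R.HS.subgroupOf R.NS).Normal :=
  Subgroup.normal_subgroupOf_of_le_normalizer R.NS_le_normalizer_HS

/-- the Weyl group as a quotient -/
abbrev WQ : Type _ := R.NS ⧸ R.HS.subgroupOf R.NS

/-- projection onto the Weyl group -/
def qmk : R.NS →* R.WQ := QuotientGroup.mk' _

theorem qmk_surjective : Function.Surjective R.qmk := QuotientGroup.mk'_surjective _

theorem qmk_eq_one {g : R.NS} : R.qmk g = 1 ↔ (g : G) ∈ R.HS := by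
  rw [qmk, QuotientGroup.mk'_apply, QuotientGroup.eq_one_iff, Subgroup.mem_subgroupOf]

/-- simple generators -/
def qgen (i : Fin D.rank) : R.WQ := R.qmk (R.nS i)

/-- action on the roots -/
noncomputable def qact : R.WQ →* Equiv.Perm (Fin D.nroots) :=
  QuotientGroup.lift _ R.nsPerm fun g hg => R.nsPerm_of_mem_HS g (Subgroup.mem_subgroupOf.1 hg)

theorem qact_qmk (g : R.NS) : R.qact (R.qmk g) = R.nsPerm g := rfl

theorem qact_qgen (i : Fin D.rank) : R.qact (R.qgen i) = R.wperm i := R.nsPerm_nS i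

/-- every element of `NS` is a word in the `n_i` times a torus element -/
theorem exists_word (g : R.NS) : ∃ l : List (Fin D.rank), R.qmk g = wprod R.qgen l := by
  obtain ⟨g, hg⟩ := g
  suffices h : ∃ l : List (Fin D.rank), ∃ t ∈ R.HS, g = t * (l.map fun i : Fin D.rank => R.ne (D.simple i) 1).prod by
    obtain ⟨l, t, ht, rfl⟩ := h
    refine ⟨l, ?_⟩
    have e : (⟨t * (l.map fun i : Fin D.rank => R.ne (D.simple i) 1).prod, hg⟩ : R.NS) =
        ⟨t, R.HS_le_NS ht⟩ * (l.map R.nS).prod := by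
      ext
      simp only [Subgroup.coe_mul, SubmonoidClass.coe_list_prod, List.map_map]
      rfl
    rw [e, map_mul, R.qmk_eq_one.2 ht, one_mul, map_list_prod, List.map_map]
    rfl
  rw [NS, sup_comm, ← SetLike.mem_coe, Subgroup.coe_mul_of_left_le_normalizer_right _ _
    (R.Nw_le_NS.trans R.NS_le_normalizer_HS)] at hg
  obtain ⟨n, hn, t, ht, rfl⟩ := hg
  simp only [SetLike.mem_coe] at hn ht
  suffices h : ∃ l : List (Fin D.rank), ∃ u ∈ R.HS, n = u * (l.map fun i : Fin D.rank => R.ne (D.simple i) 1).prod by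
    obtain ⟨l, u, hu, rfl⟩ := h
    have hP : (l.map fun i : Fin D.rank => R.ne (D.simple i) 1).prod ∈ R.NS :=
      list_prod_mem (by rintro x hx; obtain ⟨i, _, rfl⟩ := List.mem_map.1 hx; exact R.ne_simple_mem_NS i one_ne_zero)
    refine ⟨l, u * ((l.map fun i : Fin D.rank => R.ne (D.simple i) 1).prod * t * ((l.map fun i : Fin D.rank => R.ne (D.simple i) 1).prod)⁻¹),
      mul_mem hu ((Subgroup.mem_normalizer_iff.1 (R.NS_le_normalizer_HS hP) t).1 ht), ?_⟩
    simp only [mul_assoc, inv_mul_cancel_right, inv_mul_cancel, mul_one]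
  have conjH : ∀ i : Fin D.rank, ∀ u ∈ R.HS, R.ne (D.simple i) 1 * u * (R.ne (D.simple i) 1)⁻¹ ∈ R.HS :=
    fun i u hu => (Subgroup.mem_normalizer_iff.1 (R.NS_le_normalizer_HS (R.ne_simple_mem_NS i one_ne_zero)) u).1 hu
  induction hn using Subgroup.closure_induction_left with
  | one => exact ⟨[], 1, one_mem _, by simp⟩
  | mul_left x hx y _ ih =>
    obtain ⟨i, rfl⟩ := hx
    obtain ⟨l, u, hu, rfl⟩ := ih
    exact ⟨i :: l, _, conjH i u hu, by simp only [List.map_cons, List.prod_cons]; group⟩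
  | inv_mul_cancel x hx y _ ih =>
    obtain ⟨i, rfl⟩ := hx
    obtain ⟨l, u, hu, rfl⟩ := ih
    obtain ⟨m, hm⟩ : ∃ m, m = R.ne (D.simple i) 1 := ⟨_, rfl⟩
    refine ⟨i :: l, (m * m)⁻¹ * (m * u * m⁻¹), mul_mem (inv_mem (hm ▸ R.nS_mul_self_mem i)) (hm ▸ conjH i u hu), ?_⟩
    simp only [List.map_cons, List.prod_cons, ← hm]; group

theorem qgen_genInv : GenInv R.qgen where
  sq i := by rw [qgen, ← map_mul, R.qmk_eq_one]; exact R.nS_mul_self_mem i
  gen w := by
    obtain ⟨g, rfl⟩ := R.qmk_surjective w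
    obtain ⟨l, hl⟩ := R.exists_word g
    exact ⟨l, hl.symm⟩

theorem wperm_sroot_neg (i : Fin D.rank) : ¬ half D ≤ (R.wperm i (R.sroot i) : ℕ) := by
  rw [R.wperm_sroot]
  show ¬ half D ≤ D.neg (D.simple i)
  rw [R.cert.half_le_neg_iff (R.cert.simple_lt i.2)]
  exact (R.sroot_pos i).not_gt

theorem wperm_pos (i : Fin D.rank) (r : Fin D.nroots) (hr : half D ≤ (r : ℕ)) (hne : r ≠ R.sroot i) :
    half D ≤ (R.wperm i r : ℕ) :=
  R.cert.w_pos i.2 r.2 hr fun h => hne (Fin.ext h)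

theorem negF_pos_iff (r : Fin D.nroots) : half D ≤ (R.negF r : ℕ) ↔ ¬ half D ≤ (r : ℕ) := by
  show half D ≤ D.neg r ↔ _
  rw [R.cert.half_le_neg_iff r.2, not_le]

theorem wperm_injective : Function.Injective R.wperm := fun i j h => by
  by_contra hne
  have h1 := R.wperm_pos j (R.sroot i) (R.sroot_pos i) (fun e => hne (R.sroot_injective e))
  rw [← h] at h1
  exact R.wperm_sroot_neg i h1

theorem qmk_ne (i : Fin D.rank) {c : F} (hc : c ≠ 0) :
    R.qmk ⟨R.ne (D.simple i) c, R.ne_simple_mem_NS i hc⟩ = R.qgen i := by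
  have e : (⟨R.ne (D.simple i) c, R.ne_simple_mem_NS i hc⟩ : R.NS) =
      ⟨R.he (D.simple i) c, R.HS_le_NS (R.he_mem_HS i hc)⟩ * R.nS i := Subtype.ext (R.ne_eq_he_mul _ c)
  rw [e, map_mul, R.qmk_eq_one.2 (R.he_mem_HS i hc), one_mul]; rfl

theorem rootPerm : RootPerm R.qgen R.qact (fun r : Fin D.nroots => half D ≤ (r : ℕ)) R.sroot where
  toGenInv := R.qgen_genInv
  pos_p := R.sroot_pos
  not_pos i := by rw [R.qact_qgen]; exact R.wperm_sroot_neg i
  pos_of_ne i r hr hne := by rw [R.qact_qgen]; exact R.wperm_pos i r hr hne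
  conj w i j hw := by
    obtain ⟨g, rfl⟩ := R.qmk_surjective w
    rw [R.qact_qmk] at hw
    obtain ⟨a, ha⟩ := R.isMon_nsPerm g
    have h := IsMon.conj_ne R ha (R.sroot i) 1
    rw [hw, mul_one] at h
    simp only [sroot] at h
    rw [qgen, ← map_inv, ← map_mul, ← map_mul, ← R.qmk_ne j (ha (R.sroot i)).1]
    exact congrArg _ (Subtype.ext h)
  inj i j h := R.wperm_injective (by rw [← R.qact_qgen, h, R.qact_qgen])
  flip w i hpos := by
    obtain ⟨g, rfl⟩ := R.qmk_surjective w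
    rw [R.qact_qgen, R.wperm_sroot, R.qact_qmk, R.nsPerm_negF, R.negF_pos_iff, not_not]
    rwa [R.qact_qmk] at hpos

theorem qact_injective : Function.Injective R.qact := R.rootPerm.faithful

theorem mem_HS_of_nsPerm {g : R.NS} (hg : R.nsPerm g = 1) : (g : G) ∈ R.HS :=
  R.qmk_eq_one.1 (R.qact_injective (by rw [R.qact_qmk, map_one, hg]))

/-- `σ` is linear in the coordinates -/
def IsLin (σ : Equiv.Perm (Fin D.nroots)) : Prop :=
  ∀ (r : Fin D.nroots) (j : Fin D.rank),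
    X.coef j (σ r : ℕ) = ∑ i : Fin D.rank, X.coef i (r : ℕ) * X.coef j (σ (R.sroot i) : ℕ)

theorem coef_sroot (i j : Fin D.rank) : X.coef j (R.sroot i : ℕ) = if j = i then 1 else 0 := by
  show X.coef j (D.simple i) = _
  rw [R.cert.coef_simple i.2 j.2]; simp [Fin.ext_iff]

theorem isLin_one : R.IsLin 1 := fun r j => by
  simp [R.coef_sroot]

theorem isLin_mul {σ τ : Equiv.Perm (Fin D.nroots)} (hσ : R.IsLin σ) (hτ : R.IsLin τ) : R.IsLin (σ * τ) := by
  intro r j
  simp only [Equiv.Perm.mul_apply]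
  rw [hσ (τ r) j]
  simp_rw [hσ (τ (R.sroot _)) j, hτ r, Finset.sum_mul, Finset.mul_sum]
  rw [Finset.sum_comm]
  simp only [mul_assoc]

theorem isLin_wperm (k : Fin D.rank) : R.IsLin (R.wperm k) := by
  intro r j
  have e : ∀ i : Fin D.rank, X.coef j (R.wperm k (R.sroot i) : ℕ) =
      (if j = i then 1 else 0) - if j = k then D.cartan k (D.simple i) else 0 := by
    intro i
    rw [R.wperm_apply, R.cert.coef_w k.2 (R.sroot i).2 j.2, R.coef_sroot]
    simp only [Fin.ext_iff]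
    split_ifs <;> simp [sroot]
  simp only [e]
  simp only [R.wperm_apply, R.cert.coef_w k.2 r.2 j.2, mul_sub, Finset.sum_sub_distrib]
  rw [R.cert.cartan_eq r.2 k.2]
  simp only [mul_ite, mul_one, mul_zero, Finset.sum_ite_eq, Finset.mem_univ, if_true]
  simp only [Fin.ext_iff]
  split_ifs with h
  · rw [Fin.sum_univ_eq_sum_range (fun i => X.coef i (r : ℕ) * D.cartan k (D.simple i))]
  · simp

theorem isLin_qact (w : R.WQ) : R.IsLin (R.qact w) := by
  obtain ⟨l, rfl⟩ := R.qgen_genInv.gen w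
  induction l with
  | nil => rw [wprod_nil, map_one]; exact R.isLin_one
  | cons i l ih => rw [wprod_cons, map_mul, R.qact_qgen]; exact R.isLin_mul (R.isLin_wperm i) ih

theorem isLin_nsPerm (g : R.NS) : R.IsLin (R.nsPerm g) := R.isLin_qact (R.qmk g)

theorem exists_coef_ne_zero (r : Fin D.nroots) : ∃ j : Fin D.rank, X.coef j (r : ℕ) ≠ 0 := by
  obtain ⟨j, hj⟩ := R.exists_cor_ne_zero r.2
  exact ⟨j, fun h => hj (by rw [(R.cert.coef_zero_iff r.2 j.2).1 h, Int.cast_zero])⟩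

/-- the longest element maps positive roots to negative roots -/
theorem exists_opposite : ∃ g : R.NS, ∀ r : Fin D.nroots, half D ≤ (R.nsPerm g r : ℕ) ↔ ¬ half D ≤ (r : ℕ) := by
  obtain ⟨w, hw⟩ := R.rootPerm.exists_longest
  obtain ⟨g, rfl⟩ := R.qmk_surjective w
  refine ⟨g, ?_⟩
  have key : ∀ r : Fin D.nroots, half D ≤ (r : ℕ) → ¬ half D ≤ (R.nsPerm g r : ℕ) := by
    intro r hr hpos
    obtain ⟨j, hj⟩ := R.exists_coef_ne_zero (R.nsPerm g r)
    refine hj (le_antisymm ?_ (R.cert.coef_nonneg (R.nsPerm g r).2 j.2 hpos))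
    rw [R.isLin_nsPerm g r j]
    refine Finset.sum_nonpos fun i _ => mul_nonpos_of_nonneg_of_nonpos (R.cert.coef_nonneg r.2 i.2 hr) ?_
    have h1 : ¬ half D ≤ (R.nsPerm g (R.sroot i) : ℕ) := hw i
    have h2 := R.cert.coef_nonneg (R.negF (R.nsPerm g (R.sroot i))).2 j.2 ((R.negF_pos_iff _).2 h1)
    rw [show (R.negF (R.nsPerm g (R.sroot i)) : ℕ) = D.neg (R.nsPerm g (R.sroot i) : ℕ) from rfl,
      R.cert.coef_neg (R.nsPerm g (R.sroot i)).2 j.2] at h2
    omega
  intro r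
  refine ⟨fun h hr => key r hr h, fun hr => ?_⟩
  have := key (R.negF r) ((R.negF_pos_iff r).2 hr)
  rwa [R.nsPerm_negF, R.negF_pos_iff, not_not] at this

end Rel

end CfsgLib.Lie.Chev
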