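/-
Unipotent subgroups of a relation system: normal form, triangularity, the torus, splitting along a simple root.
-/
import Cfsg.Agent.Lib.Lie.Rel.Weyl

set_option autoImplicit false

namespace CfsgLib.Lie.Chev

open Cfsg.Lie (ChevalleyDatum)
open scoped Matrix

/-- closure induction where the generators are closed under inverses -/
@[elab_as_elim] theorem closure_induction_symm {G : Type*} [Group G] {s : Set G} (hinv : ∀ x ∈ s, x⁻¹ ∈ s) {p : G → Prop}
    (h1 : p 1) (hmul : ∀ x ∈ s, ∀ y, p y → p (x * y)) {g : G} (hg : g ∈ Subgroup.closure s) : p g := by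
  induction hg using Subgroup.closure_induction_left with
  | one => exact h1
  | mul_left x hx y _ ih => exact hmul x hx y ih
  | inv_mul_cancel x hx y _ ih => exact hmul _ (hinv x hx) y ih

/-- elements of `H ⊔ K` when `K` normalises `H` -/
theorem exists_mul_of_mem_sup {G : Type*} [Group G] {H K : Subgroup G} (hK : K ≤ Subgroup.normalizer (H : Set G))
    {g : G} (hg : g ∈ H ⊔ K) : ∃ h ∈ H, ∃ k ∈ K, g = h * k := by
  rw [← SetLike.mem_coe, Subgroup.coe_mul_of_right_le_normalizer_left _ _ hK] at hg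
  obtain ⟨h, hh, k, hk, e⟩ := hg
  exact ⟨h, hh, k, hk, e.symm⟩

/-- the positive roots -/
def posSet (D : ChevalleyDatum) : Set (Fin D.nroots) := {r | half D ≤ (r : ℕ)}
/-- the negative roots -/
def negSet (D : ChevalleyDatum) : Set (Fin D.nroots) := {r | ¬ half D ≤ (r : ℕ)}
/-- the roots of index at least `k` -/
def geSet (D : ChevalleyDatum) (k : ℕ) : Set (Fin D.nroots) := {r | k ≤ (r : ℕ)}

namespace Rel

variable {D : ChevalleyDatum} {X : Aux} {F : Type*} [Field F] {G : Type*} [Group G] (R : Rel D X F G)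
include R

/-- the matrix of an element -/
def mat (g : G) : Matrix D.Idx D.Idx F := (R.θ g : GL D.Idx F)

theorem mat_mul (g h : G) : R.mat (g * h) = R.mat g * R.mat h := by simp [mat]
theorem mat_one : R.mat 1 = 1 := by simp [mat]
theorem mat_xe (r : ℕ) (t : F) : R.mat (R.xe r t) = D.x F r t := R.θ_xe r t

theorem θ_eq_of_mat {g h : G} (e : R.mat g = R.mat h) : R.θ g = R.θ h := Units.ext e

theorem mat_ne (r : ℕ) (c : F) : R.mat (R.ne r c) = D.nMat F r c := by
  simp [ne, neOf, mat_mul, mat_xe, ChevalleyDatum.nMat, ChevalleyDatum.wordMat, ChevalleyDatum.nWord, mul_assoc]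

theorem mat_he (r : ℕ) (c : F) : R.mat (R.he r c) = D.hMat F r c := by
  show R.mat (R.ne r c * R.ne r (-1)) = _
  rw [R.mat_mul, R.mat_ne, R.mat_ne]
  simp [ChevalleyDatum.hMat, ChevalleyDatum.hWord, ChevalleyDatum.nMat, ChevalleyDatum.wordMat, List.prod_append]

/-- subgroup generated by the root elements of a set of roots -/
def US (S : Set (Fin D.nroots)) : Subgroup G :=
  Subgroup.closure {g | ∃ r ∈ S, ∃ t, g = R.xe (r : ℕ) t}

theorem xe_mem_US {S : Set (Fin D.nroots)} {r : Fin D.nroots} (hr : r ∈ S) (t : F) : R.xe r t ∈ R.US S :=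
  Subgroup.subset_closure ⟨r, hr, t, rfl⟩

theorem US_mono {S T : Set (Fin D.nroots)} (h : S ⊆ T) : R.US S ≤ R.US T :=
  Subgroup.closure_mono (by rintro _ ⟨r, hr, t, rfl⟩; exact ⟨r, h hr, t, rfl⟩)

theorem US_le {S : Set (Fin D.nroots)} {H : Subgroup G} (h : ∀ r ∈ S, ∀ t, R.xe (r : ℕ) t ∈ H) : R.US S ≤ H :=
  (Subgroup.closure_le _).2 (by rintro _ ⟨r, hr, t, rfl⟩; exact h r hr t)

theorem gens_symm {S : Set (Fin D.nroots)} : ∀ x ∈ {g | ∃ r ∈ S, ∃ t, g = R.xe (r : ℕ) t},
    x⁻¹ ∈ {g | ∃ r ∈ S, ∃ t, g = R.xe (r : ℕ) t} := by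
  rintro _ ⟨r, hr, t, rfl⟩; exact ⟨r, hr, -t, (R.xe_neg _ _).symm⟩

theorem IsMon.conj_mem_US {g : G} {σ : Equiv.Perm (Fin D.nroots)} {a : Fin D.nroots → F} (hg : R.IsMon g σ a)
    {S T : Set (Fin D.nroots)} (hST : ∀ r ∈ S, σ r ∈ T) {u : G} (hu : u ∈ R.US S) : g * u * g⁻¹ ∈ R.US T := by
  induction hu using Subgroup.closure_induction with
  | mem x hx =>
    obtain ⟨r, hr, t, rfl⟩ := hx
    rw [(hg r).2.2.2 t]; exact R.xe_mem_US (hST r hr) _
  | one => simp
  | mul x y _ _ hx hy => have := mul_mem hx hy; simpa [mul_assoc] using this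
  | inv x _ hx => have := inv_mem hx; simpa [mul_assoc] using this

/-- `U` -/
def UP : Subgroup G := R.US (posSet D)
/-- `V` -/
def UN : Subgroup G := R.US (negSet D)
/-- `B` -/
def BS : Subgroup G := R.UP ⊔ R.HS

theorem UP_le_BS : R.UP ≤ R.BS := le_sup_left
theorem HS_le_BS : R.HS ≤ R.BS := le_sup_right

theorem HS_le_normalizer_US (S : Set (Fin D.nroots)) : R.HS ≤ Subgroup.normalizer (R.US S : Set G) := by
  rw [Subgroup.le_normalizer_iff]
  intro h hh u hu
  obtain ⟨a, ha⟩ := R.isMon_of_mem_HS hh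
  exact IsMon.conj_mem_US R ha (fun r hr => hr) hu

theorem exists_of_mem_BS {g : G} (hg : g ∈ R.BS) : ∃ u ∈ R.UP, ∃ h ∈ R.HS, g = u * h :=
  exists_mul_of_mem_sup (R.HS_le_normalizer_US _) hg

/-- conjugating a root element by another one -/
theorem xe_conj_mem {r s : Fin D.nroots} (hne : s ≠ r) (hneg : s ≠ R.negF r) {T : Set (Fin D.nroots)}
    (hr : r ∈ T) (hT : ∀ c ∈ D.commTerms r s, ∀ h : c.1 < D.nroots, (⟨c.1, h⟩ : Fin D.nroots) ∈ T) (t u : F) :
    (R.xe (s : ℕ) u)⁻¹ * R.xe (r : ℕ) t * R.xe (s : ℕ) u ∈ R.US T := by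
  have h := R.xe_comm r s t u r.2 s.2 (fun e => hne (Fin.ext e)) (fun e => hneg (Fin.ext e))
  have hW : ((D.commWord F r s t u).map fun p => R.xe p.1 p.2).prod ∈ R.US T := by
    refine list_prod_mem fun x hx => ?_
    simp only [ChevalleyDatum.commWord, List.map_map, List.mem_map, Function.comp_apply] at hx
    obtain ⟨c, hc, rfl⟩ := hx
    have hlt := (R.cert.commTerms_props r.2 s.2 c hc).1
    exact R.xe_mem_US (r := ⟨c.1, hlt⟩) (hT c hc hlt) _
  generalize ((D.commWord F r s t u).map fun p => R.xe p.1 p.2).prod = W at h hW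
  have e : (R.xe (s : ℕ) u)⁻¹ * R.xe (r : ℕ) t * R.xe (s : ℕ) u = R.xe (r : ℕ) t * W⁻¹ := by
    rw [eq_mul_inv_iff_mul_eq, mul_assoc, mul_assoc, ← mul_assoc (R.xe (r : ℕ) t), ← h, inv_mul_cancel_left]
  rw [e]
  exact mul_mem (R.xe_mem_US hr t) (inv_mem hW)

/-- a generated subgroup is normalised by a root element as soon as its generators are -/
theorem xe_mem_normalizer {s : ℕ} {T : Set (Fin D.nroots)}
    (h : ∀ r ∈ T, ∀ t u, (R.xe s u)⁻¹ * R.xe (r : ℕ) t * R.xe s u ∈ R.US T) (u : F) :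
    R.xe s u ∈ Subgroup.normalizer (R.US T : Set G) := by
  have key : ∀ v g, g ∈ R.US T → R.xe s v * g * (R.xe s v)⁻¹ ∈ R.US T := by
    intro v g hg
    induction hg using Subgroup.closure_induction with
    | mem x hx =>
      obtain ⟨r, hr, t, rfl⟩ := hx
      have := h r hr t (-v)
      rwa [R.xe_neg, inv_inv] at this
    | one => simp
    | mul x y _ _ hx hy => have := mul_mem hx hy; simpa [mul_assoc] using this
    | inv x _ hx => have := inv_mem hx; simpa [mul_assoc] using this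
  rw [Subgroup.mem_normalizer_iff]
  refine fun g => ⟨key u g, fun hg => ?_⟩
  have := key (-u) _ hg
  rw [R.xe_neg, inv_inv] at this
  simpa [mul_assoc] using this

omit R in
theorem geSet_succ_subset (k : ℕ) : geSet D (k + 1) ⊆ geSet D k := fun r (hr : k + 1 ≤ (r : ℕ)) => by
  show k ≤ (r : ℕ); omega

omit R in
theorem geSet_half : geSet D (half D) = (posSet D) := rfl

theorem US_geSet_normal {k : ℕ} (hk : half D ≤ k) : R.UP ≤ Subgroup.normalizer (R.US (geSet D k) : Set G) := by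
  refine R.US_le fun s hs t => R.xe_mem_normalizer (fun r hr t' u => ?_) t
  have hr' : half D ≤ (r : ℕ) := le_trans hk hr
  by_cases hrs : s = r
  · subst hrs
    rw [mul_assoc, R.xe_add', ← R.xe_neg, R.xe_add']
    exact R.xe_mem_US hr _
  · refine R.xe_conj_mem hrs (fun e => ?_) hr (fun c hc h => ?_) t' u
    · exact (R.negF_pos_iff r).1 (e ▸ hs) hr'
    · have := (R.cert.commTerms_props r.2 s.2 c hc).2.2.2.1 hr' hs
      show k ≤ c.1
      have hr'' : k ≤ (r : ℕ) := hr
      omega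

theorem US_geSet_eq_bot {k : ℕ} (hk : D.nroots ≤ k) : R.US (geSet D k) = ⊥ :=
  (Subgroup.eq_bot_iff_forall _).2 fun g hg => by
    have hle : R.US (geSet D k) ≤ ⊥ := R.US_le fun r hr _ => absurd (r.2.trans_le hk) (not_lt.2 hr)
    simpa using hle hg

theorem exists_of_mem_geSet {k : ℕ} (hk : half D ≤ k) {g : G} (hg : g ∈ R.US (geSet D k)) :
    ∃ a, ∃ v ∈ R.US (geSet D (k + 1)), g = R.xe k a * v := by
  refine closure_induction_symm R.gens_symm ?h1 ?hmul hg
  case h1 => exact ⟨0, 1, one_mem _, by rw [R.xe_zero, one_mul]⟩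
  case hmul =>
    intro x hx y ih
    obtain ⟨r, hr, t, rfl⟩ := hx
    obtain ⟨a, v, hv, rfl⟩ := ih
    rcases (show k ≤ (r : ℕ) from hr).lt_or_eq with hlt | he
    · have hn : R.xe k a ∈ Subgroup.normalizer (R.US (geSet D (k + 1)) : Set G) := by
        by_cases hkn : k < D.nroots
        · exact R.US_geSet_normal (by omega) (R.xe_mem_US (r := ⟨k, hkn⟩) (show half D ≤ k from hk) a)
        · rw [R.xe_oob k a hkn]; exact one_mem _
      refine ⟨a, (R.xe k a)⁻¹ * R.xe r t * R.xe k a * v, mul_mem ?_ hv, by group⟩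
      have h1 := (Subgroup.mem_normalizer_iff.1 (inv_mem hn) _).1
        (R.xe_mem_US (S := geSet D (k + 1)) (r := r) (show k + 1 ≤ (r : ℕ) by omega) t)
      rwa [inv_inv] at h1
    · exact ⟨t + a, v, hv, by rw [← he, ← mul_assoc, R.xe_add']⟩

/-- ordered product of root elements over `k, k+1, …, k+n-1` -/
def oprod (k n : ℕ) (t : ℕ → F) : G := ((List.range' k n).map fun r => R.xe r (t r)).prod

theorem oprod_succ (k n : ℕ) (t : ℕ → F) : R.oprod k (n + 1) t = R.xe k (t k) * R.oprod (k + 1) n t := by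
  simp [oprod, List.range'_succ]

theorem oprod_congr {k n : ℕ} {t t' : ℕ → F} (h : ∀ r, k ≤ r → r < k + n → t r = t' r) :
    R.oprod k n t = R.oprod k n t' := by
  simp only [oprod]
  refine congrArg _ (List.map_congr_left fun r hr => ?_)
  rw [List.mem_range'_1] at hr
  rw [h r hr.1 hr.2]

theorem oprod_mem (n : ℕ) : ∀ (k : ℕ) (t : ℕ → F), R.oprod k n t ∈ R.US (geSet D k) := by
  induction n with
  | zero => intro k t; simp [oprod]
  | succ n ih =>
    intro k t
    rw [R.oprod_succ]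
    refine mul_mem ?_ (R.US_mono (geSet_succ_subset k) (ih (k + 1) t))
    by_cases hk : k < D.nroots
    · exact R.xe_mem_US (r := ⟨k, hk⟩) (show k ≤ k from le_rfl) _
    · rw [R.xe_oob k _ hk]; exact one_mem _

theorem exists_oprod (n : ℕ) : ∀ (k : ℕ), half D ≤ k → k + n = D.nroots → ∀ g ∈ R.US (geSet D k),
    ∃ t : ℕ → F, g = R.oprod k n t := by
  induction n with
  | zero =>
    intro k _ hk g hg
    rw [R.US_geSet_eq_bot (by omega), Subgroup.mem_bot] at hg
    exact ⟨0, by simp [hg, oprod]⟩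
  | succ n ih =>
    intro k hk hkn g hg
    obtain ⟨a, v, hv, rfl⟩ := R.exists_of_mem_geSet hk hg
    obtain ⟨t, rfl⟩ := ih (k + 1) (by omega) (by omega) v hv
    refine ⟨Function.update t k a, ?_⟩
    rw [R.oprod_succ, Function.update_self, R.oprod_congr fun r hr _ => ?_]
    rw [Function.update_of_ne (by omega)]

/-- height of a coordinate: negative roots, then the torus part, then positive roots -/
def rk : D.Idx → ℕ := Sum.elim (fun _ => half D) fun s => if (s : ℕ) < half D then (s : ℕ) else (s : ℕ) + 1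

theorem rk_le (a : D.Idx) : rk (D := D) a ≤ D.nroots := by
  have := R.cert.nroots_eq
  cases a with
  | inl j => simp [rk]; omega
  | inr s => have := s.2; simp only [rk, Sum.elim_inr]; split_ifs <;> omega

/-- upper unitriangular -/
def IsUT (M : Matrix D.Idx D.Idx F) : Prop :=
  (∀ a, M a a = 1) ∧ ∀ a b, a ≠ b → rk (D := D) a ≤ rk (D := D) b → M a b = 0

/-- upper triangular -/
def IsTri (M : Matrix D.Idx D.Idx F) : Prop := ∀ a b, a ≠ b → rk (D := D) a ≤ rk (D := D) b → M a b = 0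

theorem isTri_mul {M N : Matrix D.Idx D.Idx F} (hM : IsTri M) (hN : IsTri N) :
    IsTri (M * N) ∧ ∀ a, (M * N) a a = M a a * N a a := by
  have _ := R
  have key : ∀ a b c, rk (D := D) a ≤ rk (D := D) b → c ≠ a ∨ c ≠ b → M a c * N c b = 0 := by
    intro a b c hab hc
    by_cases h1 : c = a
    · subst h1
      rw [hN c b (hc.resolve_left (not_not.2 rfl)) hab, mul_zero]
    · by_cases h2 : rk (D := D) a ≤ rk (D := D) c
      · rw [hM a c (Ne.symm h1) h2, zero_mul]
      · by_cases h3 : c = b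
        · subst h3; omega
        · rw [hN c b h3 (by omega), mul_zero]
  refine ⟨fun a b hne hab => ?_, fun a => ?_⟩
  · rw [Matrix.mul_apply]
    refine Finset.sum_eq_zero fun c _ => key a b c hab ?_
    by_cases h : c = a
    · exact Or.inr (h ▸ hne)
    · exact Or.inl h
  · rw [Matrix.mul_apply, Finset.sum_eq_single a]
    · intro c _ hc; exact key a a c le_rfl (Or.inl hc)
    · simp

theorem isTri_one : IsTri (1 : Matrix D.Idx D.Idx F) := fun a b h _ => Matrix.one_apply_ne h

theorem isUT_mul {M N : Matrix D.Idx D.Idx F} (hM : IsUT M) (hN : IsUT N) : IsUT (M * N) := by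
  obtain ⟨h1, h2⟩ := R.isTri_mul hM.2 hN.2
  exact ⟨fun a => by rw [h2, hM.1, hN.1, one_mul], h1⟩

theorem isUT_x {r : ℕ} (hr : r < D.nroots) (hp : half D ≤ r) (t : F) : IsUT (D.x F r t) := by
  have C := R.cert
  have hn := C.nroots_eq
  have hnr := C.neg_eq hr
  refine ⟨fun a => ?_, fun a b hne hab => ?_⟩
  · cases a with
    | inl i => rw [C.xM_inl_inl hr, if_pos rfl]
    | inr u =>
      rw [C.xM_inr_inr hr, if_pos rfl, if_neg (fun h => C.neg_ne hr (h.1.symm.trans h.2)), chainSum,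
        List.sum_eq_zero, add_zero, add_zero]
      intro x hx
      obtain ⟨q, hq, rfl⟩ := List.mem_map.1 hx
      rw [if_neg]
      have := ((C.chainEntry_props hr hq).2.2.2.2.2.2.1 hp).1
      omega
  · cases a with
    | inl i =>
      cases b with
      | inl j => rw [C.xM_inl_inl hr, if_neg (fun h => hne (congrArg Sum.inl h))]
      | inr s =>
        rw [C.xM_inl_inr hr, if_neg]
        intro hs
        simp only [rk, Sum.elim_inl, Sum.elim_inr] at hab
        split_ifs at hab <;> omega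
    | inr u =>
      cases b with
      | inl j =>
        rw [C.xM_inr_inl hr, if_neg]
        intro hu
        simp only [rk, Sum.elim_inl, Sum.elim_inr, hu] at hab
        split_ifs at hab <;> omega
      | inr s =>
        have hus : (u : ℕ) ≤ s := by
          simp only [rk, Sum.elim_inr] at hab
          split_ifs at hab <;> omega
        have hne' : (u : ℕ) ≠ s := fun h => hne (congrArg Sum.inr (Fin.ext h))
        rw [C.xM_inr_inr hr, if_neg (fun h => hne (congrArg Sum.inr h)), if_neg, chainSum, List.sum_eq_zero,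
          add_zero, add_zero]
        · intro x hx
          obtain ⟨q, hq, rfl⟩ := List.mem_map.1 hx
          rw [if_neg]
          have := ((C.chainEntry_props hr hq).2.2.2.2.2.2.1 hp).1
          omega
        · rintro ⟨h1, h2⟩
          omega

theorem isUT_mat {g : G} (hg : g ∈ R.UP) : IsUT (R.mat g) := by
  refine closure_induction_symm R.gens_symm ?h1 ?hmul hg
  case h1 => rw [R.mat_one]; exact ⟨fun _ => Matrix.one_apply_eq _, R.isTri_one⟩
  case hmul =>
    intro x hx y ih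
    obtain ⟨r, hr, t, rfl⟩ := hx
    rw [R.mat_mul, R.mat_xe]
    exact R.isUT_mul (R.isUT_x r.2 hr t) ih

/-- the column of `e_{-k}` vanishes in the torus coordinates above level `k` -/
theorem mat_inl_inr {k : ℕ} (hk : half D ≤ k) {v : G} (hv : v ∈ R.US (geSet D (k + 1))) :
    IsUT (R.mat v) ∧ ∀ (a : Fin D.rank) (s : Fin D.nroots), D.nroots - 1 - k ≤ (s : ℕ) →
      R.mat v (Sum.inl a) (Sum.inr s) = 0 := by
  refine closure_induction_symm R.gens_symm ?h1 ?hmul hv
  case h1 => rw [R.mat_one]; exact ⟨⟨fun _ => Matrix.one_apply_eq _, R.isTri_one⟩, fun a s _ => by simp [Matrix.one_apply]⟩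
  case hmul =>
    intro x hx y ih
    obtain ⟨r, hr, t, rfl⟩ := hx
    have hrk : k + 1 ≤ (r : ℕ) := hr
    have := R.cert.nroots_eq
    rw [R.mat_mul, R.mat_xe]
    refine ⟨R.isUT_mul (R.isUT_x r.2 (by omega) t) ih.1, fun a s hs => ?_⟩
    rw [Matrix.mul_apply, Fintype.sum_sum_type]
    refine (congrArg₂ (· + ·) (Finset.sum_eq_zero fun b _ => ?_) (Finset.sum_eq_zero fun b _ => ?_)).trans (add_zero 0)
    · rw [ih.2 _ _ hs, mul_zero]
    · rw [R.cert.xM_inl_inr r.2]
      split_ifs with hb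
      · rw [R.cert.neg_eq r.2] at hb
        have hrlt := r.2
        rw [ih.1.2 (Sum.inr b) (Sum.inr s) (fun e => by rw [Sum.inr.injEq] at e; subst e; omega) ?_, mul_zero]
        simp only [rk, Sum.elim_inr]
        split_ifs <;> omega
      · rw [zero_mul]

theorem mat_oprod_apply {k n : ℕ} (hk : half D ≤ k) (hk' : k < D.nroots) (t : ℕ → F) (a : Fin D.rank) :
    R.mat (R.oprod k (n + 1) t) (Sum.inl a) (Sum.inr (R.negF ⟨k, hk'⟩)) = (X.cor a k : F) * t k := by
  have hv := R.mat_inl_inr hk (R.oprod_mem n (k + 1) t)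
  have hs : D.nroots - 1 - k ≤ (R.negF ⟨k, hk'⟩ : ℕ) := by
    show _ ≤ D.neg k; rw [R.cert.neg_eq hk']
  rw [R.oprod_succ, R.mat_mul, R.mat_xe, Matrix.mul_apply, Fintype.sum_sum_type]
  rw [Finset.sum_eq_zero (fun b _ => by rw [hv.2 _ _ hs, mul_zero]), zero_add,
    Finset.sum_eq_single (R.negF ⟨k, hk'⟩)]
  · rw [hv.1.1, mul_one, R.cert.xM_inl_inr hk', if_pos (show (R.negF ⟨k, hk'⟩ : ℕ) = D.neg k from rfl)]
  · intro b _ hb
    rw [R.cert.xM_inl_inr hk', if_neg (fun h : (b : ℕ) = D.neg k => hb (Fin.ext h)), zero_mul]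
  · simp

/-- uniqueness of the ordered product -/
theorem oprod_inj (n : ℕ) : ∀ (k : ℕ) (t t' : ℕ → F), half D ≤ k → k + n ≤ D.nroots →
    R.θ (R.oprod k n t) = R.θ (R.oprod k n t') → ∀ r, k ≤ r → r < k + n → t r = t' r := by
  induction n with
  | zero => intros; omega
  | succ n ih =>
    intro k t t' hk hkn he r hr hr'
    have hk' : k < D.nroots := by omega
    have h0 : t k = t' k := by
      obtain ⟨a, ha⟩ := R.exists_cor_ne_zero hk'
      refine mul_left_cancel₀ ha ?_
      rw [← R.mat_oprod_apply (n := n) hk hk' t a, ← R.mat_oprod_apply (n := n) hk hk' t' a]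
      simp only [mat, he]
    rcases hr.lt_or_eq with hlt | rfl
    · rw [R.oprod_succ, R.oprod_succ, map_mul, map_mul, h0, mul_right_inj] at he
      exact ih (k + 1) t t' (by omega) (by omega) he r (by omega) (by omega)
    · exact h0

theorem exists_oprod_UP {g : G} (hg : g ∈ R.UP) : ∃ t : ℕ → F, g = R.oprod (half D) (half D) t :=
  R.exists_oprod _ _ le_rfl (by have := R.cert.nroots_eq; omega) g (by rw [geSet_half]; exact hg)

theorem θ_injOn_UP {g h : G} (hg : g ∈ R.UP) (hh : h ∈ R.UP) (e : R.θ g = R.θ h) : g = h := by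
  obtain ⟨t, rfl⟩ := R.exists_oprod_UP hg
  obtain ⟨t', rfl⟩ := R.exists_oprod_UP hh
  exact R.oprod_congr (R.oprod_inj _ _ t t' le_rfl (by have := R.cert.nroots_eq; omega) e)

theorem eq_one_of_UP {g : G} (hg : g ∈ R.UP) (hd : ∀ a b, a ≠ b → R.mat g a b = 0) : g = 1 := by
  refine R.θ_injOn_UP hg (one_mem _) (R.θ_eq_of_mat ?_)
  rw [R.mat_one]
  ext a b
  by_cases h : a = b
  · subst h; rw [(R.isUT_mat hg).1, Matrix.one_apply_eq]
  · rw [hd a b h, Matrix.one_apply_ne h]

/-- torus elements act diagonally -/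
theorem exists_mat_HS {h : G} (hh : h ∈ R.HS) : ∃ a : Fin D.nroots → F, R.IsMon h 1 a ∧
    R.mat h = Matrix.diagonal (Sum.elim (fun _ => (1 : F)) a) := by
  refine closure_induction_symm ?hinv ?h1 ?hmul hh
  case hinv =>
    rintro _ ⟨i, c, hc, rfl⟩
    exact ⟨i, c⁻¹, inv_ne_zero hc, inv_eq_of_mul_eq_one_right (by rw [R.hmul' i i.2 hc (inv_ne_zero hc), mul_inv_cancel₀ hc, R.he_one])⟩
  case h1 => exact ⟨_, R.isMon_one, by rw [R.mat_one, ← Matrix.diagonal_one]; congr 1; funext x; cases x <;> rfl⟩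
  case hmul =>
    intro x hx y ih
    obtain ⟨i, c, hc, rfl⟩ := hx
    obtain ⟨a, ha, hm⟩ := ih
    have := R.isMon_mul (R.isMon_he_simple i hc) ha
    rw [mul_one] at this
    refine ⟨_, this, ?_⟩
    rw [R.mat_mul, R.mat_he, R.cert.hMat_simple i.2 hc, hm, Matrix.diagonal_mul_diagonal]
    congr 1; funext x; cases x <;> simp

theorem isTri_mat_HS {h : G} (hh : h ∈ R.HS) : IsTri (R.mat h) := by
  obtain ⟨a, _, ha⟩ := R.exists_mat_HS hh
  rw [ha]; exact fun x y hxy _ => Matrix.diagonal_apply_ne _ hxy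

theorem isTri_mat_BS {g : G} (hg : g ∈ R.BS) : IsTri (R.mat g) := by
  obtain ⟨u, hu, h, hh, rfl⟩ := R.exists_of_mem_BS hg
  rw [R.mat_mul]; exact (R.isTri_mul (R.isUT_mat hu).2 (R.isTri_mat_HS hh)).1

theorem UP_inf_HS : R.UP ⊓ R.HS = ⊥ := (Subgroup.eq_bot_iff_forall _).2 fun g hg => by
  obtain ⟨hu, hh⟩ := Subgroup.mem_inf.1 hg
  obtain ⟨a, _, ha⟩ := R.exists_mat_HS hh
  exact R.eq_one_of_UP hu fun x y hxy => by rw [ha, Matrix.diagonal_apply_ne _ hxy]

/-- negative root elements are not in `B`, even modulo the kernel -/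
theorem xe_not_BS {r : Fin D.nroots} (hr : ¬ half D ≤ (r : ℕ)) {t : F} (ht : t ≠ 0) {b : G} (hb : b ∈ R.BS) :
    R.θ b ≠ R.θ (R.xe r t) := fun he => by
  obtain ⟨a, ha⟩ := R.exists_cor_ne_zero r.2
  have h := R.isTri_mat_BS hb (Sum.inl a) (Sum.inr (R.negF r)) Sum.inl_ne_inr ?_
  · simp only [mat, he] at h
    rw [R.θ_xe, R.cert.xM_inl_inr r.2, if_pos (show (R.negF r : ℕ) = D.neg r from rfl)] at h
    exact mul_ne_zero ha ht h
  · have := (R.cert.half_le_neg_iff r.2).2 (by omega)
    simp only [rk, Sum.elim_inl, Sum.elim_inr]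
    show half D ≤ if (D.neg r : ℕ) < half D then (D.neg r : ℕ) else D.neg r + 1
    split_ifs <;> omega

/-- a nonnilpotency bound -/
theorem mat_sub_one_pow {g : G} (hg : g ∈ R.UP) : ∀ m : ℕ, ∀ a b, ((R.mat g - 1) ^ m) a b ≠ 0 →
    rk (D := D) b + m ≤ rk (D := D) a := by
  intro m
  induction m with
  | zero =>
    intro a b h
    rw [pow_zero, Matrix.one_apply] at h
    split_ifs at h with he
    · rw [he]; omega
    · simp at h
  | succ m ih =>
    intro a b h
    rw [pow_succ', Matrix.mul_apply] at h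
    obtain ⟨c, _, hc⟩ := Finset.exists_ne_zero_of_sum_ne_zero h
    have h1 := ih c b (right_ne_zero_of_mul hc)
    have h2 : rk (D := D) c < rk (D := D) a := by
      by_contra hcon
      refine left_ne_zero_of_mul hc ?_
      obtain ⟨u1, u2⟩ := R.isUT_mat hg
      by_cases hac : a = c
      · subst hac; rw [Matrix.sub_apply, u1, Matrix.one_apply_eq, sub_self]
      · rw [Matrix.sub_apply, u2 a c hac (not_lt.1 hcon), Matrix.one_apply_ne hac, sub_zero]
    omega

/-! ### splitting along a simple root -/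

/-- the positive roots other than `i`-th simple one -/
def restSet (i : Fin D.rank) : Set (Fin D.nroots) := {r | half D ≤ (r : ℕ) ∧ r ≠ R.sroot i}

theorem restSet_subset (i : Fin D.rank) : R.restSet i ⊆ (posSet D) := fun _ h => h.1

theorem comm_simple_mem {i : Fin D.rank} {r : Fin D.nroots} (hr : r ∈ R.restSet i) {s : Fin D.nroots}
    (hs : ∀ j : Fin D.rank, j ≠ i → X.coef j (s : ℕ) = 0) :
    ∀ c ∈ D.commTerms r s, ∀ h : c.1 < D.nroots, (⟨c.1, h⟩ : Fin D.nroots) ∈ R.restSet i := by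
  intro c hc h
  obtain ⟨_, h1, _, _, h5⟩ := R.cert.commTerms_props r.2 s.2 c hc
  obtain ⟨hr1, hr2⟩ := hr
  obtain ⟨j, hj, hji, hne⟩ : ∃ j, j < D.rank ∧ j ≠ (i : ℕ) ∧ X.coef j (r : ℕ) ≠ 0 := by
    rcases R.cert.coef_supp r.2 i.2 with h | h | h
    · exact absurd (Fin.ext h) hr2
    · exfalso
      have h0 := (R.cert.neg_lt_half_iff (R.cert.simple_lt i.2)).2 (R.sroot_pos i)
      omega
    · exact h
  have hpos : 0 < X.coef j c.1 := by
    rw [h5 j hj, hs ⟨j, hj⟩ (fun e => hji (congrArg Fin.val e)), mul_zero, add_zero]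
    have := R.cert.coef_nonneg r.2 hj hr1
    positivity
  refine ⟨?_, fun e => ?_⟩
  · show half D ≤ c.1
    by_contra hlt
    have h2 := R.cert.coef_nonneg (R.cert.neg_lt h) hj ((R.cert.half_le_neg_iff h).2 (by omega))
    rw [R.cert.coef_neg h hj] at h2
    omega
  · have e' : c.1 = D.simple i := congrArg Fin.val e
    rw [e', R.cert.coef_simple i.2 hj, if_neg hji] at hpos
    omega

theorem xe_simple_mem_normalizer (i : Fin D.rank) (t : F) :
    R.xe (D.simple i) t ∈ Subgroup.normalizer (R.US (R.restSet i) : Set G) ∧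
      R.xe (D.neg (D.simple i)) t ∈ Subgroup.normalizer (R.US (R.restSet i) : Set G) := by
  refine ⟨R.xe_mem_normalizer (fun r hr t' u => ?_) t, R.xe_mem_normalizer (fun r hr t' u => ?_) t⟩
  · refine R.xe_conj_mem (s := R.sroot i) (Ne.symm hr.2) (fun e => ?_) hr
      (R.comm_simple_mem hr fun j hj => ?_) t' u
    · exact (R.negF_pos_iff r).1 (e ▸ R.sroot_pos i) hr.1
    · rw [R.coef_sroot, if_neg hj]
  · refine R.xe_conj_mem (s := R.negF (R.sroot i)) (fun e => ?_) (fun e => ?_) hr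
      (R.comm_simple_mem hr fun j hj => ?_) t' u
    · exact (R.negF_pos_iff (R.sroot i)).1 (e ▸ hr.1) (R.sroot_pos i)
    · exact hr.2 (by rw [← R.negF_negF r, ← e, R.negF_negF])
    · show X.coef j (D.neg (D.simple i)) = 0
      rw [R.cert.coef_neg (R.cert.simple_lt i.2) j.2, R.cert.coef_simple i.2 j.2,
        if_neg (fun e => hj (Fin.ext e)), neg_zero]

theorem UP_le_normalizer_rest (i : Fin D.rank) : R.UP ≤ Subgroup.normalizer (R.US (R.restSet i) : Set G) := by
  refine R.US_le fun r hr t => ?_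
  by_cases h : r = R.sroot i
  · subst h; exact (R.xe_simple_mem_normalizer i t).1
  · exact Subgroup.le_normalizer (R.xe_mem_US (S := R.restSet i) ⟨hr, h⟩ t)

theorem exists_UP_split (i : Fin D.rank) {g : G} (hg : g ∈ R.UP) :
    ∃ v ∈ R.US (R.restSet i), ∃ t, g = v * R.xe (D.simple i) t := by
  refine closure_induction_symm R.gens_symm ?h1 ?hmul hg
  case h1 => exact ⟨1, one_mem _, 0, by rw [R.xe_zero, one_mul]⟩
  case hmul =>
    intro x hx y ih
    obtain ⟨r, hr, t, rfl⟩ := hx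
    obtain ⟨v, hv, t', rfl⟩ := ih
    by_cases h : r = R.sroot i
    · subst h
      have hn := (Subgroup.mem_normalizer_iff.1 (R.xe_simple_mem_normalizer i t).1 v).1 hv
      exact ⟨_, hn, t + t', by rw [← R.xe_add']; simp only [sroot, mul_assoc, inv_mul_cancel_left]⟩
    · exact ⟨R.xe r t * v, mul_mem (R.xe_mem_US (S := R.restSet i) ⟨hr, h⟩ t) hv, t', by rw [mul_assoc]⟩

theorem ne_conj_rest (i : Fin D.rank) {v : G} (hv : v ∈ R.US (R.restSet i)) :
    R.ne (D.simple i) 1 * v * (R.ne (D.simple i) 1)⁻¹ ∈ R.US (R.restSet i) := by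
  refine IsMon.conj_mem_US R (R.isMon_ne_simple i one_ne_zero) (T := R.restSet i) (fun r hr => ⟨R.wperm_pos i r hr.1 hr.2, fun e => ?_⟩) hv
  have := congrArg (R.wperm i) e
  rw [← Equiv.Perm.mul_apply, R.wperm_mul_self, Equiv.Perm.one_apply, R.wperm_sroot] at this
  exact (R.negF_pos_iff (R.sroot i)).1 (this ▸ hr.1) (R.sroot_pos i)

end Rel

end CfsgLib.Lie.Chev
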