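/-
The (B, N)-pair of a relation system, its core, the kernel of the matrix map, perfectness and simplicity criteria.
-/
import Cfsg.Agent.Lib.Lie.Rel.Unipotent
import Cfsg.Agent.Lib.Lie.BNPair

set_option autoImplicit false

namespace CfsgLib.Lie.Chev

open Cfsg.Lie (ChevalleyDatum)

namespace Rel

variable {D : ChevalleyDatum} {X : Aux} {F : Type*} [Field F] {G : Type*} [Group G] (R : Rel D X F G)
include R

theorem xe_pos_mem_BS {r : Fin D.nroots} (hr : half D ≤ (r : ℕ)) (t : F) : R.xe r t ∈ R.BS :=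
  R.UP_le_BS (R.xe_mem_US (S := posSet D) hr t)

theorem BS_inv {g : G} (hg : g ∈ R.BS) {b : G} (h : R.θ b = R.θ g) : R.θ b⁻¹ = R.θ g⁻¹ := by
  have _ := hg; simp [h]

/-- an element of `NS` whose image lies in the image of `B` is in the torus -/
theorem mem_HS_of_θ_BS {n b : G} (hn : n ∈ R.NS) (hb : b ∈ R.BS) (he : R.θ n = R.θ b) : n ∈ R.HS := by
  refine R.mem_HS_of_nsPerm (g := ⟨n, hn⟩) ?_
  rw [← R.qact_qmk, ← map_one R.qact]
  refine congrArg _ (R.rootPerm.toGenInv.wlen_eq_zero ?_)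
  by_contra hne
  obtain ⟨l, hl, hll⟩ := R.rootPerm.toGenInv.exists_reduced (R.qmk ⟨n, hn⟩)
  obtain ⟨l', i, rfl⟩ : ∃ l' i, l = l' ++ [i] := by
    cases l using List.reverseRecOn with
    | nil => simp at hll; exact absurd hll.symm hne
    | append_singleton l' i => exact ⟨l', i, rfl⟩
  have hlt : CfsgLib.Lie.Exchange.wlen R.qgen (R.qmk ⟨n, hn⟩ * R.qgen i) <
      CfsgLib.Lie.Exchange.wlen R.qgen (R.qmk ⟨n, hn⟩) := by
    rw [← hll, ← hl, CfsgLib.Lie.Exchange.wprod_append, CfsgLib.Lie.Exchange.wprod_cons,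
      CfsgLib.Lie.Exchange.wprod_nil, mul_one, R.rootPerm.toGenInv.cancel_right]
    have := CfsgLib.Lie.Exchange.wlen_le R.qgen l'
    simp only [List.length_append, List.length_cons, List.length_nil]; omega
  have hneg := (R.rootPerm.wlen_mul_simple_lt_iff _ _).1 hlt
  rw [R.qact_qmk] at hneg
  obtain ⟨a, ha⟩ := R.isMon_nsPerm ⟨n, hn⟩
  have h := (ha (R.sroot i)).2.2.2 1
  rw [mul_one] at h
  refine R.xe_not_BS hneg (ha (R.sroot i)).1
    (mul_mem (mul_mem hb (R.xe_pos_mem_BS (R.sroot_pos i) 1)) (inv_mem hb)) ?_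
  rw [← h]; simp [he]

theorem BS_inf_NS : R.BS ⊓ R.NS = R.HS :=
  le_antisymm (fun _ hg => R.mem_HS_of_θ_BS (Subgroup.mem_inf.1 hg).2 (Subgroup.mem_inf.1 hg).1 rfl)
    (le_inf R.HS_le_BS R.HS_le_NS)

theorem HS_conj {n : G} (hn : n ∈ R.NS) {h : G} (hh : h ∈ R.HS) : n * h * n⁻¹ ∈ R.HS :=
  (Subgroup.mem_normalizer_iff.1 (R.NS_le_normalizer_HS hn) h).1 hh

theorem xe_mem_BS_sup_NS (r : Fin D.nroots) (t : F) : R.xe r t ∈ R.BS ⊔ R.NS := by
  obtain ⟨g, hg, i, rfl⟩ := R.exists_conj_simple r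
  obtain ⟨a, ha⟩ := R.exists_isMon g
  have h := (ha (R.sroot i)).2.2.2 ((a (R.sroot i))⁻¹ * t)
  rw [mul_inv_cancel_left₀ (ha (R.sroot i)).1] at h
  rw [← h]
  exact mul_mem (mul_mem (Subgroup.mem_sup_right (R.Nw_le_NS hg))
    (Subgroup.mem_sup_left (R.xe_pos_mem_BS (R.sroot_pos i) _))) (inv_mem (Subgroup.mem_sup_right (R.Nw_le_NS hg)))

theorem BS_sup_NS : R.BS ⊔ R.NS = ⊤ := by
  rw [eq_top_iff, ← R.gen, Subgroup.closure_le]
  rintro _ ⟨r, t, rfl⟩
  by_cases hr : r < D.nroots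
  · exact R.xe_mem_BS_sup_NS ⟨r, hr⟩ t
  · rw [R.xe_oob r t hr]; exact one_mem _

/-- distinguished generators -/
def SS : Set G := {g | ∃ i : Fin D.rank, g = R.ne (D.simple i) 1}

theorem ne_conj_xe_simple (i : Fin D.rank) (t : F) :
    R.ne (D.simple i) 1 * R.xe (D.simple i) t * (R.ne (D.simple i) 1)⁻¹ = R.xe (D.neg (D.simple i)) (-t) := by
  have h := (R.isMon_ne_simple i (one_ne_zero (α := F)) (R.sroot i)).2.2.2 t
  rw [R.wperm_sroot] at h
  refine h.trans ?_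
  show R.xe (D.neg (D.simple i)) _ = _
  congr 1
  simp [sroot, R.cert.eta_simple i.2]

theorem ne_mul_xe_mul_mem (i : Fin D.rank) {n : G} (hn : n ∈ R.NS) (t : F) :
    ∃ b ∈ R.BS, ∃ m, (m = R.ne (D.simple i) 1 * n ∨ m = n) ∧ ∃ b' ∈ R.BS,
      R.ne (D.simple i) 1 * R.xe (D.simple i) t * n = b * m * b' := by
  have move : ∀ (m : R.NS) (t : F), half D ≤ ((R.nsPerm m)⁻¹ (R.sroot i) : ℕ) →
      ∃ b ∈ R.BS, R.xe (D.simple i) t * (m : G) = (m : G) * b := by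
    intro m t hpos
    obtain ⟨a, ha⟩ := R.isMon_nsPerm m
    obtain ⟨q, hq⟩ : ∃ q, q = (R.nsPerm m)⁻¹ (R.sroot i) := ⟨_, rfl⟩
    have h := (ha q).2.2.2 ((a q)⁻¹ * t)
    rw [mul_inv_cancel_left₀ (ha q).1, show R.nsPerm m q = R.sroot i from hq ▸ (R.nsPerm m).apply_symm_apply _] at h
    refine ⟨_, R.xe_pos_mem_BS (r := q) (hq ▸ hpos) ((a q)⁻¹ * t), ?_⟩
    show R.xe (R.sroot i : ℕ) t * (m : G) = _
    rw [← h]; group
  by_cases hpos : half D ≤ ((R.nsPerm ⟨n, hn⟩)⁻¹ (R.sroot i) : ℕ)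
  · obtain ⟨b, hb, e⟩ := move ⟨n, hn⟩ t hpos
    exact ⟨1, one_mem _, _, Or.inl rfl, b, hb, by rw [mul_assoc, e, one_mul, mul_assoc]⟩
  by_cases ht : t = 0
  · exact ⟨1, one_mem _, _, Or.inl rfl, 1, one_mem _, by rw [ht, R.xe_zero]; simp⟩
  have hpos' : half D ≤ ((R.nsPerm (R.nS i * ⟨n, hn⟩))⁻¹ (R.sroot i) : ℕ) := by
    rw [map_mul, R.nsPerm_nS, mul_inv_rev, inv_eq_of_mul_eq_one_left (R.wperm_mul_self i), Equiv.Perm.mul_apply,
      R.wperm_sroot, ← map_inv, R.nsPerm_negF, R.negF_pos_iff, map_inv]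
    exact hpos
  have hsq : R.ne (D.simple i) 1 * R.ne (D.simple i) 1 ∈ R.HS := R.nS_mul_self_mem i
  have e1 : R.ne (D.simple i) 1 * R.xe (D.simple i) t * n =
      R.xe (D.simple i) (-t⁻¹) * R.he (D.simple i) t⁻¹ * R.ne (D.simple i) 1 *
        (R.xe (D.simple i) (-t⁻¹) * (R.ne (D.simple i) 1 * n)) * 1 * 1 := by
    have h0 := R.ne_conj_xe_simple i t
    rw [R.xe_neg_eq _ ht, R.ne_eq_he_mul _ t⁻¹, mul_inv_eq_iff_eq_mul] at h0
    rw [h0]; group
  obtain ⟨b, hb, e⟩ := move (R.nS i * ⟨n, hn⟩) (-t⁻¹) hpos'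
  have e' : R.xe (D.simple i) (-t⁻¹) * (R.ne (D.simple i) 1 * n) = R.ne (D.simple i) 1 * n * b := e
  refine ⟨R.xe (D.simple i) (-t⁻¹) * R.he (D.simple i) t⁻¹ * (R.ne (D.simple i) 1 * R.ne (D.simple i) 1),
    mul_mem (mul_mem (R.xe_pos_mem_BS (R.sroot_pos i) _) (R.HS_le_BS (R.he_mem_HS i (inv_ne_zero ht))))
      (R.HS_le_BS hsq), n, Or.inr rfl, b, hb, ?_⟩
  rw [e1, e']; group

theorem ne_mul_BS_mul (i : Fin D.rank) {n : G} (hn : n ∈ R.NS) {b : G} (hb : b ∈ R.BS) :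
    R.ne (D.simple i) 1 * b * n ∈ DoubleCoset.doubleCoset (R.ne (D.simple i) 1 * n) (R.BS : Set G) R.BS ∪
      DoubleCoset.doubleCoset n (R.BS : Set G) R.BS := by
  obtain ⟨u, hu, h, hh, rfl⟩ := R.exists_of_mem_BS hb
  obtain ⟨v, hv, t, rfl⟩ := R.exists_UP_split i hu
  obtain ⟨b₁, hb₁, m, hm, b₂, hb₂, e⟩ := R.ne_mul_xe_mul_mem i hn t
  have hb₀ : R.ne (D.simple i) 1 * v * (R.ne (D.simple i) 1)⁻¹ ∈ R.BS :=
    R.UP_le_BS (R.US_mono (R.restSet_subset i) (R.ne_conj_rest i hv))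
  have hh' : n⁻¹ * h * n ∈ R.BS := by
    have := R.HS_conj (inv_mem hn) hh
    rw [inv_inv] at this; exact R.HS_le_BS this
  have key : R.ne (D.simple i) 1 * (v * R.xe (D.simple i) t * h) * n =
      (R.ne (D.simple i) 1 * v * (R.ne (D.simple i) 1)⁻¹ * b₁) * m * (b₂ * (n⁻¹ * h * n)) := by
    have : R.ne (D.simple i) 1 * (v * R.xe (D.simple i) t * h) * n = (R.ne (D.simple i) 1 * v *
        (R.ne (D.simple i) 1)⁻¹) * (R.ne (D.simple i) 1 * R.xe (D.simple i) t * n) * (n⁻¹ * h * n) := by group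
    rw [this, e]; group
  rcases hm with rfl | rfl
  · exact Or.inl (DoubleCoset.mem_doubleCoset.2 ⟨_, mul_mem hb₀ hb₁, _, mul_mem hb₂ hh', key⟩)
  · exact Or.inr (DoubleCoset.mem_doubleCoset.2 ⟨_, mul_mem hb₀ hb₁, _, mul_mem hb₂ hh', key⟩)

theorem ne_conj_not_le (i : Fin D.rank) :
    ¬ R.ne (D.simple i) 1 * R.xe (D.simple i) 1 * R.ne (D.simple i) 1 ∈ R.BS := fun h => by
  have hsq : R.ne (D.simple i) 1 * R.ne (D.simple i) 1 ∈ R.HS := R.nS_mul_self_mem i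
  have h2 := mul_mem h (inv_mem (R.HS_le_BS hsq))
  have e : R.ne (D.simple i) 1 * R.xe (D.simple i) 1 * R.ne (D.simple i) 1 *
      (R.ne (D.simple i) 1 * R.ne (D.simple i) 1)⁻¹ = R.xe (R.negF (R.sroot i) : ℕ) (-1) := by
    rw [show (R.negF (R.sroot i) : ℕ) = D.neg (D.simple i) from rfl, ← R.ne_conj_xe_simple i 1]; group
  rw [e] at h2
  exact R.xe_not_BS (fun hp => (R.negF_pos_iff _).1 hp (R.sroot_pos i)) (neg_ne_zero.2 one_ne_zero) h2 rfl

/-- the (B, N)-pair -/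
def bnPair : Cfsg.BNPair G where
  B := R.BS
  N := R.NS
  S := R.SS
  sup_eq_top := R.BS_sup_NS
  conj_mem n hn t ht := R.HS_le_BS (R.HS_conj hn (R.BS_inf_NS.le ht))
  subset := by rintro _ ⟨i, rfl⟩; exact R.ne_simple_mem_NS i one_ne_zero
  sq_mem := by rintro _ ⟨i, rfl⟩; exact R.HS_le_BS (R.nS_mul_self_mem i)
  inj := by
    rintro _ ⟨i, rfl⟩ _ ⟨j, rfl⟩ h
    have h1 : ((R.nS i)⁻¹ * R.nS j : R.NS).1 ∈ R.HS := R.BS_inf_NS.le ⟨h, SetLike.coe_mem _⟩
    have h2 := R.nsPerm_of_mem_HS _ h1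
    rw [map_mul, map_inv, R.nsPerm_nS, R.nsPerm_nS, inv_mul_eq_one] at h2
    rw [R.wperm_injective h2]
  closure_sup := by
    rw [R.BS_inf_NS, sup_comm]
    refine le_antisymm (sup_le R.HS_le_NS ?_) (sup_le le_sup_left ?_)
    · exact (Subgroup.closure_le _).2 (by rintro _ ⟨i, rfl⟩; exact R.ne_simple_mem_NS i one_ne_zero)
    · exact le_trans le_rfl le_sup_right
  mul_mem_union := by rintro _ ⟨i, rfl⟩ n hn b hb; exact R.ne_mul_BS_mul i hn hb
  conj_ne := by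
    rintro _ ⟨i, rfl⟩ h
    exact R.ne_conj_not_le i (h.le ⟨_, R.xe_pos_mem_BS (R.sroot_pos i) 1, rfl⟩)

/-- connectedness of the Dynkin diagram -/
def Connected (D : ChevalleyDatum) : Prop :=
  ∀ P : ℕ → Prop, (∀ i < D.rank, ∀ j < D.rank, D.cartan i (D.simple j) ≠ 0 → (P i ↔ P j)) →
    ∀ j < D.rank, (P j ↔ P 0)

theorem comm_not_mem_BS {i j : Fin D.rank} (hij : D.cartan i (D.simple j) ≠ 0) (hne : i ≠ j) :
    ¬ R.ne (D.simple i) 1 * R.ne (D.simple j) 1 * (R.ne (D.simple i) 1)⁻¹ * (R.ne (D.simple j) 1)⁻¹ ∈ R.BS := by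
  intro h
  have h1 : ((R.nS i * R.nS j * (R.nS i)⁻¹ * (R.nS j)⁻¹ : R.NS)).1 ∈ R.HS :=
    R.BS_inf_NS.le ⟨h, SetLike.coe_mem _⟩
  have h2 := R.nsPerm_of_mem_HS _ h1
  simp only [map_mul, map_inv, R.nsPerm_nS] at h2
  rw [mul_inv_eq_one, mul_inv_eq_iff_eq_mul] at h2
  have h3 := congrArg (fun σ : Equiv.Perm (Fin D.nroots) => X.coef i (σ (R.sroot j) : ℕ)) h2
  simp only [Equiv.Perm.mul_apply, R.wperm_sroot j, R.wperm_apply] at h3
  rw [show (R.negF (R.sroot j) : ℕ) = D.neg (D.simple j) from rfl, R.cert.w_neg i.2 (R.cert.simple_lt j.2),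
    R.cert.coef_neg (R.cert.w_lt i.2 (R.cert.simple_lt j.2)) i.2,
    show (R.sroot j : ℕ) = D.simple j from rfl,
    R.cert.coef_w j.2 (R.cert.w_lt i.2 (R.cert.simple_lt j.2)) i.2,
    if_neg (fun e => hne (Fin.ext e)), R.cert.coef_w i.2 (R.cert.simple_lt j.2) i.2, if_pos rfl,
    R.cert.coef_simple j.2 i.2, if_neg (fun e => hne (Fin.ext e))] at h3
  omega

theorem irreducible (hc : Connected D) : R.bnPair.Irreducible := by
  intro J hJ ⟨a, ha⟩ ⟨b, hb⟩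
  classical
  obtain ⟨i, hi, j, hj, hij⟩ : ∃ i : Fin D.rank, R.ne (D.simple i) 1 ∈ J ∧
      ∃ j : Fin D.rank, R.ne (D.simple j) 1 ∉ J ∧ (D.cartan i (D.simple j) ≠ 0 ∨ D.cartan j (D.simple i) ≠ 0) := by
    obtain ⟨i₀, rfl⟩ := hJ ha
    obtain ⟨i₁, rfl⟩ := hb.1
    by_contra hcon
    have key := hc (fun k => R.ne (D.simple k) 1 ∈ J) fun k hk l hl hne => by
      constructor <;> intro h <;> by_contra h'
      · exact hcon ⟨⟨k, hk⟩, h, ⟨l, hl⟩, h', Or.inl hne⟩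
      · exact hcon ⟨⟨l, hl⟩, h, ⟨k, hk⟩, h', Or.inr hne⟩
    exact hb.2 ((key i₁ i₁.2).2 ((key i₀ i₀.2).1 ha))
  refine ⟨_, hi, _, ⟨⟨j, rfl⟩, hj⟩, ?_⟩
  have hne : i ≠ j := fun e => hj (e ▸ hi)
  rcases hij with h | h
  · exact R.comm_not_mem_BS h hne
  · intro hB
    refine R.comm_not_mem_BS h (Ne.symm hne) ?_
    have := inv_mem (show _ ∈ R.BS from hB)
    simpa [mul_assoc] using this

/-- the opposition element conjugates `U` onto `V` -/
theorem exists_opp : ∃ n : R.NS,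
    (∀ u, u ∈ R.UP → (n : G) * u * (n : G)⁻¹ ∈ R.UN) ∧ (∀ u, u ∈ R.UN → (n : G) * u * (n : G)⁻¹ ∈ R.UP) := by
  obtain ⟨n, hn⟩ := R.exists_opposite
  obtain ⟨a, ha⟩ := R.isMon_nsPerm n
  refine ⟨n, fun u hu => IsMon.conj_mem_US R ha (T := negSet D) (fun r hr => fun h => (hn r).1 h hr) hu,
    fun u hu => IsMon.conj_mem_US R ha (T := posSet D) (fun r hr => (hn r).2 hr) hu⟩

/-- lower triangular -/
def IsLow (M : Matrix D.Idx D.Idx F) : Prop := ∀ a b, a ≠ b → rk (D := D) b ≤ rk (D := D) a → M a b = 0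

omit R in
theorem IsLow.mul {M N : Matrix D.Idx D.Idx F} (hM : IsLow M) (hN : IsLow N) : IsLow (M * N) := by
  intro a b hne hab
  rw [Matrix.mul_apply]
  refine Finset.sum_eq_zero fun c _ => ?_
  by_cases h1 : c = a
  · subst h1; rw [hN c b hne hab, mul_zero]
  · by_cases h2 : rk (D := D) c ≤ rk (D := D) a
    · rw [hM a c (Ne.symm h1) h2, zero_mul]
    · by_cases h3 : c = b
      · subst h3; omega
      · rw [hN c b h3 (by omega), mul_zero]

theorem isLow_x {r : ℕ} (hr : r < D.nroots) (hp : ¬ half D ≤ r) (t : F) : IsLow (D.x F r t) := by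
  have C := R.cert
  have hn := C.nroots_eq
  have hnr := C.neg_eq hr
  intro a b hne hab
  cases a with
  | inl i =>
    cases b with
    | inl j => rw [C.xM_inl_inl hr, if_neg (fun h => hne (congrArg Sum.inl h))]
    | inr s =>
      rw [C.xM_inl_inr hr, if_neg]
      intro hs
      simp only [rk, Sum.elim_inl, Sum.elim_inr] at hab
      split_ifs at hab <;> omega
  | inr u =>
    cases b with
    | inl j =>
      rw [C.xM_inr_inl hr, if_neg]
      intro hu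
      simp only [rk, Sum.elim_inl, Sum.elim_inr, hu] at hab
      split_ifs at hab <;> omega
    | inr s =>
      have hus : (s : ℕ) ≤ u := by
        simp only [rk, Sum.elim_inr] at hab
        split_ifs at hab <;> omega
      have hne' : (u : ℕ) ≠ s := fun h => hne (congrArg Sum.inr (Fin.ext h))
      rw [C.xM_inr_inr hr, if_neg (fun h => hne (congrArg Sum.inr h)), if_neg, chainSum, List.sum_eq_zero,
        add_zero, add_zero]
      · intro x hx
        obtain ⟨q, hq, rfl⟩ := List.mem_map.1 hx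
        rw [if_neg]
        have := (C.chainEntry_props hr hq).2.2.2.2.2.2.2 (by omega)
        omega
      · rintro ⟨h1, h2⟩
        omega

theorem isLow_mat {g : G} (hg : g ∈ R.UN) : IsLow (R.mat g) := by
  refine closure_induction_symm R.gens_symm ?h1 ?hmul hg
  case h1 => rw [R.mat_one]; exact fun a b h _ => Matrix.one_apply_ne h
  case hmul =>
    intro x hx y ih
    obtain ⟨r, hr, t, rfl⟩ := hx
    rw [R.mat_mul, R.mat_xe]
    exact (R.isLow_x r.2 hr t).mul ih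

theorem eq_one_of_UP_low {g : G} (hg : g ∈ R.UP) (hl : IsLow (R.mat g)) : g = 1 :=
  R.eq_one_of_UP hg fun a b hab => by
    rcases le_total (rk (D := D) a) (rk (D := D) b) with h | h
    · exact (R.isUT_mat hg).2 a b hab h
    · exact hl a b hab h

/-- `B ⊓ V H = H` -/
theorem BS_inf_UN_HS {g : G} (hg : g ∈ R.BS) (hg' : g ∈ R.UN ⊔ R.HS) : g ∈ R.HS := by
  obtain ⟨u, hu, h, hh, rfl⟩ := R.exists_of_mem_BS hg
  obtain ⟨v, hv, k, hk, e⟩ := exists_mul_of_mem_sup (R.HS_le_normalizer_US _) hg'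
  suffices u = 1 by rw [this, one_mul]; exact hh
  refine R.eq_one_of_UP_low hu ?_
  rw [show u = v * (k * h⁻¹) by rw [← mul_assoc, ← e]; group, R.mat_mul]
  obtain ⟨a, _, ha⟩ := R.exists_mat_HS (mul_mem hk (inv_mem hh))
  exact (R.isLow_mat hv).mul (ha ▸ fun x y hxy _ => Matrix.diagonal_apply_ne _ hxy)

theorem θ_eq_one_of_char {h : G} (hh : h ∈ R.HS) (hchar : ∀ a, R.IsMon h 1 a → ∀ r, a r = 1) : R.θ h = 1 := by
  obtain ⟨a, ha, hm⟩ := R.exists_mat_HS hh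
  rw [← map_one R.θ]
  refine R.θ_eq_of_mat ?_
  rw [hm, R.mat_one, ← Matrix.diagonal_one]
  congr 1; funext x; cases x with
  | inl j => rfl
  | inr s => exact hchar a ha s

/-- the core of `B` is killed by the matrix map -/
theorem core_le {g : G} (hg : g ∈ R.BS.normalCore) : R.θ g = 1 ∧ g ∈ R.HS := by
  have key : ∀ g, g ∈ R.BS.normalCore → g ∈ R.HS := by
    intro g hg
    obtain ⟨n, hn1, _⟩ := R.exists_opp
    refine R.BS_inf_UN_HS (Subgroup.normalCore_le _ hg) ?_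
    have h2 : (n : G)⁻¹ * g * ((n : G)⁻¹)⁻¹ ∈ R.BS :=
      Subgroup.normalCore_le _ ((Subgroup.normalCore_normal R.BS).conj_mem g hg _)
    obtain ⟨u, hu, h, hh, e⟩ := R.exists_of_mem_BS h2
    have : g = ((n : G) * u * (n : G)⁻¹) * ((n : G) * h * (n : G)⁻¹) := by
      rw [show g = (n : G) * (u * h) * (n : G)⁻¹ by rw [← e]; group]; group
    rw [this]
    exact mul_mem (Subgroup.mem_sup_left (hn1 u hu)) (Subgroup.mem_sup_right (R.HS_conj n.2 hh))
  refine ⟨R.θ_eq_one_of_char (key g hg) fun a ha r => ?_, key g hg⟩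
  have hpos : ∀ r : Fin D.nroots, half D ≤ (r : ℕ) → a r = 1 := by
    intro r hr
    by_contra hne
    have h1 : g * R.xe r 1 * g⁻¹ * (R.xe r 1)⁻¹ ∈ R.BS.normalCore := by
      have := (Subgroup.normalCore_normal R.BS).conj_mem g⁻¹ (inv_mem hg) (R.xe r 1)
      rw [show g * R.xe r 1 * g⁻¹ * (R.xe r 1)⁻¹ = g * (R.xe r 1 * g⁻¹ * (R.xe r 1)⁻¹) by group]
      exact mul_mem hg this
    rw [(ha r).2.2.2 1, mul_one, ← R.xe_neg, Equiv.Perm.one_apply, R.xe_add'] at h1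
    have h2 : R.xe r (a r + -1) = 1 := by
      rw [← Subgroup.mem_bot, ← R.UP_inf_HS]
      exact ⟨R.xe_mem_US (S := posSet D) hr _, key _ h1⟩
    rw [← R.xe_zero r] at h2
    exact hne (by linear_combination R.xe_inj_param h2)
  by_cases hr : half D ≤ (r : ℕ)
  · exact hpos r hr
  · have := hpos _ ((R.negF_pos_iff r).2 hr)
    rwa [(ha r).2.1, inv_eq_one] at this

theorem xe_conj_eq_of_mem {h : G} (hh : h ∈ R.HS) (he : R.θ h = 1) (r : ℕ) (t : F) :
    h * R.xe r t * h⁻¹ = R.xe r t := by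
  by_cases hr : r < D.nroots
  · obtain ⟨a, ha, hm⟩ := R.exists_mat_HS hh
    have : a ⟨r, hr⟩ = 1 := by
      have := congrFun (congrFun hm (Sum.inr ⟨r, hr⟩)) (Sum.inr ⟨r, hr⟩)
      rw [mat, he, Units.val_one, Matrix.one_apply_eq, Matrix.diagonal_apply_eq] at this
      exact this.symm
    rw [(ha ⟨r, hr⟩).2.2.2 t, this, one_mul]; rfl
  · rw [R.xe_oob r t hr]; group

theorem mem_center_of_mem_HS {h : G} (hh : h ∈ R.HS) (he : R.θ h = 1) : h ∈ Subgroup.center G := by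
  rw [Subgroup.mem_center_iff]
  intro g
  have hg : g ∈ Subgroup.centralizer ({h} : Set G) := by
    have : (⊤ : Subgroup G) ≤ Subgroup.centralizer ({h} : Set G) := by
      rw [← R.gen, Subgroup.closure_le]
      rintro _ ⟨r, t, rfl⟩
      rw [SetLike.mem_coe, Subgroup.mem_centralizer_iff]
      intro y hy
      rw [Set.mem_singleton_iff.1 hy, ← mul_inv_eq_iff_eq_mul, R.xe_conj_eq_of_mem hh he]
    exact this (Subgroup.mem_top g)
  exact ((Subgroup.mem_centralizer_iff.1 hg) h rfl).symm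

/-- the kernel of the matrix map lies in the torus -/
theorem ker_le_HS {g : G} (hg : R.θ g = 1) : g ∈ R.HS := by
  obtain ⟨w, hw⟩ := CfsgLib.Lie.BN.bruhat R.bnPair g
  obtain ⟨n, rfl⟩ := CfsgLib.Lie.BN.wmk_surjective R.bnPair w
  rw [CfsgLib.Lie.BN.cell_eq_doubleCoset] at hw
  obtain ⟨b, hb, b', hb', rfl⟩ := DoubleCoset.mem_doubleCoset.1 hw
  have hn : (n : G) ∈ R.HS := R.mem_HS_of_θ_BS n.2 (b := b⁻¹ * b'⁻¹) (mul_mem (inv_mem hb) (inv_mem hb')) (by
    have : (n : G) = b⁻¹ * (b * n * b') * b'⁻¹ := by group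
    rw [this, map_mul, map_mul, hg]; simp)
  obtain ⟨u, hu, h, hh, e⟩ := R.exists_of_mem_BS (mul_mem (mul_mem hb (R.HS_le_BS hn)) hb')
  rw [e] at hg ⊢
  suffices u = 1 by rw [this, one_mul]; exact hh
  refine R.eq_one_of_UP hu fun x y hxy => ?_
  obtain ⟨a, _, ha⟩ := R.exists_mat_HS (inv_mem hh)
  have : R.mat u = R.mat h⁻¹ := by
    show (R.θ u : Matrix D.Idx D.Idx F) = _
    rw [map_mul, ← eq_inv_iff_mul_eq_one] at hg
    rw [hg, ← map_inv]; rfl
  rw [this, ha, Matrix.diagonal_apply_ne _ hxy]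

theorem core_eq_ker : R.BS.normalCore = R.θ.ker := by
  refine le_antisymm (fun g hg => (R.core_le hg).1) ?_
  exact Subgroup.normal_le_normalCore.2 fun g hg => R.HS_le_BS (R.ker_le_HS hg)

theorem BS_ne_top : R.BS ≠ ⊤ := fun h =>
  R.ne_conj_not_le ⟨0, R.cert.rank_pos⟩ (h ▸ Subgroup.mem_top _)

theorem not_normal_sup_top {H : Subgroup G} [H.Normal] (hH : ∀ g ∈ H, ∀ h : G, g * h = h * g) :
    H ⊔ R.BS ≠ ⊤ := by
  intro htop
  refine R.BS_ne_top ?_
  have hle : H ⊔ R.BS ≤ Subgroup.normalizer (R.BS : Set G) := by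
    refine sup_le (fun g hg => ?_) Subgroup.le_normalizer
    rw [Subgroup.mem_normalizer_iff]
    intro x; rw [hH g hg x, mul_inv_cancel_right]
  rw [htop, top_le_iff, Subgroup.normalizer_eq_top_iff] at hle
  have := hle
  exfalso
  refine R.ne_conj_not_le ⟨0, R.cert.rank_pos⟩ ?_
  have h1 := this.conj_mem _ (R.xe_pos_mem_BS (R.sroot_pos ⟨0, R.cert.rank_pos⟩) 1)
    (R.ne (D.simple (0 : ℕ)) 1)
  have h2 := mul_mem h1 (R.HS_le_BS (R.nS_mul_self_mem ⟨0, R.cert.rank_pos⟩))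
  simpa [mul_assoc, nS, sroot] using h2

theorem center_eq_ker (hc : Connected D) : Subgroup.center G = R.θ.ker := by
  refine le_antisymm ?_ fun g hg => R.mem_center_of_mem_HS (R.ker_le_HS hg) hg
  rcases CfsgLib.Lie.BN.normal_le_core_or_sup_eq_top R.bnPair (R.irreducible hc) (Subgroup.center G) with h | h
  · exact h.trans R.core_eq_ker.le
  · exact absurd h (R.not_normal_sup_top fun g hg x => (Subgroup.mem_center_iff.1 hg x).symm)

end Rel

end CfsgLib.Lie.Chev
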