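/-
Nilpotency of U, solvability of B, perfectness and simplicity for a relation system.
-/
import Cfsg.Agent.Lib.Lie.Rel.BN

set_option autoImplicit false

namespace CfsgLib.Lie.Chev

open Cfsg.Lie (ChevalleyDatum)
open scoped commutatorElement

namespace Rel

variable {D : ChevalleyDatum} {X : Aux} {F : Type*} [Field F] {G : Type*} [Group G] (R : Rel D X F G)
include R

theorem US_geSet_le_UP {k : ℕ} (hk : half D ≤ k) : R.US (geSet D k) ≤ R.UP :=
  R.US_mono fun r (hr : k ≤ (r : ℕ)) => show half D ≤ (r : ℕ) from hk.trans hr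

theorem comm_gen_mem {k : ℕ} (hk : half D ≤ k) {r s : Fin D.nroots} (hr : k ≤ (r : ℕ)) (hs : half D ≤ (s : ℕ))
    (t u : F) : ⁅R.xe r t, R.xe s u⁆ ∈ R.US (geSet D (k + 1)) := by
  by_cases hrs : s = r
  · subst hrs
    rw [commutatorElement_def, R.xe_add', ← R.xe_neg, ← R.xe_neg, R.xe_add', R.xe_add']
    rw [show t + u + -t + -u = 0 by ring, R.xe_zero]; exact one_mem _
  have hne : s ≠ R.negF r := fun e => (R.negF_pos_iff r).1 (e ▸ hs) (hk.trans hr)
  have h := R.xe_comm r s t u r.2 s.2 (fun e => hrs (Fin.ext e)) (fun e => hne (Fin.ext e))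
  have hW : ((D.commWord F r s t u).map fun p => R.xe p.1 p.2).prod ∈ R.US (geSet D (k + 1)) := by
    refine list_prod_mem fun x hx => ?_
    simp only [ChevalleyDatum.commWord, List.map_map, List.mem_map, Function.comp_apply] at hx
    obtain ⟨c, hc, rfl⟩ := hx
    obtain ⟨hlt, _, _, h4, _⟩ := R.cert.commTerms_props r.2 s.2 c hc
    refine R.xe_mem_US (r := ⟨c.1, hlt⟩) ?_ _
    show k + 1 ≤ c.1
    have := h4 (hk.trans hr) hs
    omega
  generalize ((D.commWord F r s t u).map fun p => R.xe p.1 p.2).prod = W at h hW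
  have e : ⁅R.xe (r : ℕ) t, R.xe (s : ℕ) u⁆ = R.xe (r : ℕ) t * R.xe (s : ℕ) u * W⁻¹ *
      (R.xe (r : ℕ) t * R.xe (s : ℕ) u)⁻¹ := by
    rw [commutatorElement_def, show R.xe (r : ℕ) t * R.xe (s : ℕ) u * (R.xe (r : ℕ) t)⁻¹ * (R.xe (s : ℕ) u)⁻¹ =
      R.xe (r : ℕ) t * R.xe (s : ℕ) u * (R.xe (s : ℕ) u * R.xe (r : ℕ) t)⁻¹ by group, h]
    group
  rw [e]
  exact (Subgroup.mem_normalizer_iff.1 (R.US_geSet_normal (k := k + 1) (by omega)
    (mul_mem (R.xe_mem_US (S := posSet D) (hk.trans hr) t) (R.xe_mem_US (S := posSet D) hs u))) _).1 (inv_mem hW)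

theorem comm_mem_succ {k : ℕ} (hk : half D ≤ k) {v g : G} (hv : v ∈ R.US (geSet D k)) (hg : g ∈ R.UP) :
    ⁅v, g⁆ ∈ R.US (geSet D (k + 1)) := by
  have hN : ∀ x ∈ R.UP, ∀ w ∈ R.US (geSet D (k + 1)), x * w * x⁻¹ ∈ R.US (geSet D (k + 1)) :=
    fun x hx w hw => (Subgroup.mem_normalizer_iff.1 (R.US_geSet_normal (k := k + 1) (by omega) hx) w).1 hw
  suffices hgen : ∀ r : Fin D.nroots, k ≤ (r : ℕ) → ∀ t, ∀ g ∈ R.UP, ⁅R.xe r t, g⁆ ∈ R.US (geSet D (k + 1)) by
    refine closure_induction_symm R.gens_symm ?h1 ?hmul hv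
    case h1 => simp
    case hmul =>
      intro x hx y ih
      obtain ⟨r, hr, t, rfl⟩ := hx
      have e : ⁅R.xe (r : ℕ) t * y, g⁆ = R.xe r t * ⁅y, g⁆ * (R.xe r t)⁻¹ * ⁅R.xe (r : ℕ) t, g⁆ := by
        simp only [commutatorElement_def]; group
      rw [e]
      exact mul_mem (hN _ (R.xe_mem_US (S := posSet D) (hk.trans hr) t) _ ih) (hgen r hr t g hg)
  intro r hr t g hg
  refine closure_induction_symm R.gens_symm ?h1 ?hmul hg
  case h1 => simp
  case hmul =>
    intro x hx y ih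
    obtain ⟨s, hs, u, rfl⟩ := hx
    have e : ⁅R.xe (r : ℕ) t, R.xe (s : ℕ) u * y⁆ =
        ⁅R.xe (r : ℕ) t, R.xe (s : ℕ) u⁆ * (R.xe s u * ⁅R.xe (r : ℕ) t, y⁆ * (R.xe s u)⁻¹) := by
      simp only [commutatorElement_def]; group
    rw [e]
    exact mul_mem (R.comm_gen_mem hk hr hs t u) (hN _ (R.xe_mem_US (S := posSet D) hs u) _ ih)

theorem UP_isNilpotent : Group.IsNilpotent ↥R.UP := by
  rw [Subgroup.nilpotent_iff_finite_descending_central_series]
  refine ⟨half D, fun n => (R.US (geSet D (half D + n))).subgroupOf R.UP, ⟨?_, fun x n hx g => ?_⟩, ?_⟩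
  · show (R.US (geSet D (half D + 0))).subgroupOf R.UP = ⊤
    rw [Nat.add_zero, geSet_half]; exact Subgroup.subgroupOf_self _
  · show (⁅x, g⁆ : R.UP).1 ∈ R.US (geSet D (half D + (n + 1)))
    rw [← Nat.add_assoc]
    exact R.comm_mem_succ (Nat.le_add_right _ _) hx g.2
  · show (R.US (geSet D (half D + half D))).subgroupOf R.UP = ⊥
    rw [R.US_geSet_eq_bot (by have := R.cert.nroots_eq; omega), Subgroup.bot_subgroupOf]

theorem BS_le_normalizer_UP : R.BS ≤ Subgroup.normalizer (R.UP : Set G) :=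
  sup_le Subgroup.le_normalizer (R.HS_le_normalizer_US _)

theorem BS_isSolvable : Group.IsSolvable ↥R.BS := by
  have : Group.IsNilpotent ↥R.UP := R.UP_isNilpotent
  have : (R.UP.subgroupOf R.BS).Normal := Subgroup.normal_subgroupOf_of_le_normalizer R.BS_le_normalizer_UP
  have : Group.IsSolvable ↥(R.UP.subgroupOf R.BS) :=
    Group.isSolvable_of_surjective (G := ↥R.UP) (f := (Subgroup.subgroupOfEquivOfLe R.UP_le_BS).symm.toMonoidHom)
      (Subgroup.subgroupOfEquivOfLe R.UP_le_BS).symm.surjective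
  have : Group.IsSolvable (↥R.BS ⧸ R.UP.subgroupOf R.BS) := by
    refine Group.isSolvable_of_comm fun a b => ?_
    have key : ∀ a : ↥R.BS ⧸ R.UP.subgroupOf R.BS, ∃ h : ↥R.BS, (h : G) ∈ R.HS ∧ QuotientGroup.mk h = a := by
      intro a
      obtain ⟨x, rfl⟩ := QuotientGroup.mk_surjective a
      obtain ⟨u, hu, h, hh, e⟩ := R.exists_of_mem_BS x.2
      refine ⟨⟨h, R.HS_le_BS hh⟩, hh, QuotientGroup.eq.2 ?_⟩
      show h⁻¹ * (x : G) ∈ R.UP
      rw [e, ← mul_assoc]
      have := (Subgroup.mem_normalizer_iff.1 (R.HS_le_normalizer_US (posSet D) (inv_mem hh)) u).1 hu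
      rwa [inv_inv] at this
    obtain ⟨h, hh, rfl⟩ := key a
    obtain ⟨k, hk, rfl⟩ := key b
    rw [← QuotientGroup.mk_mul, ← QuotientGroup.mk_mul]
    exact congrArg _ (Subtype.ext (R.HS_isMulCommutative hh hk))
  exact (Group.isSolvable_iff_subgroup_quotient (R.UP.subgroupOf R.BS)).2 ⟨‹_›, ‹_›⟩

/-- criterion for perfectness -/
def PerfectData (D : ChevalleyDatum) (F : Type*) [Field F] : Prop :=
  ∀ i < D.rank, (∃ j < D.rank, ∃ c : F, c ≠ 0 ∧ c ^ D.cartan j (D.simple i) ≠ 1) ∨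
    ∃ r < D.nroots, ∃ s < D.nroots, s ≠ r ∧ s ≠ D.neg r ∧ ∃ C : ℤ, (C : F) ≠ 0 ∧
      D.commTerms r s = [(D.simple i, C, 1, 1)]

theorem perfect (h : PerfectData D F) : commutator G = ⊤ := by
  have hs : ∀ (i : Fin D.rank) (t : F), R.xe (D.simple i) t ∈ commutator G := by
    intro i t
    rcases h i i.2 with ⟨j, hj, c, hc, hne⟩ | ⟨r, hr, s, hs, hne, hneg, C, hC, e⟩
    · have hm := (R.isMon_he_simple ⟨j, hj⟩ hc (R.sroot i)).2.2.2
      obtain ⟨u, hu⟩ : ∃ u, u = t / (c ^ D.cartan j (D.simple i) - 1) := ⟨_, rfl⟩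
      have e : R.xe (D.simple i) t = ⁅R.he (D.simple j) c, R.xe (D.simple i) u⁆ := by
        rw [commutatorElement_def]
        show _ = R.he (D.simple j) c * R.xe (R.sroot i : ℕ) u * (R.he (D.simple j) c)⁻¹ * _
        rw [hm u]
        simp only [Equiv.Perm.one_apply, sroot]
        rw [← R.xe_neg, R.xe_add', hu]
        congr 1
        have h2 : c ^ D.cartan j (D.simple i) - 1 ≠ 0 := sub_ne_zero.2 hne
        field_simp
        ring
      rw [e]; exact Subgroup.commutator_mem_commutator (Subgroup.mem_top _) (Subgroup.mem_top _)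
    · have h1 := R.xe_comm r s (-t / C) 1 hr hs hne hneg
      simp only [ChevalleyDatum.commWord, e, List.map_cons, List.map_nil, List.prod_cons, List.prod_nil, mul_one,
        pow_one] at h1
      have e1 : (C : F) * -(-t / C) = t := by field_simp
      rw [e1] at h1
      have e2 : R.xe (D.simple i) t = ⁅(R.xe s 1)⁻¹, (R.xe r (-t / C))⁻¹⁆ := by
        have : R.xe (D.simple i) t = (R.xe r (-t / C) * R.xe s 1)⁻¹ * (R.xe s 1 * R.xe r (-t / C)) := by
          rw [h1]; group
        rw [this, commutatorElement_def]; group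
      rw [e2]; exact Subgroup.commutator_mem_commutator (Subgroup.mem_top _) (Subgroup.mem_top _)
  rw [eq_top_iff, ← R.gen, Subgroup.closure_le]
  rintro _ ⟨r, t, rfl⟩
  by_cases hr : r < D.nroots
  · obtain ⟨g, _, i, hi⟩ := R.exists_conj_simple ⟨r, hr⟩
    obtain ⟨a, ha⟩ := R.exists_isMon g
    have h1 := (ha (R.sroot i)).2.2.2 ((a (R.sroot i))⁻¹ * t)
    rw [mul_inv_cancel_left₀ (ha (R.sroot i)).1, hi] at h1
    exact h1 ▸ (commutator G).normal_of_characteristic.conj_mem _ (hs i _) _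
  · rw [R.xe_oob r t hr]; exact one_mem _

theorem not_comm : ¬ IsMulCommutative G := fun h => by
  have i : Fin D.rank := ⟨0, R.cert.rank_pos⟩
  have := R.ne_conj_xe_simple i 1
  rw [h.is_comm.comm (R.ne (D.simple i) 1), mul_inv_cancel_right] at this
  have h2 := R.xe_inj_root (r := R.sroot i) (r' := R.negF (R.sroot i)) one_ne_zero this
  exact R.negF_ne _ h2.symm

theorem isSimpleGroup (hinj : Function.Injective R.θ) (hc : Connected D) (hp : PerfectData D F) :
    IsSimpleGroup G where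
  exists_pair_ne := ⟨R.xe (D.simple 0) 1, 1, fun h => by
    have := R.xe_inj_param (r := R.sroot ⟨0, R.cert.rank_pos⟩) (h.trans (R.xe_zero _).symm)
    exact one_ne_zero this⟩
  eq_bot_or_eq_top_of_normal H hH := by
    rcases CfsgLib.Lie.BN.normal_le_core_or_sup_eq_top R.bnPair (R.irreducible hc) H with h | h
    · left
      rw [eq_bot_iff, ← (MonoidHom.ker_eq_bot_iff R.θ).2 hinj, ← R.core_eq_ker]
      exact h
    · right
      have : Group.IsSolvable ↥R.BS := R.BS_isSolvable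
      have hsurj : Function.Surjective ((QuotientGroup.mk' H).comp R.BS.subtype) := by
        intro q
        obtain ⟨g, rfl⟩ := QuotientGroup.mk'_surjective H q
        obtain ⟨x, hx, b, hb, rfl⟩ := Subgroup.mem_sup_of_normal_left.1 (show g ∈ H ⊔ R.BS from h ▸ Subgroup.mem_top g)
        refine ⟨⟨b, hb⟩, ?_⟩
        simp only [MonoidHom.comp_apply, map_mul]
        rw [show QuotientGroup.mk' H x = 1 from (QuotientGroup.eq_one_iff x).2 hx, one_mul]
        rfl
      have : Group.IsSolvable (G ⧸ H) := Group.isSolvable_of_surjective hsurj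
      have hcomm : commutator (G ⧸ H) = ⊤ := by
        rw [eq_top_iff]
        refine le_trans ?_ (Subgroup.map_le_iff_le_comap.2 ?_ : (commutator G).map (QuotientGroup.mk' H) ≤ _)
        · rw [R.perfect hp, Subgroup.map_top_of_surjective _ (QuotientGroup.mk'_surjective H)]
        · rw [commutator_def, Subgroup.commutator_le]
          intro a _ b _
          rw [Subgroup.mem_comap, map_commutatorElement]
          exact Subgroup.commutator_mem_commutator (Subgroup.mem_top _) (Subgroup.mem_top _)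
      by_contra hne
      have : Nontrivial (G ⧸ H) := QuotientGroup.nontrivial_iff.2 hne
      exact (Group.IsSolvable.commutator_lt_top_of_nontrivial (G ⧸ H)).ne hcomm

end Rel

end CfsgLib.Lie.Chev
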