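/-
The Chevalley group of a certified datum as a relation system, and translations of the standard subgroups.
-/
import Cfsg.Agent.Lib.Lie.Rel.Simple

set_option autoImplicit false

namespace CfsgLib.Lie.Chev

open Cfsg.Lie (ChevalleyDatum)

variable {D : ChevalleyDatum} {X : Aux} (C : Cert D X) (F : Type*) [Field F]

theorem x_oob {r : ℕ} (hr : ¬ r < D.nroots) (t : F) : D.x F r t = 1 := dif_neg hr

include C

theorem x_zero' (r : ℕ) : D.x F r (0 : F) = 1 := by
  by_cases hr : r < D.nroots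
  · exact C.x_zero hr
  · exact x_oob F hr 0

theorem x_add' (r : ℕ) (t u : F) : D.x F r t * D.x F r u = D.x F r (t + u) := by
  by_cases hr : r < D.nroots
  · exact C.x_add hr t u
  · simp [x_oob F hr]

/-- `x_r(t)` as an invertible matrix -/
def xGL (r : ℕ) (t : F) : GL D.Idx F where
  val := D.x F r t
  inv := D.x F r (-t)
  val_inv := by rw [x_add' C F, add_neg_cancel, x_zero' C F]
  inv_val := by rw [x_add' C F, neg_add_cancel, x_zero' C F]

theorem xGL_mem (r : ℕ) (t : F) : xGL C F r t ∈ D.group F := by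
  by_cases hr : r < D.nroots
  · exact Subgroup.subset_closure ⟨⟨r, hr⟩, t, dif_pos hr⟩
  · rw [show xGL C F r t = 1 from Units.ext (x_oob F hr t)]; exact one_mem _

/-- `x_r(t)` in the Chevalley group -/
def xG (r : ℕ) (t : F) : ↥(D.group F) := ⟨xGL C F r t, xGL_mem C F r t⟩

theorem xG_val (r : ℕ) (t : F) : ((xG C F r t : GL D.Idx F) : Matrix D.Idx D.Idx F) = D.x F r t := rfl

theorem xG_prod_val (w : List (ℕ × F)) :
    (((w.map fun p => xG C F p.1 p.2).prod : GL D.Idx F) : Matrix D.Idx D.Idx F) = D.wordMat F w := by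
  induction w with
  | nil => simp [ChevalleyDatum.wordMat]
  | cons a L ih =>
    simp only [List.map_cons, List.prod_cons, Subgroup.coe_mul, Units.val_mul, ih, xG_val]
    rfl

theorem xG_neOf_val (r : ℕ) (c : F) :
    (((neOf D (xG C F) r c : ↥(D.group F)) : GL D.Idx F) : Matrix D.Idx D.Idx F) = D.nMat F r c := by
  simp [neOf, xG_val, ChevalleyDatum.nMat, ChevalleyDatum.wordMat, ChevalleyDatum.nWord, mul_assoc]

theorem xG_heOf_val (r : ℕ) (c : F) :
    (((heOf D (xG C F) r c : ↥(D.group F)) : GL D.Idx F) : Matrix D.Idx D.Idx F) = D.hMat F r c := by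
  show (((neOf D (xG C F) r c * neOf D (xG C F) r (-1) : ↥(D.group F)) : GL D.Idx F) : Matrix D.Idx D.Idx F) = _
  rw [Subgroup.coe_mul, Units.val_mul, xG_neOf_val C F, xG_neOf_val C F]
  simp [ChevalleyDatum.hMat, ChevalleyDatum.hWord, ChevalleyDatum.nMat, ChevalleyDatum.wordMat, List.prod_append]

/-- the Chevalley group as a relation system -/
def chevRel : Rel D X F ↥(D.group F) where
  cert := C
  xe := xG C F
  θ := (D.group F).subtype
  θ_xe _ _ := rfl
  xe_oob r t hr := Subtype.ext (Units.ext (x_oob F hr t))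
  gen := by
    rw [eq_top_iff]
    rintro ⟨g, hg⟩ -
    induction hg using Subgroup.closure_induction with
    | mem x hx =>
      obtain ⟨r, t, h⟩ := hx
      exact Subgroup.subset_closure ⟨r, t, Subtype.ext (Units.ext (h.trans (dif_pos (t := fun h => D.xMat F ⟨r, h⟩ t) (e := fun _ => (1 : Matrix D.Idx D.Idx F)) r.2).symm))⟩
    | one => exact one_mem _
    | mul x y hx hy h1 h2 => exact mul_mem h1 h2
    | inv x hx h1 => exact inv_mem h1
  xe_add r t u hr := Subtype.ext (Units.ext (C.x_add hr t u))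
  xe_comm r s t u hr hs h1 h2 := by
    refine Subtype.ext (Units.ext ?_)
    simp only [Subgroup.coe_mul, Units.val_mul, xG_prod_val C F, xG_val]
    exact C.x_comm hr hs h1 h2 t u
  nconj i r c t hi hr hc := by
    refine Subtype.ext (Units.ext ?_)
    simp only [Subgroup.coe_mul, Units.val_mul, xG_neOf_val C F, xG_val]
    exact C.nMat_mul_x hi hr hc t
  hmul i a b hi ha hb := by
    refine Subtype.ext (Units.ext ?_)
    simp only [Subgroup.coe_mul, Units.val_mul, xG_heOf_val C F]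
    rw [C.hMat_simple hi ha, C.hMat_simple hi hb, C.hMat_simple hi (mul_ne_zero ha hb), Matrix.diagonal_mul_diagonal]
    congr 1
    funext x
    cases x with
    | inl j => simp
    | inr s => simp [mul_zpow]

theorem chevRel_injective : Function.Injective (chevRel C F).θ := Subtype.val_injective

theorem mat_chevRel (g : ↥(D.group F)) : (chevRel C F).mat g = ((g : GL D.Idx F) : Matrix D.Idx D.Idx F) := rfl

theorem map_closure_xG (P : ℕ → Prop) (hP : ∀ r, P r → r < D.nroots) :
    (Subgroup.closure {g : ↥(D.group F) | ∃ r : Fin D.nroots, P r ∧ ∃ t, g = xG C F r t}).map (D.group F).subtype =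
      Subgroup.closure {g : GL D.Idx F | ∃ (r : ℕ) (t : F), P r ∧ (g : Matrix D.Idx D.Idx F) = D.x F r t} := by
  rw [MonoidHom.map_closure]
  congr 1
  ext g
  constructor
  · rintro ⟨_, ⟨r, hr, t, rfl⟩, rfl⟩; exact ⟨r, t, hr, rfl⟩
  · rintro ⟨r, t, hr, e⟩
    exact ⟨_, ⟨⟨r, hP r hr⟩, hr, t, rfl⟩, Units.ext e.symm⟩

theorem map_US (S : Set (Fin D.nroots)) (P : ℕ → Prop) (hP : ∀ r, P r ↔ ∃ h : r < D.nroots, (⟨r, h⟩ : Fin D.nroots) ∈ S) :
    ((chevRel C F).US S).map (D.group F).subtype =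
      Subgroup.closure {g : GL D.Idx F | ∃ (r : ℕ) (t : F), P r ∧ (g : Matrix D.Idx D.Idx F) = D.x F r t} := by
  rw [← map_closure_xG C F P fun r hr => ((hP r).1 hr).1]
  congr 1
  unfold Rel.US
  congr 1
  ext g
  constructor
  · rintro ⟨r, hr, t, rfl⟩; exact ⟨r, (hP r).2 ⟨r.2, hr⟩, t, rfl⟩
  · rintro ⟨r, hr, t, rfl⟩; exact ⟨r, ((hP r).1 hr).2, t, rfl⟩

theorem isPosRoot_iff (r : ℕ) : D.IsPosRoot r ↔ ∃ h : r < D.nroots, half D ≤ r :=
  ⟨fun h => ⟨h.1, (C.pos_iff h.1).1 h⟩, fun ⟨h, hp⟩ => (C.pos_iff h).2 hp⟩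

theorem posUnipotent_eq : D.posUnipotent F = (chevRel C F).UP.map (D.group F).subtype :=
  (map_US C F (posSet D) (fun r => D.IsPosRoot r) (isPosRoot_iff C)).symm

theorem negUnipotent_eq : D.negUnipotent F = (chevRel C F).UN.map (D.group F).subtype :=
  (map_US C F (negSet D) (fun r => D.IsNegRoot r) fun r =>
    ⟨fun h => ⟨h.1, not_le.2 ((C.negRoot_iff h.1).1 h)⟩, fun ⟨h, hp⟩ => (C.negRoot_iff h).2 (not_le.1 hp)⟩).symm

theorem rootSubgroup_eq {r : ℕ} (hr : r < D.nroots) :
    D.rootSubgroup F r = ((chevRel C F).US {⟨r, hr⟩}).map (D.group F).subtype := by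
  rw [map_US C F {⟨r, hr⟩} (fun s => s = r) fun s => ⟨fun h => ⟨h ▸ hr, Fin.ext h⟩, fun ⟨_, h⟩ => congrArg Fin.val h⟩]
  unfold ChevalleyDatum.rootSubgroup
  congr 1
  ext g
  exact ⟨fun ⟨t, e⟩ => ⟨r, t, rfl, e⟩, fun ⟨_, t, h, e⟩ => ⟨t, h ▸ e⟩⟩

theorem mem_of_mat_eq {S : Subgroup ↥(D.group F)} {g : ↥(D.group F)} (hg : g ∈ S) {h : GL D.Idx F}
    (e : (h : Matrix D.Idx D.Idx F) = ((g : GL D.Idx F) : Matrix D.Idx D.Idx F)) :
    h ∈ S.map (D.group F).subtype := ⟨g, hg, Units.ext e.symm⟩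

theorem diagonalSubgroup_eq : D.diagonalSubgroup F = (chevRel C F).HS.map (D.group F).subtype := by
  refine le_antisymm ((Subgroup.closure_le _).2 ?_) (Subgroup.map_le_iff_le_comap.2 ((Subgroup.closure_le _).2 ?_))
  · rintro g ⟨r, t, hr, ht, e⟩
    exact mem_of_mat_eq C F ((chevRel C F).he_mem ⟨r, hr⟩ ht) (e.trans (xG_heOf_val C F r t).symm)
  · rintro _ ⟨i, c, hc, rfl⟩
    exact Subgroup.subset_closure ⟨D.simple i, c, C.simple_lt i.2, hc, xG_heOf_val C F _ c⟩

theorem monomialSubgroup_eq : D.monomialSubgroup F = (chevRel C F).NS.map (D.group F).subtype := by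
  refine le_antisymm (sup_le ?_ ((Subgroup.closure_le _).2 ?_)) ?_
  · rw [diagonalSubgroup_eq C F]; exact Subgroup.map_mono le_sup_left
  · rintro g ⟨r, hr, e⟩
    exact mem_of_mat_eq C F ((chevRel C F).ne_mem ⟨r, hr⟩ one_ne_zero) (e.trans (xG_neOf_val C F r 1).symm)
  · unfold Rel.NS
    rw [Subgroup.map_sup]
    refine sup_le ?_ ?_
    · rw [← diagonalSubgroup_eq C F]; exact le_sup_left
    · refine le_trans (Subgroup.map_le_iff_le_comap.2 ((Subgroup.closure_le _).2 ?_)) le_sup_right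
      rintro _ ⟨i, rfl⟩
      exact Subgroup.subset_closure ⟨D.simple i, C.simple_lt i.2, xG_neOf_val C F _ 1⟩

theorem borelSubgroup_eq : D.borelSubgroup F = (chevRel C F).BS.map (D.group F).subtype := by
  unfold Rel.BS
  rw [Subgroup.map_sup, ← posUnipotent_eq C F, ← diagonalSubgroup_eq C F]
  rfl

theorem borelSubgroup_le : D.borelSubgroup F ≤ D.group F := by
  rw [borelSubgroup_eq C F]; exact Subgroup.map_subtype_le _

theorem monomialSubgroup_le : D.monomialSubgroup F ≤ D.group F := by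
  rw [monomialSubgroup_eq C F]; exact Subgroup.map_subtype_le _

theorem subgroupOf_map (S : Subgroup ↥(D.group F)) : (S.map (D.group F).subtype).subgroupOf (D.group F) = S := by
  have _ := C
  exact Subgroup.comap_map_eq_self_of_injective Subtype.val_injective S

theorem borel_subgroupOf : (D.borelSubgroup F).subgroupOf (D.group F) = (chevRel C F).BS := by
  rw [borelSubgroup_eq C F, subgroupOf_map C F]

theorem monomial_subgroupOf : (D.monomialSubgroup F).subgroupOf (D.group F) = (chevRel C F).NS := by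
  rw [monomialSubgroup_eq C F, subgroupOf_map C F]

theorem group_eq_map : D.group F = (⊤ : Subgroup ↥(D.group F)).map (D.group F).subtype := by
  have _ := C
  rw [← MonoidHom.range_eq_map, Subgroup.range_subtype]

end CfsgLib.Lie.Chev
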