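/-
Per-datum side conditions: connected Dynkin diagram, perfectness data.
-/
import Cfsg.Agent.Lib.Lie.Rel.Inst
import Cfsg.Agent.Lib.Lie.Chev.All

set_option autoImplicit false

namespace CfsgLib.Lie.Chev

open Cfsg.Lie

/-- nodes reached from node `0` in `k` steps -/
def reach (D : ChevalleyDatum) : ℕ → List ℕ
  | 0 => [0]
  | k + 1 => (List.range D.rank).filter fun j =>
      (reach D k).any fun i => Nat.beq i j || Nat.blt i D.rank && !decide (D.cartan i (D.simple j) = 0)

/-- boolean test for `Rel.Connected` -/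
def chkConn (D : ChevalleyDatum) : Bool :=
  let L := reach D D.rank
  (List.range D.rank).all fun j => L.any fun i => Nat.beq i j

theorem reach_spec {D : ChevalleyDatum} (P : ℕ → Prop)
    (hP : ∀ i < D.rank, ∀ j < D.rank, D.cartan i (D.simple j) ≠ 0 → (P i ↔ P j)) :
    ∀ k, ∀ j ∈ reach D k, P j ↔ P 0 := by
  intro k
  induction k with
  | zero => simp [reach]
  | succ k ih =>
    intro j hj
    simp only [reach, List.mem_filter, List.mem_range, List.any_eq_true, Bool.or_eq_true, nat_beq_iff,
      Bool.and_eq_true, nat_blt_iff, Bool.not_eq_true', decide_eq_false_iff_not] at hj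
    obtain ⟨hj, i, hi, rfl | ⟨hir, hne⟩⟩ := hj
    · exact ih _ hi
    · exact (hP i hir j hj hne).symm.trans (ih i hi)

theorem connected_of_chk {D : ChevalleyDatum} (h : chkConn D = true) : Rel.Connected D := by
  intro P hP j hj
  have h1 := List.all_eq_true.1 h j (List.mem_range.2 hj)
  simp only [List.any_eq_true, nat_beq_iff] at h1
  obtain ⟨i, hi, rfl⟩ := h1
  exact reach_spec P hP _ _ hi

theorem connected_of_mem {D : ChevalleyDatum}
    (hD : D ∈ [chevG2, chevB2, chevD4, chevF4, chevE6, chevE7, chevE8]) : Rel.Connected D := by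
  simp only [List.mem_cons, List.not_mem_nil, or_false] at hD
  rcases hD with rfl | rfl | rfl | rfl | rfl | rfl | rfl <;> exact connected_of_chk (by decide +kernel)

/-- `(r, s)` has commutator `x_{p_i}` with coefficient `C` allowed by `ok` -/
def chkPair (D : ChevalleyDatum) (ok : ℤ → Bool) (i r s : ℕ) : Bool :=
  !(s == r) && !(s == D.neg r) &&
    match D.commTerms r s with
    | [(u, C, 1, 1)] => u == D.simple i && ok C
    | _ => false

/-- perfectness data without restriction on the field -/
def chkPerf (D : ChevalleyDatum) : Bool :=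
  (List.range D.rank).all fun i => (List.range D.nroots).any fun r => (List.range D.nroots).any fun s =>
    chkPair D (fun C => decide (C = 1 ∨ C = -1)) i r s

/-- perfectness data in odd characteristic -/
def chkPerfOdd (D : ChevalleyDatum) : Bool :=
  (List.range D.rank).all fun i =>
    ((List.range D.rank).any fun j => decide (D.cartan j (D.simple i) % 2 = 1)) ||
    (List.range D.nroots).any fun r => (List.range D.nroots).any fun s =>
      chkPair D (fun C => decide (C = 1 ∨ C = -1 ∨ C = 2 ∨ C = -2)) i r s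

theorem chkPair_spec {D : ChevalleyDatum} {ok : ℤ → Bool} {i r s : ℕ} (h : chkPair D ok i r s = true) :
    s ≠ r ∧ s ≠ D.neg r ∧ ∃ C, ok C = true ∧ D.commTerms r s = [(D.simple i, C, 1, 1)] := by
  simp only [chkPair, Bool.and_eq_true, Bool.not_eq_true', beq_eq_false_iff_ne] at h
  obtain ⟨⟨h1, h2⟩, h3⟩ := h
  split at h3
  · next u C e =>
    rw [Bool.and_eq_true, beq_iff_eq] at h3
    exact ⟨h1, h2, C, h3.2, by rw [e, h3.1]⟩
  · simp at h3

theorem perfectData_of_chk {D : ChevalleyDatum} (h : chkPerf D = true) (F : Type*) [Field F] :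
    Rel.PerfectData D F := by
  intro i hi
  have h1 := List.all_eq_true.1 h i (List.mem_range.2 hi)
  simp only [List.any_eq_true, List.mem_range] at h1
  obtain ⟨r, hr, s, hs, h2⟩ := h1
  obtain ⟨h3, h4, C, hC, e⟩ := chkPair_spec h2
  refine Or.inr ⟨r, hr, s, hs, h3, h4, C, ?_, e⟩
  rcases of_decide_eq_true hC with rfl | rfl <;> simp

theorem perfectData_of_big {D : ChevalleyDatum} {X : Aux} (hc : Cert D X) (hodd : chkPerfOdd D = true)
    (F : Type*) [Field F] (hF : ∃ a : F, a ≠ 0 ∧ a ≠ 1) : Rel.PerfectData D F := by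
  obtain ⟨a, ha0, ha1⟩ := hF
  intro i hi
  by_cases hsq : a ^ 2 = 1
  · have hm : a = -1 := by
      rcases mul_self_eq_one_iff.1 (show a * a = 1 by rw [← sq]; exact hsq) with h | h
      · exact absurd h ha1
      · exact h
    subst hm
    have h2 : (2 : F) ≠ 0 := fun h2 => ha1 (by linear_combination -h2)
    have h1 := List.all_eq_true.1 hodd i (List.mem_range.2 hi)
    simp only [Bool.or_eq_true, List.any_eq_true, List.mem_range] at h1
    rcases h1 with ⟨j, hj, hA⟩ | ⟨r, hr, s, hs, hp⟩
    · refine Or.inl ⟨j, hj, -1, ha0, ?_⟩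
      have hodd' : Odd (D.cartan j (D.simple i)) := Int.odd_iff.2 (of_decide_eq_true hA)
      rw [hodd'.neg_one_zpow]
      exact ha1
    · obtain ⟨h3, h4, C, hC, e⟩ := chkPair_spec hp
      refine Or.inr ⟨r, hr, s, hs, h3, h4, C, ?_, e⟩
      rcases of_decide_eq_true hC with rfl | rfl | rfl | rfl <;> simp [h2]
  · refine Or.inl ⟨i, hi, a, ha0, ?_⟩
    rw [hc.cartan_simple hi]
    exact fun h => hsq (by rw [← h]; norm_cast)

theorem perfectData_of_mem {D : ChevalleyDatum}
    (hD : D ∈ [chevG2, chevB2, chevD4, chevF4, chevE6, chevE7, chevE8]) (F : Type*) [Field F]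
    (h2 : D = chevG2 ∨ D = chevB2 → ∃ a : F, a ≠ 0 ∧ a ≠ 1) : Rel.PerfectData D F := by
  simp only [List.mem_cons, List.not_mem_nil, or_false] at hD
  rcases hD with rfl | rfl | rfl | rfl | rfl | rfl | rfl
  · exact perfectData_of_big certG2 (by decide +kernel) F (h2 (Or.inl rfl))
  · exact perfectData_of_big certB2 (by decide +kernel) F (h2 (Or.inr rfl))
  all_goals exact perfectData_of_chk (by decide +kernel) F

end CfsgLib.Lie.Chev
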