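/-
The unique normal form b n u of a relation system, and the resulting order formula.
-/
import Cfsg.Agent.Lib.Lie.Rel.Simple

set_option autoImplicit false

namespace CfsgLib.Lie.Chev

open Cfsg.Lie (ChevalleyDatum)

/-- positive roots kept positive by `σ` -/
def keepSet {D : ChevalleyDatum} (σ : Equiv.Perm (Fin D.nroots)) : Set (Fin D.nroots) :=
  {r | half D ≤ (r : ℕ) ∧ half D ≤ (σ r : ℕ)}

/-- positive roots made negative by `σ` -/
def invSet {D : ChevalleyDatum} (σ : Equiv.Perm (Fin D.nroots)) : Set (Fin D.nroots) :=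
  {r | half D ≤ (r : ℕ) ∧ ¬ half D ≤ (σ r : ℕ)}

namespace Rel

variable {D : ChevalleyDatum} {X : Aux} {F : Type*} [Field F] {G : Type*} [Group G] (R : Rel D X F G)
include R

omit R in
theorem invSet_subset (σ : Equiv.Perm (Fin D.nroots)) : invSet σ ⊆ posSet D := fun _ h => h.1
omit R in
theorem keepSet_subset (σ : Equiv.Perm (Fin D.nroots)) : keepSet σ ⊆ posSet D := fun _ h => h.1

theorem exists_geSet_split (σ : Equiv.Perm (Fin D.nroots)) (n : ℕ) :
    ∀ k, half D ≤ k → k + n = D.nroots → ∀ g ∈ R.US (geSet D k),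
      ∃ p ∈ R.US (keepSet σ), ∃ m ∈ R.US (invSet σ), g = p * m := by
  induction n with
  | zero =>
    intro k _ hk g hg
    rw [R.US_geSet_eq_bot (by omega), Subgroup.mem_bot] at hg
    exact ⟨1, one_mem _, 1, one_mem _, by rw [hg, one_mul]⟩
  | succ n ih =>
    intro k hk hkn g hg
    obtain ⟨a, v, hv, rfl⟩ := R.exists_of_mem_geSet hk hg
    have hk' : k < D.nroots := by omega
    by_cases hs : half D ≤ (σ ⟨k, hk'⟩ : ℕ)
    · obtain ⟨p, hp, m, hm, rfl⟩ := ih (k + 1) (by omega) (by omega) v hv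
      exact ⟨R.xe k a * p, mul_mem (R.xe_mem_US (S := keepSet σ) (r := ⟨k, hk'⟩) ⟨hk, hs⟩ a) hp, m, hm,
        by rw [mul_assoc]⟩
    · have hv' : R.xe k a * v * (R.xe k a)⁻¹ ∈ R.US (geSet D (k + 1)) :=
        (Subgroup.mem_normalizer_iff.1 (R.US_geSet_normal (k := k + 1) (by omega)
          (R.xe_mem_US (S := posSet D) (r := ⟨k, hk'⟩) hk a)) v).1 hv
      obtain ⟨p, hp, m, hm, e⟩ := ih (k + 1) (by omega) (by omega) _ hv'
      refine ⟨p, hp, m * R.xe k a, mul_mem hm (R.xe_mem_US (S := invSet σ) (r := ⟨k, hk'⟩) ⟨hk, hs⟩ a), ?_⟩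
      rw [← mul_assoc, ← e, inv_mul_cancel_right]

theorem exists_UP_factor (σ : Equiv.Perm (Fin D.nroots)) {g : G} (hg : g ∈ R.UP) :
    ∃ p ∈ R.US (keepSet σ), ∃ m ∈ R.US (invSet σ), g = p * m :=
  R.exists_geSet_split σ (half D) (half D) le_rfl (by have := R.cert.nroots_eq; omega) g
    (by rw [geSet_half]; exact hg)

theorem UN_inf_HS {g : G} (hu : g ∈ R.UN) (hh : g ∈ R.HS) : g = 1 := by
  obtain ⟨n, _, hn2⟩ := R.exists_opp
  have h1 := Subgroup.mem_inf.2 ⟨hn2 g hu, R.HS_conj n.2 hh⟩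
  rw [R.UP_inf_HS, Subgroup.mem_bot, mul_inv_eq_one, mul_eq_left] at h1
  exact h1

theorem BS_inf_UN {g : G} (hb : g ∈ R.BS) (hu : g ∈ R.UN) : g = 1 :=
  R.UN_inf_HS hu (R.BS_inf_UN_HS hb (Subgroup.mem_sup_left hu))

theorem conj_keep {n : R.NS} {p : G} (hp : p ∈ R.US (keepSet (R.nsPerm n))) :
    (n : G) * p * (n : G)⁻¹ ∈ R.UP := by
  obtain ⟨a, ha⟩ := R.isMon_nsPerm n
  exact IsMon.conj_mem_US R ha (T := posSet D) (fun r hr => hr.2) hp

theorem conj_inv {n : R.NS} {p : G} (hp : p ∈ R.US (invSet (R.nsPerm n))) :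
    (n : G) * p * (n : G)⁻¹ ∈ R.UN := by
  obtain ⟨a, ha⟩ := R.isMon_nsPerm n
  exact IsMon.conj_mem_US R ha (T := negSet D) (fun r hr => hr.2) hp

theorem keep_inf_inv (n : R.NS) {g : G} (hp : g ∈ R.US (keepSet (R.nsPerm n)))
    (hm : g ∈ R.US (invSet (R.nsPerm n))) : g = 1 := by
  have := R.BS_inf_UN (R.UP_le_BS (R.conj_keep hp)) (R.conj_inv hm)
  rwa [mul_inv_eq_one, mul_eq_left] at this

/-- existence of the normal form -/
theorem exists_bnu (g : G) : ∃ b ∈ R.BS, ∃ n : R.NS, ∃ u ∈ R.US (invSet (R.nsPerm n)), g = b * n * u := by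
  obtain ⟨w, hw⟩ := CfsgLib.Lie.BN.bruhat R.bnPair g
  obtain ⟨n, rfl⟩ := CfsgLib.Lie.BN.wmk_surjective R.bnPair w
  rw [CfsgLib.Lie.BN.cell_eq_doubleCoset] at hw
  obtain ⟨b, hb, b', hb', rfl⟩ := DoubleCoset.mem_doubleCoset.1 hw
  obtain ⟨u, hu, h, hh, e⟩ := R.exists_of_mem_BS (inv_mem hb')
  obtain ⟨p, hp, m, hm, e'⟩ := R.exists_UP_factor (R.nsPerm n) (inv_mem hu)
  refine ⟨b * ((n : G) * h⁻¹ * (n : G)⁻¹) * ((n : G) * p * (n : G)⁻¹),
    mul_mem (mul_mem hb (R.HS_le_BS (R.HS_conj n.2 (inv_mem hh)))) (R.UP_le_BS (R.conj_keep hp)), n, m, hm, ?_⟩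
  rw [show b' = h⁻¹ * u⁻¹ by rw [← mul_inv_rev, ← e, inv_inv], e']
  group

/-- uniqueness of the Weyl element -/
theorem bnu_weyl {b b' : G} {n n' : R.NS} {u u' : G} (hb : b ∈ R.BS) (hb' : b' ∈ R.BS)
    (hu : u ∈ R.UP) (hu' : u' ∈ R.UP) (e : b * n * u = b' * n' * u') : (n : G)⁻¹ * n' ∈ R.HS := by
  have h1 : b * n * u ∈ CfsgLib.Lie.BN.cell R.bnPair (CfsgLib.Lie.BN.wmk R.bnPair (⟨n, n.2⟩ : R.bnPair.N)) := by
    rw [CfsgLib.Lie.BN.cell_eq_doubleCoset]
    exact DoubleCoset.mem_doubleCoset.2 ⟨b, hb, u, R.UP_le_BS hu, rfl⟩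
  have h2 : b * n * u ∈ CfsgLib.Lie.BN.cell R.bnPair (CfsgLib.Lie.BN.wmk R.bnPair (⟨n', n'.2⟩ : R.bnPair.N)) := by
    rw [CfsgLib.Lie.BN.cell_eq_doubleCoset, e]
    exact DoubleCoset.mem_doubleCoset.2 ⟨b', hb', u', R.UP_le_BS hu', rfl⟩
  have h3 := (CfsgLib.Lie.BN.wmk_eq_iff R.bnPair _ _).1 (CfsgLib.Lie.BN.cell_inj R.bnPair h1 h2)
  exact R.BS_inf_NS.le (Subgroup.mem_inf.2 ⟨h3, mul_mem (inv_mem n.2) n'.2⟩)

/-- uniqueness of the other factors -/
theorem bnu_unique {b b' : G} {n : R.NS} {u u' : G} (hb : b ∈ R.BS) (hb' : b' ∈ R.BS)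
    (hu : u ∈ R.US (invSet (R.nsPerm n))) (hu' : u' ∈ R.US (invSet (R.nsPerm n)))
    (e : b * n * u = b' * n * u') : b = b' ∧ u = u' := by
  have h1 : b'⁻¹ * b = (n : G) * (u' * u⁻¹) * (n : G)⁻¹ := by
    rw [show b = b' * n * u' * u⁻¹ * (n : G)⁻¹ by rw [← e]; group]; group
  have h2 := R.BS_inf_UN (mul_mem (inv_mem hb') hb) (h1 ▸ R.conj_inv (mul_mem hu' (inv_mem hu)))
  have h3 : b = b' := (inv_mul_eq_one.1 h2).symm
  exact ⟨h3, by rw [h3] at e; exact mul_left_cancel e⟩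

/-- a representative in the monomial group -/
noncomputable def rep (w : R.WQ) : R.NS := (R.qmk_surjective w).choose

theorem qmk_rep (w : R.WQ) : R.qmk (R.rep w) = w := (R.qmk_surjective w).choose_spec

theorem nsPerm_rep (w : R.WQ) : R.nsPerm (R.rep w) = R.qact w := by
  rw [← R.qact_qmk, R.qmk_rep]

/-- the normal form as an equivalence -/
noncomputable def bnuEquiv : (Σ w : R.WQ, ↥R.BS × ↥(R.US (invSet (R.qact w)))) ≃ G :=
  Equiv.ofBijective (fun x => (x.2.1 : G) * R.rep x.1 * x.2.2) (by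
    constructor
    · rintro ⟨w, ⟨b, hb⟩, ⟨u, hu⟩⟩ ⟨w', ⟨b', hb'⟩, ⟨u', hu'⟩⟩ e
      simp only at e
      have h := R.bnu_weyl (n := R.rep w) (n' := R.rep w') hb hb' (R.US_mono (invSet_subset _) hu)
        (R.US_mono (invSet_subset _) hu') e
      have hw : w = w' := by
        rw [← R.qmk_rep w, ← R.qmk_rep w']
        exact QuotientGroup.eq.2 (Subgroup.mem_subgroupOf.2 h)
      subst hw
      rw [← R.nsPerm_rep] at hu hu'
      obtain ⟨rfl, rfl⟩ := R.bnu_unique hb hb' hu hu' e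
      rfl
    · intro g
      obtain ⟨b, hb, n, u, hu, rfl⟩ := R.exists_bnu g
      have hσ : R.nsPerm n = R.qact (R.qmk n) := rfl
      rw [hσ] at hu
      have hH : (n : G) * (R.rep (R.qmk n) : G)⁻¹ ∈ R.HS :=
        (R.qmk_eq_one (g := n * (R.rep (R.qmk n))⁻¹)).1 (by rw [map_mul, map_inv, R.qmk_rep, mul_inv_cancel])
      refine ⟨⟨R.qmk n, ⟨b * ((n : G) * (R.rep (R.qmk n) : G)⁻¹), mul_mem hb (R.HS_le_BS hH)⟩, ⟨u, hu⟩⟩, ?_⟩
      simp only [mul_assoc, inv_mul_cancel_left])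

/-- the torus as a commutative group -/
def hsCommGroup : CommGroup ↥R.HS :=
  { (inferInstance : Group ↥R.HS) with mul_comm := fun a b => Subtype.ext (R.HS_isMulCommutative a.2 b.2) }

/-- one coordinate of the torus map -/
def heHom (i : Fin D.rank) : Fˣ →* ↥R.HS where
  toFun c := ⟨R.he (D.simple i) (c : F), R.he_mem_HS i c.ne_zero⟩
  map_one' := Subtype.ext (R.he_one _)
  map_mul' a b := Subtype.ext (by
    show R.he (D.simple i) ((a * b : Fˣ) : F) = R.he (D.simple i) (a : F) * R.he (D.simple i) (b : F)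
    rw [R.hmul' i i.2 a.ne_zero b.ne_zero, Units.val_mul])

/-- the torus map -/
def torusHom : (Fin D.rank → Fˣ) →* ↥R.HS :=
  letI := R.hsCommGroup
  { toFun := fun c => ∏ i, R.heHom i (c i)
    map_one' := Finset.prod_eq_one fun i _ => map_one _
    map_mul' := fun a b => by
      exact (Finset.prod_congr rfl fun i _ => map_mul _ _ _).trans Finset.prod_mul_distrib }

theorem torusHom_single (i : Fin D.rank) (u : Fˣ) : R.torusHom (Pi.mulSingle i u) = R.heHom i u := by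
  let _ := R.hsCommGroup
  show ∏ j, R.heHom j (Pi.mulSingle (M := fun _ => Fˣ) i u j) = _
  rw [Finset.prod_eq_single i]
  · rw [Pi.mulSingle_eq_same]
  · intro j _ hj; rw [Pi.mulSingle_eq_of_ne hj, map_one]; rfl
  · simp

theorem torusHom_surjective : Function.Surjective R.torusHom := by
  rintro ⟨h, hh⟩
  suffices h ∈ R.torusHom.range.map R.HS.subtype by
    obtain ⟨_, ⟨c, rfl⟩, e⟩ := this
    exact ⟨c, Subtype.ext e⟩
  refine ((Subgroup.closure_le _).2 ?_) hh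
  rintro _ ⟨i, c, hc, rfl⟩
  exact ⟨_, ⟨Pi.mulSingle i (Units.mk0 c hc), rfl⟩, by rw [R.torusHom_single]; rfl⟩

theorem Finite_of_field [Finite F] : Finite G := by
  have : Finite ↥R.UP := Finite.of_surjective (fun t : Fin (half D) → F => (⟨R.oprod (half D) (half D)
      (fun r => if h : r - half D < half D then t ⟨r - half D, h⟩ else 0), by
        have := R.oprod_mem (half D) (half D) (fun r => if h : r - half D < half D then t ⟨r - half D, h⟩ else 0)
        rwa [geSet_half] at this⟩ : ↥R.UP)) (by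
    rintro ⟨u, hu⟩
    obtain ⟨t, rfl⟩ := R.exists_oprod_UP hu
    refine ⟨fun i => t (half D + i), Subtype.ext (R.oprod_congr fun r h1 h2 => ?_)⟩
    have h3 : r - half D < half D := by omega
    rw [dif_pos h3]; show t (half D + (r - half D)) = t r; congr 1; omega)
  have hH : Finite ↥R.HS := Finite.of_surjective R.torusHom R.torusHom_surjective
  have : Finite ↥R.BS := Finite.of_surjective (fun x : ↥R.UP × ↥R.HS =>
      (⟨x.1.1 * x.2.1, mul_mem (R.UP_le_BS x.1.2) (R.HS_le_BS x.2.2)⟩ : ↥R.BS)) (by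
    rintro ⟨g, hg⟩
    obtain ⟨u, hu, h, hh, rfl⟩ := R.exists_of_mem_BS hg
    exact ⟨(⟨u, hu⟩, ⟨h, hh⟩), rfl⟩)
  have : Finite R.WQ := R.rootPerm.finite
  have : ∀ w, Finite ↥(R.US (invSet (R.qact w))) := fun w =>
    Finite.of_injective (fun x => (⟨x.1, R.US_mono (invSet_subset _) x.2⟩ : ↥R.UP))
      fun a b e => Subtype.ext (congrArg (fun z : ↥R.UP => (z : G)) e)
  exact Finite.of_equiv _ R.bnuEquiv

/-- ordered product restricted to a set of positive roots -/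
theorem card_le_US [Finite G] {S : Finset (Fin D.nroots)} (hS : ↑S ⊆ posSet D) :
    Nat.card F ^ S.card ≤ Nat.card ↥(R.US ↑S) := by
  classical
  rw [← Fintype.card_coe S, ← Nat.card_eq_fintype_card, ← Nat.card_fun]
  have hn := R.cert.nroots_eq
  refine Nat.card_le_card_of_injective (fun t : S → F => ⟨R.oprod (half D) (half D)
    (fun r => if h : r < D.nroots then (if h' : (⟨r, h⟩ : Fin D.nroots) ∈ S then t ⟨_, h'⟩ else 0) else 0), ?_⟩) ?_
  · unfold oprod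
    refine list_prod_mem fun x hx => ?_
    obtain ⟨r, hr, rfl⟩ := List.mem_map.1 hx
    by_cases h : r < D.nroots
    · by_cases h' : (⟨r, h⟩ : Fin D.nroots) ∈ S
      · exact R.xe_mem_US (r := ⟨r, h⟩) h' _
      · simp [h, h', R.xe_zero]
    · rw [R.xe_oob r _ h]; exact one_mem _
  · intro t t' e
    funext ⟨r, hr⟩
    have := R.oprod_inj (half D) (half D) _ _ le_rfl (by omega) (congrArg R.θ (congrArg Subtype.val e)) r (hS hr)
      (by have := r.2; omega)
    simpa [hr] using this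

theorem card_US_inv [Finite F] (w : R.WQ) :
    Nat.card ↥(R.US (invSet (R.qact w))) =
      Nat.card F ^ Nat.card (invSet (R.qact w)) := by
  classical
  have := R.Finite_of_field
  obtain ⟨n, hn⟩ : ∃ n, n = R.rep w := ⟨_, rfl⟩
  rw [← R.nsPerm_rep, ← hn]
  let K : Finset (Fin D.nroots) := Finset.univ.filter fun r => r ∈ keepSet (R.nsPerm n)
  let I : Finset (Fin D.nroots) := Finset.univ.filter fun r => r ∈ invSet (R.nsPerm n)
  have hK : (↑K : Set (Fin D.nroots)) = keepSet (R.nsPerm n) := by ext; simp [K]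
  have hI : (↑I : Set (Fin D.nroots)) = invSet (R.nsPerm n) := by ext; simp [I]
  have hprod : Nat.card ↥R.UP = Nat.card ↥(R.US (keepSet (R.nsPerm n))) *
      Nat.card ↥(R.US (invSet (R.nsPerm n))) := by
    rw [← Nat.card_prod]
    refine (Nat.card_congr (Equiv.ofBijective (fun x : ↥(R.US (keepSet (R.nsPerm n))) ×
      ↥(R.US (invSet (R.nsPerm n))) => (⟨x.1.1 * x.2.1, mul_mem (R.US_mono (keepSet_subset _) x.1.2)
        (R.US_mono (invSet_subset _) x.2.2)⟩ : ↥R.UP)) ⟨?_, ?_⟩)).symm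
    · rintro ⟨⟨p, hp⟩, ⟨m, hm⟩⟩ ⟨⟨p', hp'⟩, ⟨m', hm'⟩⟩ e
      have e' : p * m = p' * m' := congrArg Subtype.val e
      have h1 : p'⁻¹ * p = m' * m⁻¹ := by
        rw [show p = p' * m' * m⁻¹ by rw [← e']; group]; group
      have h2 := R.keep_inf_inv n (mul_mem (inv_mem hp') hp) (h1 ▸ mul_mem hm' (inv_mem hm))
      obtain rfl : p' = p := inv_mul_eq_one.1 h2
      obtain rfl := mul_left_cancel e'
      rfl
    · rintro ⟨g, hg⟩
      obtain ⟨p, hp, m, hm, rfl⟩ := R.exists_UP_factor (R.nsPerm n) hg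
      exact ⟨(⟨p, hp⟩, ⟨m, hm⟩), rfl⟩
  have h1 := R.card_le_US (S := K) (hK ▸ keepSet_subset _)
  have h2 := R.card_le_US (S := I) (hI ▸ invSet_subset _)
  have h3 : Nat.card ↥R.UP ≤ Nat.card F ^ (K.card + I.card) := by
    have e : (Finset.univ.filter fun r : Fin D.nroots => half D ≤ (r : ℕ)) = K ∪ I := by
      ext r
      simp only [K, I, keepSet, invSet, Finset.mem_union, Finset.mem_filter, Finset.mem_univ, true_and,
        Set.mem_setOf_eq]
      tauto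
    have hd : Disjoint K I := Finset.disjoint_left.2 fun r a b => by
      simp only [K, I, keepSet, invSet, Finset.mem_filter, Finset.mem_univ, true_and, Set.mem_setOf_eq] at a b
      exact b.2 a.2
    rw [← Finset.card_union_of_disjoint hd, ← e, ← Fintype.card_subtype, ← Nat.card_eq_fintype_card, ← Nat.card_fun]
    refine Nat.card_le_card_of_surjective (fun t : {r : Fin D.nroots // half D ≤ (r : ℕ)} → F =>
      (⟨R.oprod (half D) (half D) (fun r => if h : r < D.nroots ∧ half D ≤ r then t ⟨⟨r, h.1⟩, h.2⟩ else 0), by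
        have := R.oprod_mem (half D) (half D) (fun r => if h : r < D.nroots ∧ half D ≤ r then t ⟨⟨r, h.1⟩, h.2⟩ else 0)
        rwa [geSet_half] at this⟩ : ↥R.UP)) ?_
    rintro ⟨u, hu⟩
    obtain ⟨t, rfl⟩ := R.exists_oprod_UP hu
    have hn' := R.cert.nroots_eq
    refine ⟨fun r => t r.1, Subtype.ext (R.oprod_congr fun r a b => ?_)⟩
    rw [dif_pos ⟨show r < D.nroots by omega, a⟩]
  have hIc : Nat.card ↥(invSet (R.nsPerm n)) = I.card := by
    rw [← hI, Nat.card_eq_fintype_card]; simp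
  rw [hIc]
  rw [hK] at h1
  rw [hI] at h2
  have hq : 0 < Nat.card F := Nat.card_pos
  refine le_antisymm ?_ h2
  rw [hprod, pow_add] at h3
  by_contra hlt
  have h4 := Nat.mul_lt_mul_of_le_of_lt h1 (not_le.1 hlt) (Nat.lt_of_lt_of_le (Nat.pow_pos hq) h1)
  omega

/-- the order formula -/
theorem card_eq [Finite F] [Fintype R.WQ] :
    Nat.card G = Nat.card ↥R.BS * ∑ w : R.WQ, Nat.card F ^ Nat.card (invSet (R.qact w)) := by
  have := R.Finite_of_field
  rw [← Nat.card_congr R.bnuEquiv, Nat.card_sigma, Finset.mul_sum]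
  exact Finset.sum_congr rfl fun w _ => by rw [Nat.card_prod, R.card_US_inv]

theorem card_BS [Finite F] : Nat.card ↥R.BS = Nat.card ↥R.UP * Nat.card ↥R.HS := by
  rw [← Nat.card_prod]
  refine (Nat.card_congr (Equiv.ofBijective (fun x : ↥R.UP × ↥R.HS =>
    (⟨x.1.1 * x.2.1, mul_mem (R.UP_le_BS x.1.2) (R.HS_le_BS x.2.2)⟩ : ↥R.BS)) ⟨?_, ?_⟩)).symm
  · rintro ⟨⟨u, hu⟩, ⟨h, hh⟩⟩ ⟨⟨u', hu'⟩, ⟨h', hh'⟩⟩ e
    have e' : u * h = u' * h' := congrArg Subtype.val e
    have h1 : u'⁻¹ * u = h' * h⁻¹ := by rw [show u = u' * h' * h⁻¹ by rw [← e']; group]; group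
    have h2 : u'⁻¹ * u ∈ R.UP ⊓ R.HS :=
      Subgroup.mem_inf.2 ⟨mul_mem (inv_mem hu') hu, h1 ▸ mul_mem hh' (inv_mem hh)⟩
    rw [R.UP_inf_HS, Subgroup.mem_bot] at h2
    obtain rfl : u' = u := inv_mul_eq_one.1 h2
    obtain rfl := mul_left_cancel e'
    rfl
  · rintro ⟨g, hg⟩
    obtain ⟨u, hu, h, hh, rfl⟩ := R.exists_of_mem_BS hg
    exact ⟨(⟨u, hu⟩, ⟨h, hh⟩), rfl⟩

end Rel

end CfsgLib.Lie.Chev
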