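/-
Injectivity of the matrix map on a subgroup generated by roots of positive height, for any linear height.
-/
import Cfsg.Agent.Lib.Lie.Rel.Unipotent

set_option autoImplicit false

namespace CfsgLib.Lie.Chev

open Cfsg.Lie (ChevalleyDatum)
open scoped Matrix

/-- A group with root elements satisfying additivity and the commutator formula, mapping to the matrix group. -/
structure RawRel (D : ChevalleyDatum) (X : Aux) (F : Type*) [Field F] (G : Type*) [Group G] where
  cert : Cert D X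
  xe : ℕ → F → G
  θ : G →* GL D.Idx F
  θ_xe : ∀ r t, ((θ (xe r t) : GL D.Idx F) : Matrix D.Idx D.Idx F) = D.x F r t
  xe_add : ∀ r t u, r < D.nroots → xe r t * xe r u = xe r (t + u)
  xe_comm : ∀ r s t u, r < D.nroots → s < D.nroots → s ≠ r → s ≠ D.neg r →
    xe s u * xe r t = xe r t * xe s u * ((D.commWord F r s t u).map fun p => xe p.1 p.2).prod

/-- a linear height function -/
def hgt (D : ChevalleyDatum) (X : Aux) (lam : Fin D.rank → ℤ) (r : ℕ) : ℤ := ∑ k, lam k * X.coef k r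

/-- roots of height at least `m` -/
def hSet (D : ChevalleyDatum) (X : Aux) (lam : Fin D.rank → ℤ) (m : ℤ) : Set (Fin D.nroots) :=
  {r | m ≤ hgt D X lam r}

namespace RawRel

variable {D : ChevalleyDatum} {X : Aux} {F : Type*} [Field F] {G : Type*} [Group G] (R : RawRel D X F G)
  (lam : Fin D.rank → ℤ)

/-- subgroup generated by the root elements of a set of roots -/
def RS (S : Set (Fin D.nroots)) : Subgroup G :=
  Subgroup.closure {g | ∃ r ∈ S, ∃ t, g = R.xe (r : ℕ) t}

/-- weight of a coordinate -/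
def wt (X : Aux) (lam : Fin D.rank → ℤ) : D.Idx → ℤ := Sum.elim (fun _ => 0) fun s => hgt D X lam s

/-- graded unitriangular: off-diagonal entries raise the weight by at least `m` -/
def IsGr (X : Aux) (lam : Fin D.rank → ℤ) (m : ℤ) (M : Matrix D.Idx D.Idx F) : Prop :=
  (∀ a, M a a = 1) ∧ ∀ a b, a ≠ b → wt X lam a < wt X lam b + m → M a b = 0

include R

theorem xe_mem_RS {S : Set (Fin D.nroots)} {r : Fin D.nroots} (hr : r ∈ S) (t : F) : R.xe r t ∈ R.RS S :=
  Subgroup.subset_closure ⟨r, hr, t, rfl⟩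

theorem RS_mono {S T : Set (Fin D.nroots)} (h : S ⊆ T) : R.RS S ≤ R.RS T :=
  Subgroup.closure_mono (by rintro _ ⟨r, hr, t, rfl⟩; exact ⟨r, h hr, t, rfl⟩)

theorem RS_le {S : Set (Fin D.nroots)} {H : Subgroup G} (h : ∀ r ∈ S, ∀ t, R.xe (r : ℕ) t ∈ H) : R.RS S ≤ H :=
  (Subgroup.closure_le _).2 (by rintro _ ⟨r, hr, t, rfl⟩; exact h r hr t)

theorem xe_zero (r : Fin D.nroots) : R.xe r 0 = 1 := by
  have := R.xe_add r 0 0 r.2
  rw [add_zero] at this
  exact mul_eq_left.1 this

theorem xe_neg (r : Fin D.nroots) (t : F) : R.xe r (-t) = (R.xe r t)⁻¹ := by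
  rw [eq_inv_iff_mul_eq_one, R.xe_add r _ _ r.2, neg_add_cancel, R.xe_zero]

theorem gens_symm {S : Set (Fin D.nroots)} : ∀ x ∈ {g | ∃ r ∈ S, ∃ t, g = R.xe (r : ℕ) t},
    x⁻¹ ∈ {g | ∃ r ∈ S, ∃ t, g = R.xe (r : ℕ) t} := by
  rintro _ ⟨r, hr, t, rfl⟩; exact ⟨r, hr, -t, (R.xe_neg _ _).symm⟩

theorem hgt_neg {r : ℕ} (hr : r < D.nroots) : hgt D X lam (D.neg r) = - hgt D X lam r := by
  rw [hgt, hgt, ← Finset.sum_neg_distrib]
  exact Finset.sum_congr rfl fun k _ => by rw [R.cert.coef_neg hr k.2]; ring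

theorem hgt_comm {r s : Fin D.nroots} {c : ℕ × ℤ × ℕ × ℕ} (hc : c ∈ D.commTerms r s) :
    hgt D X lam c.1 = (c.2.2.1 : ℤ) * hgt D X lam r + (c.2.2.2 : ℤ) * hgt D X lam s := by
  rw [hgt, hgt, hgt, Finset.mul_sum, Finset.mul_sum, ← Finset.sum_add_distrib]
  exact Finset.sum_congr rfl fun k _ => by rw [(R.cert.commTerms_props r.2 s.2 c hc).2.2.2.2 k k.2]; ring

theorem hgt_chain {r s : Fin D.nroots} {q : (ℕ × ℤ) × ℕ} (hq : q ∈ (D.chainEntry r s).zipIdx) :
    hgt D X lam q.1.1 = hgt D X lam s + ((q.2 : ℤ) + 1) * hgt D X lam r := by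
  rw [hgt, hgt, hgt, Finset.mul_sum, ← Finset.sum_add_distrib]
  exact Finset.sum_congr rfl fun k _ => by rw [(R.cert.chainEntry_props r.2 hq).2.2.2.2.2.1 k k.2]; ring

theorem comm_word_mem {r s : Fin D.nroots} (hne : s ≠ r) (hneg : (s : ℕ) ≠ D.neg r) {T : Set (Fin D.nroots)}
    (hT : ∀ c ∈ D.commTerms r s, ∀ h : c.1 < D.nroots, (⟨c.1, h⟩ : Fin D.nroots) ∈ T) (t u : F) :
    (R.xe (r : ℕ) t)⁻¹ * ((R.xe (s : ℕ) u)⁻¹ * R.xe (r : ℕ) t * R.xe (s : ℕ) u) ∈ R.RS T := by
  have h := R.xe_comm r s t u r.2 s.2 (fun e => hne (Fin.ext e)) hneg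
  have hW : ((D.commWord F r s t u).map fun p => R.xe p.1 p.2).prod ∈ R.RS T := by
    refine list_prod_mem fun x hx => ?_
    simp only [ChevalleyDatum.commWord, List.map_map, List.mem_map, Function.comp_apply] at hx
    obtain ⟨c, hc, rfl⟩ := hx
    have hlt := (R.cert.commTerms_props r.2 s.2 c hc).1
    exact R.xe_mem_RS (r := ⟨c.1, hlt⟩) (hT c hc hlt) _
  generalize ((D.commWord F r s t u).map fun p => R.xe p.1 p.2).prod = W at h hW
  have e : (R.xe (r : ℕ) t)⁻¹ * ((R.xe (s : ℕ) u)⁻¹ * R.xe (r : ℕ) t * R.xe (s : ℕ) u) = W⁻¹ := by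
    have h' : W = (R.xe (s : ℕ) u)⁻¹ * (R.xe (r : ℕ) t)⁻¹ * (R.xe (s : ℕ) u * R.xe (r : ℕ) t) := by rw [h]; group
    rw [h']; group
  rw [e]; exact inv_mem hW

theorem xe_mem_normalizer {s : Fin D.nroots} {T : Set (Fin D.nroots)}
    (h : ∀ r ∈ T, ∀ t u, (R.xe s u)⁻¹ * R.xe (r : ℕ) t * R.xe s u ∈ R.RS T) (u : F) :
    R.xe s u ∈ Subgroup.normalizer (R.RS T : Set G) := by
  have key : ∀ v g, g ∈ R.RS T → R.xe s v * g * (R.xe s v)⁻¹ ∈ R.RS T := by
    intro v g hg
    induction hg using Subgroup.closure_induction with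
    | mem x hx =>
      obtain ⟨r, hr, t, rfl⟩ := hx
      have := h r hr t (-v)
      rwa [R.xe_neg, inv_inv] at this
    | one => simp
    | mul x y _ _ hx hy => have := mul_mem hx hy; simpa [mul_assoc] using this
    | inv x _ hx => have := inv_mem hx; simpa [mul_assoc] using this
  rw [Subgroup.mem_normalizer_iff]
  refine fun g => ⟨key u g, fun hg => ?_⟩
  have := key (-u) _ hg
  rw [R.xe_neg, inv_inv] at this
  simpa [mul_assoc] using this

/-- a root element of height `≥ 0` normalises every set `{height ≥ m + 1}` enlarged by roots of height `m` -/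
theorem xe_mem_normalizer_level {m : ℤ} (hm : 1 ≤ m) {A : Set (Fin D.nroots)} (hA : ∀ r ∈ A, hgt D X lam r = m)
    {s : Fin D.nroots} (hs : 1 ≤ hgt D X lam s) (u : F) :
    R.xe s u ∈ Subgroup.normalizer (R.RS (hSet D X lam (m + 1) ∪ A) : Set G) := by
  refine R.xe_mem_normalizer (fun r hr t u => ?_) u
  have hr' : m ≤ hgt D X lam r := by
    rcases hr with h | h
    · have : m + 1 ≤ hgt D X lam r := h
      omega
    · exact (hA r h).ge
  by_cases hrs : s = r
  · subst hrs
    rw [mul_assoc, R.xe_add s _ _ s.2, ← R.xe_neg, R.xe_add s _ _ s.2]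
    exact R.xe_mem_RS hr _
  · have h := R.comm_word_mem hrs (fun e => by rw [e, R.hgt_neg lam r.2] at hs; omega)
      (T := hSet D X lam (m + 1) ∪ A) (fun c hc hlt => Or.inl ?_) t u
    · have := mul_mem (R.xe_mem_RS hr t) h
      rwa [mul_inv_cancel_left] at this
    · show m + 1 ≤ hgt D X lam c.1
      obtain ⟨_, h1, h2, _, _⟩ := R.cert.commTerms_props r.2 s.2 c hc
      rw [R.hgt_comm lam hc]
      nlinarith [show (1 : ℤ) ≤ c.2.2.1 by exact_mod_cast h1, show (1 : ℤ) ≤ c.2.2.2 by exact_mod_cast h2]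

omit R in
theorem IsGr.mul {m : ℤ} (hm : 1 ≤ m) {M N : Matrix D.Idx D.Idx F} (hM : IsGr X lam m M) (hN : IsGr X lam m N) :
    IsGr X lam m (M * N) ∧ ∀ a b, a ≠ b → wt X lam a < wt X lam b + 2 * m → (M * N) a b = M a b + N a b := by
  have key : ∀ a b c, c ≠ a → c ≠ b → wt X lam a < wt X lam b + 2 * m → M a c * N c b = 0 := by
    intro a b c h1 h2 hlt
    by_cases h : wt X lam a < wt X lam c + m
    · rw [hM.2 a c (Ne.symm h1) h, zero_mul]
    · rw [hN.2 c b h2 (by omega), mul_zero]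
  have hadd : ∀ a b, a ≠ b → wt X lam a < wt X lam b + 2 * m → (M * N) a b = M a b + N a b := by
    intro a b hne hlt
    rw [Matrix.mul_apply, Finset.sum_eq_add a b hne]
    · rw [hM.1, one_mul, hN.1, mul_one, add_comm]
    · intro c _ hc; exact key a b c hc.1 hc.2 hlt
    · simp
    · simp
  refine ⟨⟨fun a => ?_, fun a b hne hlt => ?_⟩, hadd⟩
  · rw [Matrix.mul_apply, Finset.sum_eq_single a]
    · rw [hM.1, hN.1, one_mul]
    · intro c _ hc; exact key a a c hc hc (by omega)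
    · simp
  · rw [hadd a b hne (by omega), hM.2 a b hne hlt, hN.2 a b hne hlt, add_zero]

theorem isGr_x {m : ℤ} (hm : 1 ≤ m) {r : Fin D.nroots} (hr : m ≤ hgt D X lam r) (t : F) :
    IsGr X lam m (D.x F r t) := by
  have C := R.cert
  have hn : hgt D X lam (D.neg r) = - hgt D X lam r := R.hgt_neg lam r.2
  have hch : ∀ (s : Fin D.nroots) (u : ℕ), hgt D X lam u < hgt D X lam s + m → chainSum D r s u t = 0 := by
    intro s u hlt
    refine List.sum_eq_zero fun x hx => ?_
    obtain ⟨q, hq, rfl⟩ := List.mem_map.1 hx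
    rw [if_neg]
    intro he
    rw [← he, R.hgt_chain lam hq] at hlt
    nlinarith [Int.natCast_nonneg q.2]
  refine ⟨fun a => ?_, fun a b hne hlt => ?_⟩
  · cases a with
    | inl i => rw [C.xM_inl_inl r.2, if_pos rfl]
    | inr u =>
      rw [C.xM_inr_inr r.2, if_pos rfl, if_neg (fun h => C.neg_ne r.2 (h.1.symm.trans h.2)),
        hch u u (by omega), add_zero, add_zero]
  · cases a with
    | inl i =>
      cases b with
      | inl j => rw [C.xM_inl_inl r.2, if_neg (fun h => hne (congrArg Sum.inl h))]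
      | inr s =>
        rw [C.xM_inl_inr r.2, if_neg]
        intro hs
        simp only [wt, Sum.elim_inl, Sum.elim_inr, hs] at hlt
        omega
    | inr u =>
      cases b with
      | inl j =>
        rw [C.xM_inr_inl r.2, if_neg]
        intro hu
        simp only [wt, Sum.elim_inl, Sum.elim_inr, hu] at hlt
        omega
      | inr s =>
        simp only [wt, Sum.elim_inr] at hlt
        rw [C.xM_inr_inr r.2, if_neg (fun h => hne (congrArg Sum.inr h)), if_neg, hch s u hlt, add_zero, add_zero]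
        rintro ⟨h1, h2⟩
        rw [h1, h2] at hlt
        omega

theorem isGr_mem {m : ℤ} (hm : 1 ≤ m) {S : Set (Fin D.nroots)} (hS : S ⊆ hSet D X lam m) {v : G} (hv : v ∈ R.RS S) :
    IsGr X lam m (((R.θ v : GL D.Idx F) : Matrix D.Idx D.Idx F)) ∧
      ∀ r : Fin D.nroots, r ∉ S → hgt D X lam r = m → ∀ a : Fin D.rank,
        ((R.θ v : GL D.Idx F) : Matrix D.Idx D.Idx F) (Sum.inl a) (Sum.inr ⟨D.neg r, R.cert.neg_lt r.2⟩) = 0 := by
  refine closure_induction_symm R.gens_symm ?h1 ?hmul hv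
  case h1 =>
    rw [map_one, Units.val_one]
    exact ⟨⟨fun _ => Matrix.one_apply_eq _, fun _ _ h _ => Matrix.one_apply_ne h⟩, fun r _ _ a => by simp [Matrix.one_apply]⟩
  case hmul =>
    intro x hx y ih
    obtain ⟨s, hs, t, rfl⟩ := hx
    rw [map_mul, Units.val_mul, R.θ_xe]
    obtain ⟨h1, h2⟩ := IsGr.mul lam hm (R.isGr_x lam hm (hS hs) t) ih.1
    refine ⟨h1, fun r hr hrm a => ?_⟩
    rw [h2 _ _ Sum.inl_ne_inr ?_, ih.2 r hr hrm a, add_zero, R.cert.xM_inl_inr s.2, if_neg]
    · intro e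
      have e' : (r : ℕ) = s := by rw [← R.cert.neg_neg r.2, show D.neg r = D.neg s from e, R.cert.neg_neg s.2]
      exact hr (by rw [Fin.ext e']; exact hs)
    · simp only [wt, Sum.elim_inl, Sum.elim_inr]
      rw [R.hgt_neg lam r.2, hrm]; omega

theorem exists_level_split {m : ℤ} (hm : 1 ≤ m) {A : Set (Fin D.nroots)} (hA : ∀ r ∈ A, hgt D X lam r = m)
    {r : Fin D.nroots} (hr : hgt D X lam r = m) {v : G} (hv : v ∈ R.RS (hSet D X lam (m + 1) ∪ insert r A)) :
    ∃ t, ∃ w ∈ R.RS (hSet D X lam (m + 1) ∪ A), v = R.xe r t * w := by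
  refine closure_induction_symm R.gens_symm ?h1 ?hmul hv
  case h1 => exact ⟨0, 1, one_mem _, by rw [R.xe_zero, one_mul]⟩
  case hmul =>
    intro x hx y ih
    obtain ⟨s, hs, u, rfl⟩ := hx
    obtain ⟨t, w, hw, rfl⟩ := ih
    by_cases hsr : s = r
    · subst hsr
      exact ⟨u + t, w, hw, by rw [← mul_assoc, R.xe_add s _ _ s.2]⟩
    · have hs' : s ∈ hSet D X lam (m + 1) ∪ A := by
        rcases hs with h | h | h
        · exact Or.inl h
        · exact absurd h hsr
        · exact Or.inr h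
      have hn := inv_mem (R.xe_mem_normalizer_level lam hm hA (s := r) (by omega) t)
      refine ⟨t, (R.xe r t)⁻¹ * R.xe s u * R.xe r t * w, mul_mem ?_ hw, by group⟩
      have := (Subgroup.mem_normalizer_iff.1 hn _).1 (R.xe_mem_RS hs' u)
      rwa [inv_inv] at this

theorem mem_succ_of_ker {m : ℤ} (hm : 1 ≤ m) {v : G} (hv : v ∈ R.RS (hSet D X lam m)) (hθ : R.θ v = 1) :
    v ∈ R.RS (hSet D X lam (m + 1)) := by
  classical
  suffices h : ∀ A : Finset (Fin D.nroots), (∀ r ∈ A, hgt D X lam r = m) →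
      ∀ v ∈ R.RS (hSet D X lam (m + 1) ∪ ↑A), R.θ v = 1 → v ∈ R.RS (hSet D X lam (m + 1)) by
    refine h (Finset.univ.filter fun r : Fin D.nroots => hgt D X lam r = m) (fun r hr => (Finset.mem_filter.1 hr).2)
      v (R.RS_mono (fun r hr => ?_) hv) hθ
    have hr' : m ≤ hgt D X lam r := hr
    rcases hr'.lt_or_eq with h | h
    · exact Or.inl (show m + 1 ≤ hgt D X lam r by omega)
    · exact Or.inr (by simp [h])
  intro A
  induction A using Finset.induction_on with
  | empty => intro _ v hv _; simpa using hv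
  | insert r A hrA ih =>
    intro hA v hv hθ
    have hA' : ∀ s ∈ A, hgt D X lam s = m := fun s hs => hA s (Finset.mem_insert_of_mem hs)
    have hr := hA r (Finset.mem_insert_self r A)
    rw [Finset.coe_insert] at hv
    obtain ⟨t, w, hw, rfl⟩ := R.exists_level_split lam hm (A := ↑A) hA' hr hv
    have hsub : hSet D X lam (m + 1) ∪ ↑A ⊆ hSet D X lam m := by
      rintro s (h | h)
      · have : m + 1 ≤ hgt D X lam s := h
        show m ≤ _; omega
      · exact (hA' s h).ge
    obtain ⟨hw1, hw2⟩ := R.isGr_mem lam hm hsub hw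
    obtain ⟨a, ha, b, hb, hg⟩ := R.cert.cor_primitive r.2
    have hne : (X.cor a r : F) ≠ 0 ∨ (X.cor b r : F) ≠ 0 := by
      by_contra hcon
      simp only [not_or, not_not] at hcon
      have hz := congrArg (fun z : ℤ => (z : F)) (Int.gcd_eq_gcd_ab (X.cor a r) (X.cor b r))
      rw [hg] at hz
      push_cast at hz
      rw [hcon.1, hcon.2] at hz
      simp at hz
    have hval : ∀ k : Fin D.rank, (X.cor k r : F) * t = 0 := by
      intro k
      have h1 := (IsGr.mul lam hm (R.isGr_x lam hm hr.ge t) hw1).2 (Sum.inl k)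
        (Sum.inr ⟨D.neg r, R.cert.neg_lt r.2⟩) Sum.inl_ne_inr (by
          simp only [wt, Sum.elim_inl, Sum.elim_inr]; rw [R.hgt_neg lam r.2, hr]; omega)
      rw [← R.θ_xe, ← Units.val_mul, ← map_mul, hθ, Units.val_one, Matrix.one_apply_ne Sum.inl_ne_inr, R.θ_xe,
        R.cert.xM_inl_inr r.2, if_pos (show ((⟨D.neg r, R.cert.neg_lt r.2⟩ : Fin D.nroots) : ℕ) = D.neg r from rfl)] at h1
      have hnot : r ∉ hSet D X lam (m + 1) ∪ ↑A := by
        rintro (h | h)
        · have : m + 1 ≤ hgt D X lam r := h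
          omega
        · exact hrA h
      rw [hw2 r hnot hr k, add_zero] at h1
      exact h1.symm
    have ht : t = 0 := by
      rcases hne with h | h
      · exact (mul_eq_zero.1 (hval ⟨a, ha⟩)).resolve_left h
      · exact (mul_eq_zero.1 (hval ⟨b, hb⟩)).resolve_left h
    rw [ht, R.xe_zero, one_mul] at hθ ⊢
    exact ih hA' w hw hθ

/-- the matrix map is injective on roots of positive height -/
theorem θ_injOn_hSet {v w : G} (hv : v ∈ R.RS (hSet D X lam 1)) (hw : w ∈ R.RS (hSet D X lam 1))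
    (e : R.θ v = R.θ w) : v = w := by
  suffices h : ∀ v, v ∈ R.RS (hSet D X lam 1) → R.θ v = 1 → v = 1 by
    exact (mul_inv_eq_one (a := v) (b := w)).1 (h _ (mul_mem hv (inv_mem hw)) (by simp [e]))
  intro v hv hθ
  have hmem : ∀ n : ℕ, v ∈ R.RS (hSet D X lam (1 + n)) := by
    intro n
    induction n with
    | zero => simpa using hv
    | succ n ih =>
      have := R.mem_succ_of_ker lam (m := 1 + n) (by omega) ih hθ
      rw [show (1 : ℤ) + ((n + 1 : ℕ) : ℤ) = 1 + n + 1 by push_cast; ring]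
      exact this
  obtain ⟨N, hN⟩ : ∃ N : ℕ, ∀ r : Fin D.nroots, hgt D X lam r < 1 + (N : ℤ) :=
    ⟨∑ r : Fin D.nroots, (hgt D X lam r).natAbs, fun r => by
      have := Finset.single_le_sum (f := fun r : Fin D.nroots => (hgt D X lam r).natAbs) (fun _ _ => Nat.zero_le _)
        (Finset.mem_univ r)
      omega⟩
  have hle : R.RS (hSet D X lam (1 + N)) ≤ ⊥ := R.RS_le fun r hr t => absurd hr (not_le.2 (hN r))
  simpa using hle (hmem N)

end RawRel

end CfsgLib.Lie.Chev
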