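/-
Positive non-simple roots descend along a simple root of their support.
-/
import Cfsg.Agent.Lib.Lie.Chev.All

set_option autoImplicit false

namespace CfsgLib.Lie.Chev

open Cfsg.Lie

/-- every positive root is simple or is lowered by a simple reflection from its support -/
def chkDesc (D : ChevalleyDatum) (X : Aux) : Bool :=
  (List.range D.nroots).all fun r => Nat.blt r (half D) || (List.range D.rank).any fun i =>
    Nat.beq r (D.simple i) ||
      (decide (0 < X.coef i r) && Nat.ble (half D) (X.w i r) && Nat.blt (X.w i r) r)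

/-- the descent property -/
def Desc (D : ChevalleyDatum) (X : Aux) : Prop :=
  ∀ r, r < D.nroots → half D ≤ r → ∃ i < D.rank, r = D.simple i ∨ (0 < X.coef i r ∧ half D ≤ X.w i r ∧ X.w i r < r)

theorem desc_of_chk {D : ChevalleyDatum} {X : Aux} (h : chkDesc D X = true) : Desc D X := by
  intro r hr hp
  simp only [chkDesc, List.all_eq_true, List.any_eq_true, Bool.or_eq_true, Bool.and_eq_true, List.mem_range,
    nat_blt_iff, nat_beq_iff, nat_ble_iff, decide_eq_true_iff] at h
  rcases h r hr with h | ⟨i, hi, h⟩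
  · omega
  · exact ⟨i, hi, h.imp id fun h => ⟨h.1.1, h.1.2, h.2⟩⟩

theorem exists_desc {D : ChevalleyDatum}
    (hD : D ∈ [chevG2, chevB2, chevD4, chevF4, chevE6, chevE7, chevE8]) : ∃ X, Cert D X ∧ Desc D X := by
  simp only [List.mem_cons, List.not_mem_nil, or_false] at hD
  rcases hD with rfl | rfl | rfl | rfl | rfl | rfl | rfl
  · exact ⟨_, certG2, desc_of_chk (by decide +kernel)⟩
  · exact ⟨_, certB2, desc_of_chk (by decide +kernel)⟩
  · exact ⟨_, certD4, desc_of_chk (by decide +kernel)⟩
  · exact ⟨_, certF4, desc_of_chk (by decide +kernel)⟩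
  · exact ⟨_, certE6, desc_of_chk (by decide +kernel)⟩
  · exact ⟨_, certE7, desc_of_chk (by decide +kernel)⟩
  · exact ⟨_, certE8, desc_of_chk (by decide +kernel)⟩

end CfsgLib.Lie.Chev
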