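/-
Parabolic subgroups, unipotent radicals and Levi subgroups.
-/
import Cfsg.Agent.Lib.Lie.Rel.Graded
import Cfsg.Agent.Lib.Lie.Rel.Bruhat
import Cfsg.Agent.Lib.Lie.Rel.ParabolicData

set_option autoImplicit false

namespace CfsgLib.Lie.Chev

open Cfsg.Lie (ChevalleyDatum)
open CfsgLib.Lie.Exchange

/-- roots in the span of the simple roots in `J` -/
def subSet (D : ChevalleyDatum) (X : Aux) (J : Set ℕ) : Set (Fin D.nroots) :=
  {r | ∀ i < D.rank, i ∉ J → X.coef i r = 0}

/-- positive roots outside `J` -/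
def radSet (D : ChevalleyDatum) (X : Aux) (J : Set ℕ) : Set (Fin D.nroots) :=
  {r | half D ≤ (r : ℕ) ∧ r ∉ subSet D X J}

namespace Rel

variable {D : ChevalleyDatum} {X : Aux} {F : Type*} [Field F] {G : Type*} [Group G] (R : Rel D X F G)
  (J : Set ℕ)
include R

/-- the underlying raw system -/
def toRaw : RawRel D X F G where
  cert := R.cert
  xe := R.xe
  θ := R.θ
  θ_xe := R.θ_xe
  xe_add := R.xe_add
  xe_comm := R.xe_comm

theorem US_eq_RS (S : Set (Fin D.nroots)) : R.US S = R.toRaw.RS S := rfl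

/-- lifts of the Weyl group of `J` -/
def NJ : Subgroup G := Subgroup.closure {g | ∃ i : Fin D.rank, (i : ℕ) ∈ J ∧ g = R.ne (D.simple i) 1}

/-- the parabolic subgroup of `J` -/
def PJ : Subgroup G := R.BS ⊔ R.NJ J

/-- the unipotent radical -/
def UR : Subgroup G := R.US (radSet D X J)

/-- the Levi subgroup -/
def LJ : Subgroup G := R.HS ⊔ R.US (subSet D X J)

theorem sroot_mem_sub {i : Fin D.rank} (hi : (i : ℕ) ∈ J) : R.sroot i ∈ subSet D X J := by
  intro k hk hkJ
  rw [show (R.sroot i : ℕ) = D.simple i from rfl, R.cert.coef_simple i.2 hk,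
    if_neg (fun e => hkJ (by rw [e]; exact hi))]

theorem negF_mem_sub {r : Fin D.nroots} (hr : r ∈ subSet D X J) : R.negF r ∈ subSet D X J := fun k hk hkJ => by
  rw [show (R.negF r : ℕ) = D.neg r from rfl, R.cert.coef_neg r.2 hk, hr k hk hkJ, neg_zero]

theorem exists_conj_sub (hD : Desc D X) : ∀ r : Fin D.nroots, half D ≤ (r : ℕ) → r ∈ subSet D X J →
    ∃ g : R.Mon, (g : G) ∈ R.NJ J ∧ ∃ i : Fin D.rank, (i : ℕ) ∈ J ∧ R.monPerm g (R.sroot i) = r := by
  intro r
  induction hm : (r : ℕ) using Nat.strong_induction_on generalizing r with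
  | _ m ih =>
    intro hp hsub
    obtain ⟨i, hi, h⟩ := hD r r.2 (by omega)
    rcases h with h | ⟨h0, h1, h2⟩
    · refine ⟨1, one_mem _, ⟨i, hi⟩, ?_, by rw [map_one, Equiv.Perm.one_apply]; exact Fin.ext h.symm⟩
      by_contra hiJ
      have := hsub i hi hiJ
      rw [h, R.cert.coef_simple hi hi, if_pos rfl] at this
      exact one_ne_zero this
    · have hiJ : i ∈ J := by
        by_contra hiJ
        have := hsub i hi hiJ
        omega
      obtain ⟨g, hg, j, hjJ, hj⟩ := ih (X.w i r) (by omega) ⟨X.w i r, R.cert.w_lt hi r.2⟩ rfl h1 (by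
        intro k hk hkJ
        show X.coef k (X.w i r) = 0
        rw [R.cert.coef_w hi r.2 hk, if_neg (fun e => hkJ (by rw [e]; exact hiJ))]
        exact hsub k hk hkJ)
      refine ⟨R.nMon ⟨i, hi⟩ * g, mul_mem (Subgroup.subset_closure ⟨⟨i, hi⟩, hiJ, rfl⟩) hg, j, hjJ, ?_⟩
      rw [map_mul, Equiv.Perm.mul_apply, hj, R.monPerm_nMon]
      exact Fin.ext (R.cert.w_w hi r.2)

theorem xe_mem_PJ (hD : Desc D X) {r : Fin D.nroots} (hr : half D ≤ (r : ℕ) ∨ r ∈ subSet D X J) (t : F) :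
    R.xe r t ∈ R.PJ J := by
  by_cases hp : half D ≤ (r : ℕ)
  · exact Subgroup.mem_sup_left (R.xe_pos_mem_BS hp t)
  have hsub := hr.resolve_left hp
  obtain ⟨g, hg, i, hiJ, hi⟩ := R.exists_conj_sub J hD (R.negF r) ((R.cert.half_le_neg_iff r.2).2 (by omega))
    (R.negF_mem_sub J hsub)
  obtain ⟨a, ha⟩ := R.exists_isMon (g * R.nMon i)
  have hσ : R.monPerm (g * R.nMon i) (R.sroot i) = r := by
    obtain ⟨b, hb⟩ := R.exists_isMon g
    rw [map_mul, Equiv.Perm.mul_apply, R.monPerm_nMon, R.wperm_sroot, (hb (R.sroot i)).2.2.1, hi, R.negF_negF]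
  obtain ⟨h1, _, _, h4⟩ := ha (R.sroot i)
  have hgn : ((g * R.nMon i : R.Mon) : G) ∈ R.PJ J :=
    Subgroup.mem_sup_right (mul_mem hg (Subgroup.subset_closure ⟨i, hiJ, rfl⟩))
  have h5 := h4 ((a (R.sroot i))⁻¹ * t)
  rw [mul_inv_cancel_left₀ h1, hσ] at h5
  rw [← h5]
  exact mul_mem (mul_mem hgn (Subgroup.mem_sup_left (R.xe_pos_mem_BS (R.sroot_pos i) _))) (inv_mem hgn)

theorem PJ_eq (hD : Desc D X) : R.PJ J = R.HS ⊔ R.US {r | half D ≤ (r : ℕ) ∨ r ∈ subSet D X J} := by
  refine le_antisymm (sup_le (sup_le (le_trans (R.US_mono fun r hr => Or.inl hr) le_sup_right) le_sup_left) ?_)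
    (sup_le (R.HS_le_BS.trans le_sup_left) (R.US_le fun r hr t => R.xe_mem_PJ J hD hr t))
  refine (Subgroup.closure_le _).2 ?_
  rintro _ ⟨i, hi, rfl⟩
  refine Subgroup.mem_sup_right ?_
  exact mul_mem (mul_mem (R.xe_mem_US (r := R.sroot i) (Or.inl (R.sroot_pos i)) 1)
    (R.xe_mem_US (r := R.negF (R.sroot i)) (Or.inr (R.negF_mem_sub J (R.sroot_mem_sub J hi))) _))
    (R.xe_mem_US (r := R.sroot i) (Or.inl (R.sroot_pos i)) 1)

theorem rad_closed {r s : Fin D.nroots} (hr : r ∈ radSet D X J) (hs : half D ≤ (s : ℕ) ∨ s ∈ subSet D X J)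
    {c : ℕ × ℤ × ℕ × ℕ} (hc : c ∈ D.commTerms r s) (hlt : c.1 < D.nroots) :
    (⟨c.1, hlt⟩ : Fin D.nroots) ∈ radSet D X J := by
  obtain ⟨hr1, hr2⟩ := hr
  simp only [subSet, Set.mem_setOf_eq, not_forall] at hr2
  obtain ⟨k, hk, hkJ, hne⟩ := hr2
  obtain ⟨_, h1, _, _, h5⟩ := R.cert.commTerms_props r.2 s.2 c hc
  have hr0 := R.cert.coef_nonneg r.2 hk hr1
  have hs0 : 0 ≤ X.coef k s := by
    rcases hs with hs | hs
    · exact R.cert.coef_nonneg s.2 hk hs
    · exact (hs k hk hkJ).ge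
  have hpos : 0 < X.coef k c.1 := by
    rw [h5 k hk]
    have h1' : (1 : ℤ) ≤ c.2.2.1 := by exact_mod_cast h1
    have h6 : (0 : ℤ) ≤ c.2.2.2 := Int.natCast_nonneg _
    have h7 : (1 : ℤ) ≤ X.coef k r := by omega
    nlinarith [mul_le_mul h1' h7 zero_le_one (zero_le_one.trans h1'), mul_nonneg h6 hs0]
  refine ⟨?_, fun h => hpos.ne' (h k hk hkJ)⟩
  show half D ≤ c.1
  by_contra hneg
  have := R.cert.coef_nonneg (R.cert.neg_lt hlt) hk ((R.cert.half_le_neg_iff hlt).2 (by omega))
  rw [R.cert.coef_neg hlt hk] at this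
  omega

theorem PJ_le_normalizer (hD : Desc D X) : R.PJ J ≤ Subgroup.normalizer (R.UR J : Set G) := by
  rw [R.PJ_eq J hD]
  refine sup_le (R.HS_le_normalizer_US _) (R.US_le fun s hs u => ?_)
  refine R.xe_mem_normalizer (fun r hr t v => ?_) u
  by_cases hsr : s = r
  · subst hsr
    rw [← R.xe_neg, R.xe_add', R.xe_add']
    exact R.xe_mem_US hr _
  · refine R.xe_conj_mem hsr ?_ hr (fun c hc hlt => R.rad_closed J hr hs hc hlt) t v
    intro e
    subst e
    rcases hs with hs | hs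
    · exact (R.negF_pos_iff r).1 hs hr.1
    · exact hr.2 (by simpa [R.negF_negF] using R.negF_mem_sub J hs)

theorem UR_sup_LJ (hD : Desc D X) : R.UR J ⊔ R.LJ J = R.PJ J := by
  rw [R.PJ_eq J hD]
  refine le_antisymm (sup_le (le_trans (R.US_mono fun r hr => Or.inl hr.1) le_sup_right)
    (sup_le le_sup_left (le_trans (R.US_mono fun r hr => Or.inr hr) le_sup_right)))
    (sup_le (le_trans le_sup_left le_sup_right) (R.US_le fun r hr t => ?_))
  by_cases h : r ∈ subSet D X J
  · exact Subgroup.mem_sup_right (Subgroup.mem_sup_right (R.xe_mem_US h t))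
  · exact Subgroup.mem_sup_left (R.xe_mem_US (S := radSet D X J) ⟨hr.resolve_right h, h⟩ t)

/-- the grading outside `J` -/
noncomputable def lamJ (D : ChevalleyDatum) (J : Set ℕ) : Fin D.rank → ℤ :=
  open Classical in fun k => if (k : ℕ) ∈ J then 0 else 1

theorem hgt_sub {r : Fin D.nroots} (hr : r ∈ subSet D X J) : hgt D X (lamJ D J) r = 0 :=
  Finset.sum_eq_zero fun k _ => by
    by_cases h : (k : ℕ) ∈ J
    · simp [lamJ, h]
    · rw [hr k k.2 h, mul_zero]

theorem hgt_rad {r : Fin D.nroots} (hr : r ∈ radSet D X J) : 1 ≤ hgt D X (lamJ D J) r := by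
  obtain ⟨hr1, hr2⟩ := hr
  simp only [subSet, Set.mem_setOf_eq, not_forall] at hr2
  obtain ⟨k, hk, hkJ, hne⟩ := hr2
  have h0 := R.cert.coef_nonneg r.2 hk hr1
  refine le_trans ?_ (Finset.single_le_sum (f := fun i => lamJ D J i * X.coef i (r : ℕ)) (a := (⟨k, hk⟩ : Fin D.rank))
    (fun i _ => mul_nonneg (by unfold lamJ; split_ifs <;> norm_num) (R.cert.coef_nonneg r.2 i.2 hr1))
    (Finset.mem_univ _))
  simp only [lamJ, hkJ, if_false, one_mul]
  omega

/-- matrices homogeneous of degree zero -/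
def IsDeg0 (X : Aux) (lam : Fin D.rank → ℤ) (M : Matrix D.Idx D.Idx F) : Prop :=
  ∀ a b, RawRel.wt X lam a ≠ RawRel.wt X lam b → M a b = 0

omit R in
theorem IsDeg0.mul {lam : Fin D.rank → ℤ} {M N : Matrix D.Idx D.Idx F} (hM : IsDeg0 X lam M) (hN : IsDeg0 X lam N) :
    IsDeg0 X lam (M * N) := by
  intro a b h
  rw [Matrix.mul_apply]
  refine Finset.sum_eq_zero fun c _ => ?_
  by_cases hc : RawRel.wt X lam a = RawRel.wt X lam c
  · rw [hN c b (hc ▸ h), mul_zero]
  · rw [hM a c hc, zero_mul]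

theorem isDeg0_x (lam : Fin D.rank → ℤ) {r : Fin D.nroots} (hr : hgt D X lam r = 0) (t : F) :
    IsDeg0 X lam (D.x F r t) := by
  have C := R.cert
  have hn : hgt D X lam (D.neg r) = 0 := by
    rw [show hgt D X lam (D.neg r) = - hgt D X lam r from R.toRaw.hgt_neg lam r.2, hr, neg_zero]
  intro a b hab
  cases a with
  | inl i =>
    cases b with
    | inl j => exact absurd rfl hab
    | inr s =>
      rw [C.xM_inl_inr r.2, if_neg]
      intro hs
      simp only [RawRel.wt, Sum.elim_inl, Sum.elim_inr, hs] at hab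
      omega
  | inr u =>
    cases b with
    | inl j =>
      rw [C.xM_inr_inl r.2, if_neg]
      intro hu
      simp only [RawRel.wt, Sum.elim_inl, Sum.elim_inr, hu] at hab
      omega
    | inr s =>
      simp only [RawRel.wt, Sum.elim_inr] at hab
      have hch : chainSum D r s u t = 0 := by
        refine List.sum_eq_zero fun x hx => ?_
        obtain ⟨q, hq, rfl⟩ := List.mem_map.1 hx
        rw [if_neg]
        intro he
        apply hab
        rw [← he, R.toRaw.hgt_chain lam hq, hr, mul_zero, add_zero]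
      rw [C.xM_inr_inr r.2, if_neg (fun h => hab (by rw [h])), if_neg, hch,
        add_zero, add_zero]
      rintro ⟨h1, h2⟩
      rw [h1, h2] at hab
      omega

theorem isDeg0_LJ {g : G} (hg : g ∈ R.LJ J) : IsDeg0 X (lamJ D J) (R.mat g) := by
  obtain ⟨u, hu, h, hh, rfl⟩ := exists_mul_of_mem_sup (R.HS_le_normalizer_US _)
    (show g ∈ R.US (subSet D X J) ⊔ R.HS from sup_comm (R.HS) _ ▸ hg)
  rw [R.mat_mul]
  refine IsDeg0.mul ?_ ?_
  · refine closure_induction_symm R.gens_symm ?h1 ?hmul hu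
    case h1 => rw [R.mat_one]; exact fun a b h => Matrix.one_apply_ne fun e => h (by rw [e])
    case hmul =>
      intro x hx y ih
      obtain ⟨r, hr, t, rfl⟩ := hx
      rw [R.mat_mul, R.mat_xe]
      exact IsDeg0.mul (R.isDeg0_x _ (R.hgt_sub J hr) t) ih
  · obtain ⟨a, _, ha⟩ := R.exists_mat_HS hh
    rw [ha]; exact fun x y h => Matrix.diagonal_apply_ne _ fun e => h (by rw [e])

theorem UR_inf_LJ : R.UR J ⊓ R.LJ J = ⊥ := by
  refine (Subgroup.eq_bot_iff_forall _).2 fun g hg => ?_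
  obtain ⟨hu, hl⟩ := Subgroup.mem_inf.1 hg
  have h1 := (R.toRaw.isGr_mem (lamJ D J) le_rfl (S := radSet D X J) (fun r hr => R.hgt_rad J hr) hu).1
  have h2 := R.isDeg0_LJ J hl
  refine R.eq_one_of_UP (R.US_mono (fun r hr => hr.1) hu) fun a b hab => ?_
  by_cases hw : RawRel.wt X (lamJ D J) a = RawRel.wt X (lamJ D J) b
  · exact h1.2 a b hab (by omega)
  · exact h2 a b hw

theorem xe_mem_UR {s : Fin D.nroots} {t : F} (ht : t ≠ 0) (h : R.xe s t ∈ R.UR J) : s ∈ radSet D X J := by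
  by_cases hp : half D ≤ (s : ℕ)
  · refine ⟨hp, fun hsub => ?_⟩
    have h1 : R.xe s t ∈ R.UR J ⊓ R.LJ J :=
      Subgroup.mem_inf.2 ⟨h, Subgroup.mem_sup_right (R.xe_mem_US hsub t)⟩
    rw [R.UR_inf_LJ, Subgroup.mem_bot, ← R.xe_zero s] at h1
    exact ht (R.xe_inj_param h1)
  · exact absurd rfl (R.xe_not_BS hp ht (R.UP_le_BS (R.US_mono (fun r hr => hr.1) h)))

theorem NS_normalizer_le (n : R.NS) (hn : (n : G) ∈ Subgroup.normalizer (R.UR J : Set G)) :
    (n : G) ∈ R.PJ J := by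
  induction hl : wlen R.qgen (R.qmk n) using Nat.strong_induction_on generalizing n with
  | _ m ih =>
    obtain ⟨a, ha⟩ := R.isMon_nsPerm n
    obtain ⟨l, hw, hlen⟩ := R.qgen_genInv.exists_reduced (R.qmk n)
    rcases List.eq_nil_or_concat l with rfl | ⟨l', i, rfl⟩
    · rw [wprod_nil] at hw
      exact Subgroup.mem_sup_left (R.HS_le_BS (R.qmk_eq_one.1 hw.symm))
    · have hlt : wlen R.qgen (R.qmk n * R.qgen i) < wlen R.qgen (R.qmk n) := by
        rw [← hlen, ← hw, List.concat_eq_append, wprod_append, wprod_cons, wprod_nil, mul_one, mul_assoc,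
          show R.qgen i * R.qgen i = 1 from mul_eq_one_iff_eq_inv.2 (R.qgen_genInv.inv i).symm, mul_one]
        have := wlen_le R.qgen l'
        simp only [List.length_append, List.length_cons, List.length_nil]
        omega
      have hneg : ¬ half D ≤ (R.nsPerm n (R.sroot i) : ℕ) := (R.rootPerm.wlen_mul_simple_lt_iff _ i).1 hlt
      have hiJ : (i : ℕ) ∈ J := by
        by_contra hiJ
        have hrad : R.sroot i ∈ radSet D X J := ⟨R.sroot_pos i, fun h => by
          have := h i i.2 hiJ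
          rw [show (R.sroot i : ℕ) = D.simple i from rfl, R.cert.coef_simple i.2 i.2, if_pos rfl] at this
          exact one_ne_zero this⟩
        have h1 := (Subgroup.mem_normalizer_iff.1 hn _).1 (R.xe_mem_US hrad 1)
        rw [(ha (R.sroot i)).2.2.2 1, mul_one] at h1
        exact hneg (R.xe_mem_UR J (ha (R.sroot i)).1 h1).1
      have hne : R.ne (D.simple i) 1 ∈ R.NJ J := Subgroup.subset_closure ⟨i, hiJ, rfl⟩
      have h2 := ih _ (hl ▸ hlt) (n * R.nS i) ?_ (by rw [map_mul]; rfl)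
      · have h3 := mul_mem h2 (inv_mem (show R.ne (D.simple i) 1 ∈ R.PJ J from Subgroup.mem_sup_right hne))
        rwa [show ((n * R.nS i : R.NS) : G) = n * R.ne (D.simple i) 1 from rfl, mul_inv_cancel_right] at h3
      · have hnorm : R.ne (D.simple i) 1 ∈ Subgroup.normalizer (R.UR J : Set G) := by
          have hS : ∀ t, R.xe (D.simple i) t ∈ Subgroup.normalizer (R.UR J : Set G) ∧
              R.xe (D.neg (D.simple i)) t ∈ Subgroup.normalizer (R.UR J : Set G) := by
            intro t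
            refine ⟨R.xe_mem_normalizer (s := R.sroot i) (fun r hr u v => ?_) t,
              R.xe_mem_normalizer (s := R.negF (R.sroot i)) (fun r hr u v => ?_) t⟩
            · have hsub := R.sroot_mem_sub J hiJ
              refine R.xe_conj_mem (fun e => hr.2 (by rw [← e]; exact hsub))
                (fun e => hr.2 (by rw [← R.negF_negF r, ← e]; exact R.negF_mem_sub J hsub)) hr
                (fun c hc hlt => R.rad_closed J hr (Or.inr hsub) hc hlt) u v
            · have hsub := R.negF_mem_sub J (R.sroot_mem_sub J hiJ)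
              refine R.xe_conj_mem (fun e => hr.2 (by rw [← e]; exact hsub))
                (fun e => hr.2 (by rw [← R.negF_negF r, ← e]; exact R.negF_mem_sub J hsub)) hr
                (fun c hc hlt => R.rad_closed J hr (Or.inr hsub) hc hlt) u v
          exact mul_mem (mul_mem (hS 1).1 (hS _).2) (hS 1).1
        exact mul_mem hn hnorm

theorem normalizer_UR (hD : Desc D X) : Subgroup.normalizer (R.UR J : Set G) = R.PJ J := by
  refine le_antisymm (fun g hg => ?_) (R.PJ_le_normalizer J hD)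
  obtain ⟨b, hb, n, u, hu, rfl⟩ := R.exists_bnu g
  have hle : ∀ x ∈ R.BS, x ∈ R.PJ J := fun x hx => Subgroup.mem_sup_left hx
  have hu' : u ∈ R.BS := R.UP_le_BS (R.US_mono (invSet_subset _) hu)
  have hn : (n : G) ∈ Subgroup.normalizer (R.UR J : Set G) := by
    have h1 := mul_mem (mul_mem (inv_mem (R.PJ_le_normalizer J hD (hle b hb))) hg)
      (inv_mem (R.PJ_le_normalizer J hD (hle u hu')))
    rwa [← mul_assoc, ← mul_assoc, inv_mul_cancel, one_mul, mul_inv_cancel_right] at h1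
  exact mul_mem (mul_mem (hle b hb) (R.NS_normalizer_le J n hn)) (hle u hu')

end Rel

end CfsgLib.Lie.Chev
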