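/-
Parabolic subgroups of Chevalley groups in terms of the standard subgroups of GL.
-/
import Cfsg.Agent.Lib.Lie.Rel.Parabolic
import Cfsg.Agent.Lib.Lie.Rel.Inst

set_option autoImplicit false

namespace CfsgLib.Lie.Chev

open Cfsg.Lie (ChevalleyDatum)

variable {D : ChevalleyDatum} {X : Aux} (C : Cert D X) (F : Type*) [Field F] (J : Set ℕ)
include C

theorem inRootSub_iff (r : ℕ) :
    D.InRootSub J r ↔ ∃ h : r < D.nroots, (⟨r, h⟩ : Fin D.nroots) ∈ subSet D X J := by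
  refine ⟨fun h => ⟨h.1, fun i hi hiJ => ?_⟩, fun ⟨h, hs⟩ => ⟨h, fun i hi hiJ => ?_⟩⟩
  · have h2 : corD D r i = 0 := h.2 i hi hiJ
    rw [C.corD_eq h.1 hi] at h2
    exact (C.coef_zero_iff h.1 hi).2 h2
  · show corD D r i = 0
    rw [C.corD_eq h hi]
    exact (C.coef_zero_iff h hi).1 (hs i hi hiJ)

theorem unipotentRadical_eq : D.unipotentRadical F J = ((chevRel C F).UR J).map (D.group F).subtype := by
  unfold Rel.UR
  rw [map_US C F (radSet D X J) (fun r => D.IsPosRoot r ∧ ¬ D.InRootSub J r) fun r => ?_]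
  · unfold ChevalleyDatum.unipotentRadical
    congr 1; ext g; simp only [Set.mem_setOf_eq, and_assoc]
  · rw [isPosRoot_iff C, inRootSub_iff C]
    exact ⟨fun ⟨⟨h, hp⟩, hn⟩ => ⟨h, hp, fun hs => hn ⟨h, hs⟩⟩, fun ⟨h, hp, hn⟩ => ⟨⟨h, hp⟩, fun ⟨_, hs⟩ => hn hs⟩⟩

theorem leviSubgroup_eq : D.leviSubgroup F J = ((chevRel C F).LJ J).map (D.group F).subtype := by
  unfold Rel.LJ
  rw [Subgroup.map_sup, ← diagonalSubgroup_eq C F, map_US C F (subSet D X J) (fun r => D.InRootSub J r)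
    (inRootSub_iff C J)]
  rfl

theorem parabolicSubgroup_eq : D.parabolicSubgroup F J = ((chevRel C F).PJ J).map (D.group F).subtype := by
  unfold Rel.PJ ChevalleyDatum.parabolicSubgroup
  rw [Subgroup.map_sup, ← borelSubgroup_eq C F]
  congr 1
  unfold Rel.NJ
  rw [MonoidHom.map_closure]
  congr 1
  ext g
  constructor
  · rintro ⟨j, hj, hjr, e⟩
    exact ⟨_, ⟨⟨j, hjr⟩, hj, rfl⟩, Units.ext (e.trans (xG_neOf_val C F _ 1).symm).symm⟩
  · rintro ⟨_, ⟨i, hi, rfl⟩, rfl⟩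
    exact ⟨i, hi, i.2, xG_neOf_val C F _ 1⟩

theorem parabolicSubgroup_generated (hD : Desc D X) : D.parabolicSubgroup F J = D.diagonalSubgroup F ⊔
    Subgroup.closure {g : GL D.Idx F | ∃ (r : ℕ) (t : F), (D.IsPosRoot r ∨ D.InRootSub J r) ∧
      (g : Matrix D.Idx D.Idx F) = D.x F r t} := by
  rw [parabolicSubgroup_eq C F J, (chevRel C F).PJ_eq J hD, Subgroup.map_sup, ← diagonalSubgroup_eq C F,
    map_US C F _ (fun r => D.IsPosRoot r ∨ D.InRootSub J r) fun r => ?_]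
  rw [isPosRoot_iff C, inRootSub_iff C]
  exact ⟨fun h => h.elim (fun ⟨h, hp⟩ => ⟨h, Or.inl hp⟩) fun ⟨h, hs⟩ => ⟨h, Or.inr hs⟩,
    fun ⟨h, h'⟩ => h'.imp (fun hp => ⟨h, hp⟩) fun hs => ⟨h, hs⟩⟩

theorem levi_decomposition (hD : Desc D X) :
    D.parabolicSubgroup F J ≤ Subgroup.normalizer (D.unipotentRadical F J : Set (GL D.Idx F)) ∧
      D.unipotentRadical F J ⊔ D.leviSubgroup F J = D.parabolicSubgroup F J ∧
      D.unipotentRadical F J ⊓ D.leviSubgroup F J = ⊥ := by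
  rw [parabolicSubgroup_eq C F J, unipotentRadical_eq C F J, leviSubgroup_eq C F J]
  refine ⟨?_, ?_, ?_⟩
  · exact le_trans (Subgroup.map_mono ((chevRel C F).PJ_le_normalizer J hD))
      (Subgroup.le_normalizer_map _)
  · rw [← Subgroup.map_sup, (chevRel C F).UR_sup_LJ J hD]
  · rw [← Subgroup.map_inf _ _ _ Subtype.val_injective, (chevRel C F).UR_inf_LJ, Subgroup.map_bot]

theorem normalizer_unipotentRadical (hD : Desc D X) :
    Subgroup.normalizer (D.unipotentRadical F J : Set (GL D.Idx F)) ⊓ D.group F = D.parabolicSubgroup F J := by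
  rw [parabolicSubgroup_eq C F J, unipotentRadical_eq C F J]
  refine le_antisymm (fun g hg => ?_) (le_inf ?_ (Subgroup.map_subtype_le _))
  · obtain ⟨hn, hG⟩ := Subgroup.mem_inf.1 hg
    refine ⟨⟨g, hG⟩, ?_, rfl⟩
    rw [← (chevRel C F).normalizer_UR J hD, SetLike.mem_coe, Subgroup.mem_normalizer_iff]
    intro h
    have h1 := Subgroup.mem_normalizer_iff.1 hn (h : GL D.Idx F)
    have key : ∀ x : ↥(D.group F), (x : GL D.Idx F) ∈ ((chevRel C F).UR J).map (D.group F).subtype ↔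
        x ∈ (chevRel C F).UR J := fun x =>
      ⟨fun ⟨y, hy, e⟩ => (Subtype.ext e : y = x) ▸ hy, fun hx => ⟨x, hx, rfl⟩⟩
    rw [← key, ← key]
    exact h1
  · exact le_trans (Subgroup.map_mono ((chevRel C F).PJ_le_normalizer J hD))
      (Subgroup.le_normalizer_map _)

end CfsgLib.Lie.Chev
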