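/-
The length polynomial of the Weyl group, computed as a product of orbit polynomials.
-/
import Cfsg.Agent.Lib.Lie.Rel.Bruhat

set_option autoImplicit false

namespace CfsgLib.Lie.Chev

open Cfsg.Lie (ChevalleyDatum)
open CfsgLib.Lie.Exchange

/-- all Cartan integers between simple roots -/
def cmat (D : ChevalleyDatum) : List (List ℤ) :=
  (List.range D.rank).map fun i => (List.range D.rank).map fun k => D.cartan i (D.simple k)

/-- reflection of a coweight -/
def reflVec (M : List (List ℤ)) (l : ℕ) (v : List ℤ) (i : ℕ) : List ℤ :=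
  (List.range l).map fun k => v.getD k 0 - (M.getD i []).getD k 0 * v.getD i 0

/-- the next layer of an orbit -/
def orbStep (M : List (List ℤ)) (l : ℕ) (S : List ℕ) (L : List (List ℤ)) : List (List ℤ) :=
  (L.flatMap fun v => ((List.range l).filter fun i => !S.contains i && decide (0 < v.getD i 0)).map
    (reflVec M l v)).dedup

/-- the layers of the orbit of the `j`-th fundamental coweight -/
def orbLayer (M : List (List ℤ)) (l : ℕ) (S : List ℕ) (j : ℕ) : ℕ → List (List ℤ)
  | 0 => [(List.range l).map fun i => if i = j then 1 else 0]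
  | k + 1 => orbStep M l S (orbLayer M l S j k)

/-- sizes of the layers -/
def orbCounts (M : List (List ℤ)) (l : ℕ) (S : List ℕ) (j N : ℕ) : List ℕ :=
  (List.range (N + 1)).map fun k => (orbLayer M l S j k).length

/-- all orbit polynomials along a chain -/
def chainCounts (M : List (List ℤ)) (l N : ℕ) : List ℕ → List ℕ → List (List ℕ)
  | _, [] => []
  | S, j :: ord => orbCounts M l S j N :: chainCounts M l N (j :: S) ord

/-- value of a coefficient list -/
def polyVal {A : Type*} [CommSemiring A] (q : A) (cs : List ℕ) : A :=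
  (cs.zipIdx.map fun p => (p.1 : A) * q ^ p.2).sum

namespace Rel

variable {D : ChevalleyDatum} {X : Aux} {F : Type*} [Field F] {G : Type*} [Group G] (R : Rel D X F G)
include R

/-- number of inversions -/
noncomputable def invN (w : R.WQ) : ℕ :=
  (Finset.univ.filter fun r : Fin D.nroots => half D ≤ (r : ℕ) ∧ ¬ half D ≤ (R.qact w r : ℕ)).card

theorem invN_eq (w : R.WQ) : R.invN w = Nat.card (invSet (R.qact w)) := by
  classical
  rw [invN, Nat.card_eq_fintype_card, ← Set.toFinset_card]
  congr 1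
  ext r; rw [Set.mem_toFinset]; simp [invSet]

theorem qact_mul_apply (u v : R.WQ) (r : Fin D.nroots) : R.qact (u * v) r = R.qact u (R.qact v r) := by
  rw [map_mul, Equiv.Perm.mul_apply]

theorem qact_negF (w : R.WQ) (r : Fin D.nroots) : R.qact w (R.negF r) = R.negF (R.qact w r) := by
  obtain ⟨g, rfl⟩ := R.qmk_surjective w
  exact R.nsPerm_negF g r

theorem qact_inv_apply (w : R.WQ) (r : Fin D.nroots) : R.qact w (R.qact w⁻¹ r) = r := by
  rw [← R.qact_mul_apply, mul_inv_cancel, map_one, Equiv.Perm.one_apply]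

theorem qact_apply_inv (w : R.WQ) (r : Fin D.nroots) : R.qact w⁻¹ (R.qact w r) = r := by
  rw [← R.qact_mul_apply, inv_mul_cancel, map_one, Equiv.Perm.one_apply]

theorem wperm_invol (s : Fin D.rank) (r : Fin D.nroots) : R.wperm s (R.wperm s r) = r := by
  rw [← Equiv.Perm.mul_apply, R.wperm_mul_self, Equiv.Perm.one_apply]

theorem invN_one : R.invN 1 = 0 := by
  rw [invN, Finset.card_eq_zero, Finset.filter_eq_empty_iff]
  intro r _ h
  rw [map_one, Equiv.Perm.one_apply] at h
  exact h.2 h.1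

theorem exists_descent {w : R.WQ} (hw : w ≠ 1) : ∃ k, ¬ half D ≤ (R.qact w (R.sroot k) : ℕ) := by
  obtain ⟨l, hl, hll⟩ := R.rootPerm.toGenInv.exists_reduced w
  cases l using List.reverseRecOn with
  | nil => exact absurd (hl.symm.trans (wprod_nil _)) hw
  | append_singleton l k =>
    refine ⟨k, (R.rootPerm.wlen_mul_simple_lt_iff w k).1 ?_⟩
    rw [← hll, ← hl, wprod_append, wprod_cons, wprod_nil, mul_one, R.rootPerm.toGenInv.cancel_right]
    have := wlen_le R.qgen l
    simp only [List.length_append, List.length_cons, List.length_nil]; omega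

theorem invN_mul_simple {u : R.WQ} {k : Fin D.rank} (hk : ¬ half D ≤ (R.qact u (R.sroot k) : ℕ)) :
    R.invN u = R.invN (u * R.qgen k) + 1 := by
  classical
  unfold invN
  have e : (Finset.univ.filter fun r : Fin D.nroots => half D ≤ (r : ℕ) ∧ ¬ half D ≤ (R.qact u r : ℕ)) =
      insert (R.sroot k) ((Finset.univ.filter fun r : Fin D.nroots =>
        half D ≤ (r : ℕ) ∧ ¬ half D ≤ (R.qact (u * R.qgen k) r : ℕ)).map (R.wperm k).toEmbedding) := by
    ext r
    simp only [Finset.mem_filter, Finset.mem_univ, true_and, Finset.mem_insert, Finset.mem_map,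
      Equiv.coe_toEmbedding, R.qact_mul_apply, R.qact_qgen]
    constructor
    · rintro ⟨hr, hu⟩
      by_cases hrk : r = R.sroot k
      · exact Or.inl hrk
      · exact Or.inr ⟨R.wperm k r, ⟨R.wperm_pos k r hr hrk, by rw [R.wperm_invol]; exact hu⟩, R.wperm_invol k r⟩
    · rintro (rfl | ⟨t, ⟨ht, hu⟩, rfl⟩)
      · exact ⟨R.sroot_pos k, hk⟩
      · refine ⟨R.wperm_pos k t ht fun e => hu ?_, hu⟩
        rw [e, R.wperm_sroot, R.qact_negF, R.negF_pos_iff]
        exact hk
  rw [e, Finset.card_insert_of_notMem, Finset.card_map]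
  simp only [Finset.mem_map, Finset.mem_filter, Finset.mem_univ, true_and, Equiv.coe_toEmbedding, not_exists,
    not_and]
  intro t ht he
  have := congrArg (R.wperm k) he
  rw [R.wperm_invol, R.wperm_sroot] at this
  exact (R.negF_pos_iff _).1 (this ▸ ht.1) (R.sroot_pos k)

theorem invN_simple_mul {u : R.WQ} {s : Fin D.rank} (hs : half D ≤ (R.qact u⁻¹ (R.sroot s) : ℕ)) :
    R.invN (R.qgen s * u) = R.invN u + 1 := by
  classical
  unfold invN
  have e : (Finset.univ.filter fun r : Fin D.nroots => half D ≤ (r : ℕ) ∧ ¬ half D ≤ (R.qact (R.qgen s * u) r : ℕ)) =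
      insert (R.qact u⁻¹ (R.sroot s))
        (Finset.univ.filter fun r : Fin D.nroots => half D ≤ (r : ℕ) ∧ ¬ half D ≤ (R.qact u r : ℕ)) := by
    ext r
    simp only [Finset.mem_filter, Finset.mem_univ, true_and, Finset.mem_insert, R.qact_mul_apply, R.qact_qgen]
    constructor
    · rintro ⟨hr, hn⟩
      by_cases h : half D ≤ (R.qact u r : ℕ)
      · left
        have h2 : R.qact u r = R.sroot s := by
          by_contra hne; exact hn (R.wperm_pos s _ h hne)
        rw [← h2, R.qact_apply_inv]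
      · exact Or.inr ⟨hr, h⟩
    · rintro (rfl | ⟨hr, hn⟩)
      · refine ⟨hs, ?_⟩
        rw [R.qact_inv_apply]; exact R.wperm_sroot_neg s
      · refine ⟨hr, fun h => ?_⟩
        have h2 : R.wperm s (R.qact u r) = R.sroot s := by
          by_contra hne
          have := R.wperm_pos s _ h hne
          rw [R.wperm_invol] at this
          exact hn this
        have h3 : R.qact u r = R.negF (R.sroot s) := by rw [← R.wperm_invol s (R.qact u r), h2, R.wperm_sroot]
        have h4 : r = R.negF (R.qact u⁻¹ (R.sroot s)) := by rw [← R.qact_negF, ← h3, R.qact_apply_inv]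
        exact (R.negF_pos_iff _).1 (h4 ▸ hr) hs
  rw [e, Finset.card_insert_of_notMem]
  simp only [Finset.mem_filter, Finset.mem_univ, true_and, not_and, not_not]
  intro _
  rw [R.qact_inv_apply]; exact R.sroot_pos s

theorem pos_of_coef (r : Fin D.nroots) (j : Fin D.rank) (h : 0 < X.coef j (r : ℕ)) : half D ≤ (r : ℕ) := by
  by_contra hn
  have h1 := R.cert.coef_nonneg (R.negF r).2 j.2 ((R.negF_pos_iff r).2 hn)
  rw [show (R.negF r : ℕ) = D.neg r from rfl, R.cert.coef_neg r.2 j.2] at h1
  omega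

/-- `w` fixes the coordinates in `S` -/
def Fixes (S : List ℕ) (w : R.WQ) : Prop :=
  ∀ j : Fin D.rank, (j : ℕ) ∈ S → ∀ r, X.coef j (R.qact w r : ℕ) = X.coef j (r : ℕ)

/-- `u` is a shortest representative -/
def IsRep (S : List ℕ) (j : ℕ) (u : R.WQ) : Prop :=
  R.Fixes S u ∧ ∀ k : Fin D.rank, (k : ℕ) ∉ j :: S → half D ≤ (R.qact u (R.sroot k) : ℕ)

theorem fixes_one (S : List ℕ) : R.Fixes S 1 := fun j _ r => by rw [map_one, Equiv.Perm.one_apply]

theorem fixes_mul {S : List ℕ} {u v : R.WQ} (hu : R.Fixes S u) (hv : R.Fixes S v) : R.Fixes S (u * v) :=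
  fun j hj r => by rw [R.qact_mul_apply, hu j hj, hv j hj]

theorem fixes_inv {S : List ℕ} {u : R.WQ} (hu : R.Fixes S u) : R.Fixes S u⁻¹ := fun j hj r => by
  rw [← hu j hj (R.qact u⁻¹ r), R.qact_inv_apply]

theorem fixes_qgen {S : List ℕ} {k : Fin D.rank} (hk : (k : ℕ) ∉ S) : R.Fixes S (R.qgen k) := fun j hj r => by
  rw [R.qact_qgen, R.wperm_apply, R.cert.coef_w k.2 r.2 j.2, if_neg (fun e : (j : ℕ) = k => hk (e ▸ hj))]

theorem fixes_mono {S T : List ℕ} (h : ∀ x ∈ S, x ∈ T) {u : R.WQ} (hu : R.Fixes T u) : R.Fixes S u :=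
  fun j hj => hu j (h _ hj)

theorem fixes_pos {S : List ℕ} {v : R.WQ} (hv : R.Fixes S v) {t : Fin D.nroots} (ht : half D ≤ (t : ℕ))
    {i : Fin D.rank} (hi : (i : ℕ) ∈ S) (hne : X.coef i (t : ℕ) ≠ 0) : half D ≤ (R.qact v t : ℕ) :=
  R.pos_of_coef _ i (by rw [hv i hi]; exact lt_of_le_of_ne (R.cert.coef_nonneg t.2 i.2 ht) (Ne.symm hne))

theorem rep_pos {S : List ℕ} {j : ℕ} {u : R.WQ} (hu : R.IsRep S j u) {t : Fin D.nroots} (ht : half D ≤ (t : ℕ))
    (ht' : ∀ i : Fin D.rank, (i : ℕ) ∈ j :: S → X.coef i (t : ℕ) = 0) : half D ≤ (R.qact u t : ℕ) := by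
  obtain ⟨a, ha⟩ := R.exists_coef_ne_zero (R.qact u t)
  refine R.pos_of_coef _ a (lt_of_le_of_ne ?_ (Ne.symm ha))
  rw [R.isLin_qact u t a]
  refine Finset.sum_nonneg fun i _ => ?_
  by_cases hi : (i : ℕ) ∈ j :: S
  · rw [ht' i hi, zero_mul]
  · exact mul_nonneg (R.cert.coef_nonneg t.2 i.2 ht) (R.cert.coef_nonneg (R.qact u (R.sroot i)).2 a.2 (hu.2 i hi))

theorem descent_notMem {S : List ℕ} {v : R.WQ} (hv : R.Fixes S v) {k : Fin D.rank}
    (hk : ¬ half D ≤ (R.qact v (R.sroot k) : ℕ)) : (k : ℕ) ∉ S := fun h =>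
  hk (R.fixes_pos hv (R.sroot_pos k) h (by rw [R.coef_sroot, if_pos rfl]; exact one_ne_zero))

theorem rep_unique {S : List ℕ} {j : ℕ} {u u' : R.WQ} (hu : R.IsRep S j u) (hu' : R.IsRep S j u')
    (hv : R.Fixes (j :: S) (u⁻¹ * u')) : u' = u := by
  by_contra hne
  obtain ⟨k, hk⟩ := R.exists_descent (w := u⁻¹ * u') fun h => hne (inv_mul_eq_one.1 h).symm
  have hkS := R.descent_notMem hv hk
  have h1 : half D ≤ (R.qact u (R.negF (R.qact (u⁻¹ * u') (R.sroot k))) : ℕ) := by
    refine R.rep_pos hu ((R.negF_pos_iff _).2 hk) fun i hi => ?_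
    rw [show (R.negF (R.qact (u⁻¹ * u') (R.sroot k)) : ℕ) = D.neg (R.qact (u⁻¹ * u') (R.sroot k) : ℕ) from rfl,
      R.cert.coef_neg (R.qact (u⁻¹ * u') (R.sroot k)).2 i.2, hv i hi, R.coef_sroot,
      if_neg (fun e : i = k => hkS (e ▸ hi)), neg_zero]
  rw [← R.qact_negF, ← R.qact_mul_apply, mul_inv_cancel_left, R.qact_negF, R.negF_pos_iff] at h1
  exact h1 (hu'.2 k hkS)

theorem invN_rep_mul {S : List ℕ} {j : ℕ} {u v : R.WQ} (hu : R.IsRep S j u) (hv : R.Fixes (j :: S) v) :
    R.invN (u * v) = R.invN u + R.invN v := by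
  classical
  have hsplit : ∀ t : Fin D.nroots, half D ≤ (t : ℕ) → ¬ half D ≤ (R.qact u t : ℕ) →
      ∃ i : Fin D.rank, (i : ℕ) ∈ j :: S ∧ X.coef i (t : ℕ) ≠ 0 := by
    intro t ht hn
    by_contra hc
    exact hn (R.rep_pos hu ht fun i hi => by_contra fun hne => hc ⟨i, hi, hne⟩)
  have hvneg : ∀ r : Fin D.nroots, half D ≤ (r : ℕ) → ¬ half D ≤ (R.qact v r : ℕ) →
      ¬ half D ≤ (R.qact u (R.qact v r) : ℕ) := by
    intro r hr hn
    have := R.rep_pos hu ((R.negF_pos_iff _).2 hn) fun i hi => by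
      by_contra hne
      refine hn (R.fixes_pos hv hr hi ?_)
      intro h0
      refine hne ?_
      rw [show (R.negF (R.qact v r) : ℕ) = D.neg (R.qact v r : ℕ) from rfl, R.cert.coef_neg (R.qact v r).2 i.2,
        hv i hi, h0, neg_zero]
    rwa [R.qact_negF, R.negF_pos_iff] at this
  unfold invN
  rw [← Finset.card_map (R.qact v⁻¹).toEmbedding
    (s := Finset.univ.filter fun r : Fin D.nroots => half D ≤ (r : ℕ) ∧ ¬ half D ≤ (R.qact u r : ℕ)),
    ← Finset.card_union_of_disjoint]
  · refine congrArg Finset.card ?_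
    ext r
    simp only [Finset.mem_union, Finset.mem_map, Finset.mem_filter, Finset.mem_univ, true_and,
      Equiv.coe_toEmbedding, R.qact_mul_apply]
    constructor
    · rintro ⟨hr, hn⟩
      by_cases h : half D ≤ (R.qact v r : ℕ)
      · exact Or.inl ⟨R.qact v r, ⟨h, hn⟩, R.qact_apply_inv v r⟩
      · exact Or.inr ⟨hr, h⟩
    · rintro (⟨t, ⟨ht, hn⟩, rfl⟩ | ⟨hr, hn⟩)
      · obtain ⟨i, hi, hne⟩ := hsplit t ht hn
        exact ⟨R.fixes_pos (R.fixes_inv hv) ht hi hne, by rw [R.qact_inv_apply]; exact hn⟩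
      · exact ⟨hr, hvneg r hr hn⟩
  · rw [Finset.disjoint_left]
    intro r h1 h2
    simp only [Finset.mem_map, Finset.mem_filter, Finset.mem_univ, true_and, Equiv.coe_toEmbedding] at h1 h2
    obtain ⟨t, ⟨ht, _⟩, rfl⟩ := h1
    rw [R.qact_inv_apply] at h2
    exact h2.2 ht

theorem exists_rep (S : List ℕ) (j : ℕ) {w : R.WQ} (hw : R.Fixes S w) :
    ∃ u v, R.IsRep S j u ∧ R.Fixes (j :: S) v ∧ w = u * v := by
  induction hn : R.invN w using Nat.strong_induction_on generalizing w with
  | _ n ih =>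
    by_cases h : ∀ k : Fin D.rank, (k : ℕ) ∉ j :: S → half D ≤ (R.qact w (R.sroot k) : ℕ)
    · exact ⟨w, 1, ⟨hw, h⟩, R.fixes_one _, (mul_one w).symm⟩
    · simp only [not_forall] at h
      obtain ⟨k, hk, hneg⟩ := h
      obtain ⟨u, v, hu, hv, e⟩ := ih (R.invN (w * R.qgen k)) (by have := R.invN_mul_simple hneg; omega)
        (R.fixes_mul hw (R.fixes_qgen fun h => hk (List.mem_cons_of_mem _ h))) rfl
      exact ⟨u, v * R.qgen k, hu, R.fixes_mul hv (R.fixes_qgen hk),
        by rw [← mul_assoc, ← e, R.qgen_genInv.cancel_right]⟩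

/-- the coweight attached to a representative -/
noncomputable def lam (j : Fin D.rank) (u : R.WQ) : List ℤ :=
  (List.range D.rank).map fun i =>
    if h : i < D.rank then X.coef j (R.qact u⁻¹ (R.sroot ⟨i, h⟩) : ℕ) else 0

theorem lam_getD (j : Fin D.rank) (u : R.WQ) (i : Fin D.rank) :
    (R.lam j u).getD (i : ℕ) 0 = X.coef j (R.qact u⁻¹ (R.sroot i) : ℕ) := by
  simp [lam, List.getD_eq_getElem?_getD, i.2]

theorem lam_step (j : Fin D.rank) (u : R.WQ) (s : Fin D.rank) :
    R.lam j (R.qgen s * u) = reflVec (cmat D) D.rank (R.lam j u) s := by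
  refine List.map_congr_left fun k hk => ?_
  have hk' := List.mem_range.1 hk
  obtain ⟨k, rfl⟩ : ∃ k' : Fin D.rank, k = k' := ⟨⟨k, hk'⟩, rfl⟩
  rw [dif_pos hk', R.lam_getD, R.lam_getD, Fin.eta, mul_inv_rev, R.qgen_genInv.inv, R.qact_mul_apply, R.qact_qgen,
    R.isLin_qact u⁻¹ (R.wperm s (R.sroot k)) j]
  have e : ∀ t : Fin D.rank, X.coef t (R.wperm s (R.sroot k) : ℕ) =
      (if t = k then 1 else 0) - if t = s then D.cartan s (D.simple k) else 0 := fun t => by
    rw [R.wperm_apply, R.cert.coef_w s.2 (R.sroot k).2 t.2, R.coef_sroot]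
    simp only [Fin.ext_iff]
    split_ifs <;> simp [sroot]
  simp only [e, sub_mul, Finset.sum_sub_distrib, ite_mul, one_mul, zero_mul, Finset.sum_ite_eq', Finset.mem_univ,
    if_true]
  have hM : ((cmat D).getD (s : ℕ) []).getD (k : ℕ) 0 = D.cartan s (D.simple k) := by
    simp [cmat, List.getD_eq_getElem?_getD, s.2, k.2]
  rw [hM]

theorem lam_inj {S : List ℕ} {j : Fin D.rank} {u u' : R.WQ} (hu : R.IsRep S j u) (hu' : R.IsRep S j u')
    (h : R.lam j u = R.lam j u') : u' = u := by
  refine R.rep_unique hu hu' fun i hi r => ?_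
  rcases List.mem_cons.1 hi with hi | hi
  · obtain rfl : i = j := Fin.ext hi
    have h1 : ∀ x : Fin D.nroots, X.coef i (R.qact u⁻¹ x : ℕ) = X.coef i (R.qact u'⁻¹ x : ℕ) := by
      intro x
      rw [R.isLin_qact u⁻¹ x i, R.isLin_qact u'⁻¹ x i]
      refine Finset.sum_congr rfl fun t _ => ?_
      rw [← R.lam_getD, ← R.lam_getD, h]
    rw [R.qact_mul_apply, h1, R.qact_apply_inv]
  · exact R.fixes_mul (R.fixes_inv hu.1) hu'.1 i hi r

theorem lam_one (j : Fin D.rank) : R.lam j 1 = (List.range D.rank).map fun i => if i = (j : ℕ) then 1 else 0 := by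
  refine List.map_congr_left fun i hi => ?_
  rw [dif_pos (List.mem_range.1 hi), inv_one, map_one, Equiv.Perm.one_apply, R.coef_sroot]
  simp [Fin.ext_iff, eq_comm]

theorem mem_orbStep {S : List ℕ} {L : List (List ℤ)} {x : List ℤ} : x ∈ orbStep (cmat D) D.rank S L ↔
    ∃ v ∈ L, ∃ i : Fin D.rank, (i : ℕ) ∉ S ∧ 0 < v.getD (i : ℕ) 0 ∧ x = reflVec (cmat D) D.rank v i := by
  have _ := R
  simp only [orbStep, List.mem_dedup, List.mem_flatMap, List.mem_map, List.mem_filter, List.mem_range,
    Bool.and_eq_true, Bool.not_eq_true', List.contains_eq_mem, decide_eq_false_iff_not, decide_eq_true_eq]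
  constructor
  · rintro ⟨v, hv, i, ⟨hi, h1, h2⟩, rfl⟩; exact ⟨v, hv, ⟨i, hi⟩, h1, h2, rfl⟩
  · rintro ⟨v, hv, i, h1, h2, rfl⟩; exact ⟨v, hv, i, ⟨i.2, h1, h2⟩, rfl⟩

theorem mem_orbLayer (S : List ℕ) (j : Fin D.rank) (k : ℕ) (x : List ℤ) :
    x ∈ orbLayer (cmat D) D.rank S j k ↔ ∃ u, R.IsRep S j u ∧ R.invN u = k ∧ R.lam j u = x := by
  induction k generalizing x with
  | zero =>
    rw [orbLayer, List.mem_singleton, ← R.lam_one]
    constructor
    · rintro rfl
      refine ⟨1, ⟨R.fixes_one S, fun k _ => by rw [map_one, Equiv.Perm.one_apply]; exact R.sroot_pos k⟩, ?_, rfl⟩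
      exact R.invN_one
    · rintro ⟨u, _, h0, rfl⟩
      by_cases hu : u = 1
      · rw [hu]
      · obtain ⟨k, hk⟩ := R.exists_descent hu
        have := R.invN_mul_simple hk
        omega
  | succ k ih =>
    rw [orbLayer, R.mem_orbStep]
    constructor
    · rintro ⟨v, hv, i, hiS, hpos, rfl⟩
      obtain ⟨u, hu, hk, rfl⟩ := (ih v).1 hv
      rw [R.lam_getD] at hpos
      have hp : half D ≤ (R.qact u⁻¹ (R.sroot i) : ℕ) := R.pos_of_coef _ j hpos
      refine ⟨R.qgen i * u, ⟨R.fixes_mul (R.fixes_qgen hiS) hu.1, fun t ht => ?_⟩,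
        by rw [R.invN_simple_mul hp, hk], R.lam_step j u i⟩
      rw [R.qact_mul_apply, R.qact_qgen]
      refine R.wperm_pos i _ (hu.2 t ht) fun e => ?_
      rw [← e, R.qact_apply_inv, R.coef_sroot, if_neg (fun h : j = t => ht (h ▸ List.mem_cons_self))] at hpos
      exact lt_irrefl _ hpos
    · rintro ⟨u, hu, hk, rfl⟩
      have hne : u⁻¹ ≠ 1 := fun h => by
        rw [inv_eq_one] at h
        subst h
        rw [R.invN_one] at hk
        omega
      obtain ⟨s, hs⟩ := R.exists_descent hne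
      have hsS := R.descent_notMem (R.fixes_inv hu.1) hs
      have hu' : R.IsRep S j (R.qgen s * u) := by
        refine ⟨R.fixes_mul (R.fixes_qgen hsS) hu.1, fun t ht => ?_⟩
        rw [R.qact_mul_apply, R.qact_qgen]
        refine R.wperm_pos s _ (hu.2 t ht) fun e => hs ?_
        rw [← e, R.qact_apply_inv]; exact R.sroot_pos t
      have hp : half D ≤ (R.qact (R.qgen s * u)⁻¹ (R.sroot s) : ℕ) := by
        rw [mul_inv_rev, R.qgen_genInv.inv, R.qact_mul_apply, R.qact_qgen, R.wperm_sroot, R.qact_negF,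
          R.negF_pos_iff]
        exact hs
      have hinv := R.invN_simple_mul hp
      rw [R.qgen_genInv.cancel] at hinv
      refine ⟨R.lam j (R.qgen s * u), (ih _).2 ⟨_, hu', by omega, rfl⟩, s, hsS, ?_, ?_⟩
      · rw [R.lam_getD]
        refine lt_of_le_of_ne (R.cert.coef_nonneg (R.qact (R.qgen s * u)⁻¹ (R.sroot s)).2 j.2 hp) fun h0 => ?_
        have hup : half D ≤ (R.qact (R.qgen s * u)⁻¹ (R.sroot s) : ℕ) := hp
        have := R.rep_pos hu hup fun i hi => by
          rcases List.mem_cons.1 hi with hi | hi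
          · rw [show i = j from Fin.ext hi]; exact h0.symm
          · rw [R.fixes_inv hu'.1 i hi, R.coef_sroot, if_neg (fun e : i = s => hsS (e ▸ hi))]
        rw [mul_inv_rev, R.qgen_genInv.inv, R.qact_mul_apply, R.qact_qgen, R.qact_inv_apply] at this
        exact R.wperm_sroot_neg s this
      · rw [← R.lam_step, R.qgen_genInv.cancel]

theorem card_reps [Fintype R.WQ] (S : List ℕ) (j : Fin D.rank) (k : ℕ)
    [DecidablePred fun u : R.WQ => R.IsRep S j u] :
    ((Finset.univ.filter fun u : R.WQ => R.IsRep S j u).filter fun u => R.invN u = k).card =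
      (orbLayer (cmat D) D.rank S j k).length := by
  classical
  have hnd : (orbLayer (cmat D) D.rank S j k).Nodup := by
    cases k with
    | zero => exact List.nodup_singleton _
    | succ k => exact List.nodup_dedup _
  rw [← List.toFinset_card_of_nodup hnd, ← Finset.card_image_of_injOn (f := fun u => R.lam j u)]
  · congr 1
    ext x
    simp only [Finset.mem_image, Finset.mem_filter, Finset.mem_univ, true_and, List.mem_toFinset, R.mem_orbLayer S j k,
      and_assoc]
  · intro u hu u' hu' e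
    simp only [Finset.coe_filter, Finset.mem_filter, Finset.mem_univ, true_and, Set.mem_ofPred_eq] at hu hu'
    exact (R.lam_inj hu.1 hu'.1 e).symm

theorem invN_le (u : R.WQ) : R.invN u ≤ half D := by
  have hn := R.cert.nroots_eq
  have : R.invN u ≤ (Finset.univ.filter fun r : Fin D.nroots => half D ≤ (r : ℕ)).card :=
    Finset.card_le_card fun r hr => by
      simp only [Finset.mem_filter, Finset.mem_univ, true_and] at hr ⊢
      exact hr.1
  refine this.trans (le_of_eq ((Fintype.card_subtype _).symm.trans ((Fintype.card_congr ?_).trans (Fintype.card_fin _))))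
  exact
    { toFun := fun r => ⟨(r.1 : ℕ) - half D, by have := r.1.2; have := r.2; omega⟩
      invFun := fun i => ⟨⟨half D + i, by have := i.2; omega⟩, Nat.le_add_right _ _⟩
      left_inv := fun r => Subtype.ext (Fin.ext (by have := r.2; simp only; omega))
      right_inv := fun i => Fin.ext (by simp) }

/-- length polynomial of the stabiliser of the coordinates in `S` -/
noncomputable def fixSum {A : Type*} [CommSemiring A] [Fintype R.WQ] (S : List ℕ) (q : A) : A :=
  open Classical in ∑ w ∈ Finset.univ.filter (fun w => R.Fixes S w), q ^ R.invN w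

theorem fixSum_step {A : Type*} [CommSemiring A] [Fintype R.WQ] (S : List ℕ) (j : Fin D.rank) (q : A) :
    R.fixSum S q = polyVal q (orbCounts (cmat D) D.rank S j (half D)) * R.fixSum ((j : ℕ) :: S) q := by
  classical
  have h1 : R.fixSum S q = (∑ u ∈ Finset.univ.filter (fun u => R.IsRep S j u), q ^ R.invN u) *
      R.fixSum ((j : ℕ) :: S) q := by
    unfold fixSum
    rw [Finset.sum_mul_sum, ← Finset.sum_product']
    refine (Finset.sum_bij (fun x _ => x.1 * x.2) ?_ ?_ ?_ ?_).symm
    · intro x hx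
      simp only [Finset.mem_product, Finset.mem_filter, Finset.mem_univ, true_and] at hx ⊢
      exact R.fixes_mul hx.1.1 (R.fixes_mono (fun _ h => List.mem_cons_of_mem _ h) hx.2)
    · intro x hx y hy e
      simp only [Finset.mem_product, Finset.mem_filter, Finset.mem_univ, true_and] at hx hy
      have h := R.rep_unique hx.1 hy.1 (by
        rw [show x.1⁻¹ * y.1 = x.2 * y.2⁻¹ by rw [eq_mul_inv_iff_mul_eq, mul_assoc, ← e, inv_mul_cancel_left]]
        exact R.fixes_mul hx.2 (R.fixes_inv hy.2))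
      rw [h] at e
      exact Prod.ext h.symm (mul_left_cancel e)
    · intro w hw
      simp only [Finset.mem_filter, Finset.mem_univ, true_and] at hw
      obtain ⟨u, v, hu, hv, rfl⟩ := R.exists_rep S j hw
      exact ⟨(u, v), by simp [hu, hv], rfl⟩
    · intro x hx
      simp only [Finset.mem_product, Finset.mem_filter, Finset.mem_univ, true_and] at hx
      rw [R.invN_rep_mul hx.1 hx.2, pow_add]
  rw [h1]
  congr 1
  rw [← Finset.sum_fiberwise_of_maps_to (g := fun u => R.invN u) (t := Finset.range (half D + 1))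
    (fun u _ => Finset.mem_range.2 (by have := R.invN_le u; omega))]
  simp only [polyVal, orbCounts]
  rw [List.zipIdx_map, List.map_map,
    show (List.range (half D + 1)).zipIdx = (List.range (half D + 1)).map (fun k => (k, k)) from
      List.ext_getElem (by simp) (by simp), List.map_map, ← List.sum_toFinset _ List.nodup_range, List.toFinset_range]
  refine Finset.sum_congr rfl fun k _ => ?_
  rw [Finset.sum_congr rfl (fun u hu => by rw [(Finset.mem_filter.1 hu).2]), Finset.sum_const, R.card_reps S j k,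
    nsmul_eq_mul]
  rfl

theorem fixSum_all {A : Type*} [CommSemiring A] [Fintype R.WQ] {S : List ℕ} (hS : ∀ i < D.rank, i ∈ S) (q : A) :
    R.fixSum S q = 1 := by
  classical
  have h : ∀ w, R.Fixes S w ↔ w = 1 := fun w => ⟨fun hw => by
    by_contra hne
    obtain ⟨k, hk⟩ := R.exists_descent hne
    exact R.descent_notMem hw hk (hS k k.2), fun e => e ▸ R.fixes_one S⟩
  unfold fixSum
  rw [Finset.filter_congr (fun w _ => h w), Finset.filter_eq', if_pos (Finset.mem_univ _), Finset.sum_singleton]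
  rw [R.invN_one, pow_zero]

theorem fixSum_chain {A : Type*} [CommSemiring A] [Fintype R.WQ] (q : A) : ∀ (ord S : List ℕ),
    (∀ j ∈ ord, j < D.rank) → (∀ i < D.rank, i ∈ S ∨ i ∈ ord) →
    R.fixSum S q = ((chainCounts (cmat D) D.rank (half D) S ord).map (polyVal q)).prod
  | [], S, _, hcov => by
    rw [chainCounts, List.map_nil, List.prod_nil, R.fixSum_all fun i hi => (hcov i hi).resolve_right (by simp)]
  | j :: ord, S, hlt, hcov => by
    rw [chainCounts, List.map_cons, List.prod_cons, R.fixSum_step S ⟨j, hlt j List.mem_cons_self⟩,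
      fixSum_chain q ord (j :: S) (fun i hi => hlt i (List.mem_cons_of_mem _ hi)) fun i hi => by
        rcases hcov i hi with h | h
        · exact Or.inl (List.mem_cons_of_mem _ h)
        · rcases List.mem_cons.1 h with h | h
          · exact Or.inl (h ▸ List.mem_cons_self)
          · exact Or.inr h]

/-- the length polynomial of the Weyl group -/
theorem sum_pow_inv {A : Type*} [CommSemiring A] [Fintype R.WQ] (q : A) (ord : List ℕ)
    (hlt : ∀ j ∈ ord, j < D.rank) (hcov : ∀ i < D.rank, i ∈ ord) :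
    ∑ w : R.WQ, q ^ Nat.card (invSet (R.qact w)) =
      ((chainCounts (cmat D) D.rank (half D) [] ord).map (polyVal q)).prod := by
  classical
  rw [← R.fixSum_chain q ord [] hlt fun i hi => Or.inr (hcov i hi)]
  unfold fixSum
  rw [Finset.filter_true_of_mem fun w _ => show R.Fixes [] w from fun j hj => absurd hj List.not_mem_nil]
  exact Finset.sum_congr rfl fun w _ => by rw [R.invN_eq]

end Rel

end CfsgLib.Lie.Chev
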