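/-
Weyl-group combinatorics for parabolic subgroups: minimal coset representatives, longest elements, descents.
-/
import Cfsg.Agent.Lib.Lie.Rel.Parabolic
import Cfsg.Agent.Lib.Lie.Rel.Poincare

set_option autoImplicit false

namespace CfsgLib.Lie.Chev

open Cfsg.Lie (ChevalleyDatum)
open CfsgLib.Lie.Exchange

namespace Rel

variable {D : ChevalleyDatum} {X : Aux} {F : Type*} [Field F] {G : Type*} [Group G] (R : Rel D X F G)
include R

theorem pos_iff_coef (r : Fin D.nroots) :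
    half D ≤ (r : ℕ) ↔ ∀ j : Fin D.rank, 0 ≤ X.coef j (r : ℕ) := by
  refine ⟨fun h j => R.cert.coef_nonneg r.2 j.2 h, fun h => ?_⟩
  obtain ⟨j, hj⟩ := R.exists_coef_ne_zero r
  exact R.pos_of_coef r j (lt_of_le_of_ne (h j) (Ne.symm hj))

/-- the parabolic subgroup of the Weyl group -/
def wJ (J : Set ℕ) : Subgroup R.WQ := Subgroup.closure (R.qgen '' {i | (i : ℕ) ∈ J})

theorem wJ_mono {J K : Set ℕ} (h : J ⊆ K) : R.wJ J ≤ R.wJ K :=
  Subgroup.closure_mono (Set.image_mono fun _ hi => h hi)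

theorem qgen_mem_wJ {J : Set ℕ} {i : Fin D.rank} (hi : (i : ℕ) ∈ J) : R.qgen i ∈ R.wJ J :=
  Subgroup.subset_closure ⟨i, hi, rfl⟩

theorem coef_wJ {J : Set ℕ} {u : R.WQ} (hu : u ∈ R.wJ J) {k : ℕ} (hk : k < D.rank) (hkJ : k ∉ J)
    (r : Fin D.nroots) : X.coef k (R.qact u r : ℕ) = X.coef k (r : ℕ) := by
  induction hu using Subgroup.closure_induction generalizing r with
  | mem x hx =>
    obtain ⟨i, hi, rfl⟩ := hx
    rw [R.qact_qgen, R.wperm_apply, R.cert.coef_w i.2 r.2 hk, if_neg]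
    rintro rfl
    exact hkJ hi
  | one => rw [map_one, Equiv.Perm.one_apply]
  | mul a b _ _ ha hb => rw [R.qact_mul_apply, ha, hb]
  | inv a _ ha =>
    have h := ha (R.qact a⁻¹ r)
    rw [R.qact_inv_apply] at h
    exact h.symm

theorem qact_mem_sub {J : Set ℕ} {u : R.WQ} (hu : u ∈ R.wJ J) {r : Fin D.nroots} (hr : r ∈ subSet D X J) :
    R.qact u r ∈ subSet D X J := fun k hk hkJ => by
  rw [R.coef_wJ hu hk hkJ]
  exact hr k hk hkJ

theorem pos_wJ_of_not_sub {J : Set ℕ} {u : R.WQ} (hu : u ∈ R.wJ J) {r : Fin D.nroots}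
    (hp : half D ≤ (r : ℕ)) (hr : r ∉ subSet D X J) : half D ≤ (R.qact u r : ℕ) := by
  simp only [subSet, Set.mem_setOf_eq, not_forall] at hr
  obtain ⟨k, hk, hkJ, hne⟩ := hr
  refine R.pos_of_coef _ ⟨k, hk⟩ ?_
  show 0 < X.coef k _
  rw [R.coef_wJ hu hk hkJ]
  have := R.cert.coef_nonneg r.2 hk hp
  omega

/-- no descent at `k` -/
def asc (x : R.WQ) (k : ℕ) : Prop := ∀ h : k < D.rank, half D ≤ (R.qact x (R.sroot ⟨k, h⟩) : ℕ)

/-- minimal in its coset of `W_J` -/
def IsMin (J : Set ℕ) (x : R.WQ) : Prop := ∀ k ∈ J, R.asc x k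

theorem IsMin.mono {J K : Set ℕ} {x : R.WQ} (h : R.IsMin K x) (hJ : J ⊆ K) : R.IsMin J x :=
  fun k hk => h k (hJ hk)

/-- all descents in `J` -/
def IsMax (J : Set ℕ) (x : R.WQ) : Prop :=
  ∀ i : Fin D.rank, (i : ℕ) ∈ J → ¬ half D ≤ (R.qact x (R.sroot i) : ℕ)

theorem pos_of_sub {J : Set ℕ} {x : R.WQ} (hx : R.IsMin J x) {r : Fin D.nroots}
    (hp : half D ≤ (r : ℕ)) (hr : r ∈ subSet D X J) : half D ≤ (R.qact x r : ℕ) := by
  rw [R.pos_iff_coef]
  intro j
  rw [R.isLin_qact x r j]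
  refine Finset.sum_nonneg fun i _ => ?_
  by_cases hi : (i : ℕ) ∈ J
  · exact mul_nonneg (R.cert.coef_nonneg r.2 i.2 hp)
      ((R.pos_iff_coef _).1 (hx i hi i.2) j)
  · rw [hr i i.2 hi, zero_mul]

theorem neg_of_sub {J : Set ℕ} {x : R.WQ} (hx : R.IsMax J x) {r : Fin D.nroots}
    (hp : half D ≤ (r : ℕ)) (hr : r ∈ subSet D X J) : ¬ half D ≤ (R.qact x r : ℕ) := by
  intro h
  obtain ⟨j, hj⟩ := R.exists_coef_ne_zero (R.qact x r)
  refine hj (le_antisymm ?_ ((R.pos_iff_coef _).1 h j))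
  rw [R.isLin_qact x r j]
  refine Finset.sum_nonpos fun i _ => ?_
  by_cases hi : (i : ℕ) ∈ J
  · refine mul_nonpos_of_nonneg_of_nonpos (R.cert.coef_nonneg r.2 i.2 hp) ?_
    by_contra hc
    exact hx i hi (R.pos_of_coef _ j (not_le.1 hc))
  · rw [hr i i.2 hi, zero_mul]

theorem exists_descent_wJ {J : Set ℕ} {u : R.WQ} (hu : u ∈ R.wJ J) (hne : u ≠ 1) :
    ∃ i : Fin D.rank, (i : ℕ) ∈ J ∧ ¬ half D ≤ (R.qact u (R.sroot i) : ℕ) := by
  obtain ⟨l, hl, he, hr⟩ := R.rootPerm.exSys.exists_reduced_of_mem_closure hu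
  cases l using List.reverseRecOn with
  | nil => exact absurd (he.symm.trans (wprod_nil _)) hne
  | append_singleton l i =>
    refine ⟨i, hl i (by simp), (R.rootPerm.wlen_mul_simple_lt_iff u i).1 ?_⟩
    unfold WReduced at hr
    rw [← he, hr, wprod_append, wprod_cons, wprod_nil, mul_one, R.rootPerm.toGenInv.cancel_right]
    have := wlen_le R.qgen l
    simp only [List.length_append, List.length_cons, List.length_nil]
    omega

theorem min_unique {J : Set ℕ} {x v : R.WQ} (hv : v ∈ R.wJ J) (hx : R.IsMin J x)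
    (hxv : R.IsMin J (x * v)) : v = 1 := by
  by_contra hne
  obtain ⟨i, hi, hn⟩ := R.exists_descent_wJ hv hne
  have hs := R.qact_mem_sub hv (R.sroot_mem_sub J hi)
  have h1 := R.pos_of_sub hx ((R.negF_pos_iff _).2 hn) (R.negF_mem_sub J hs)
  rw [R.qact_negF, R.negF_pos_iff] at h1
  have h2 := hxv i hi i.2
  rw [R.qact_mul_apply] at h2
  exact h1 h2

theorem exists_min (J : Set ℕ) (w : R.WQ) : ∃ x, R.IsMin J x ∧ x⁻¹ * w ∈ R.wJ J := by
  induction hn : wlen R.qgen w using Nat.strong_induction_on generalizing w with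
  | _ n ih =>
    by_cases hw : R.IsMin J w
    · exact ⟨w, hw, by rw [inv_mul_cancel]; exact one_mem _⟩
    · simp only [IsMin, asc, not_forall] at hw
      obtain ⟨k, hk, hkr, hneg⟩ := hw
      have hlt := (R.rootPerm.wlen_mul_simple_lt_iff w ⟨k, hkr⟩).2 hneg
      obtain ⟨x, hx, hmem⟩ := ih _ (hn ▸ hlt) (w * R.qgen ⟨k, hkr⟩) rfl
      refine ⟨x, hx, ?_⟩
      have := mul_mem hmem (R.qgen_mem_wJ (i := ⟨k, hkr⟩) hk)
      rwa [mul_assoc, R.rootPerm.toGenInv.cancel_right] at this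

theorem exists_longest (K : Set ℕ) : ∃ w ∈ R.wJ K, R.IsMax K w := by
  have := R.rootPerm.finite
  have : Nonempty (R.wJ K) := ⟨1⟩
  obtain ⟨⟨w, hw⟩, hmax⟩ := Finite.exists_max (fun u : R.wJ K => wlen R.qgen (u : R.WQ))
  refine ⟨w, hw, fun i hi hpos => ?_⟩
  have h1 : wlen R.qgen (w * R.qgen i) ≤ wlen R.qgen w := hmax ⟨_, mul_mem hw (R.qgen_mem_wJ hi)⟩
  have h2 : ¬ wlen R.qgen (w * R.qgen i) < wlen R.qgen w := fun h =>
    (R.rootPerm.wlen_mul_simple_lt_iff w i).1 h hpos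
  have h3 := R.rootPerm.exSys.wlen_mul_simple_ne w i
  omega

/-- the longest element of `W_K` -/
noncomputable def wMax (K : Set ℕ) : R.WQ := (R.exists_longest K).choose

theorem wMax_mem (K : Set ℕ) : R.wMax K ∈ R.wJ K := (R.exists_longest K).choose_spec.1

theorem wMax_isMax (K : Set ℕ) : R.IsMax K (R.wMax K) := (R.exists_longest K).choose_spec.2

theorem max_inv_pos {K : Set ℕ} {x : R.WQ} (hx : x ∈ R.wJ K) (hM : R.IsMax K x) {r : Fin D.nroots}
    (hn : ¬ half D ≤ (r : ℕ)) (hr : r ∈ subSet D X K) : half D ≤ (R.qact x⁻¹ r : ℕ) := by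
  by_contra h
  have h1 := R.neg_of_sub hM ((R.negF_pos_iff _).2 h)
    (R.negF_mem_sub K (R.qact_mem_sub (inv_mem hx) hr))
  rw [R.qact_negF, R.qact_inv_apply, R.negF_pos_iff, not_not] at h1
  exact hn h1

theorem max_unique {K : Set ℕ} {x y : R.WQ} (hx : x ∈ R.wJ K) (hy : y ∈ R.wJ K) (hMx : R.IsMax K x)
    (hMy : R.IsMax K y) : x = y := by
  by_contra hne
  obtain ⟨i, hi, hneg⟩ := R.exists_descent_wJ (mul_mem (inv_mem hx) hy)
    (fun e => hne (inv_mul_eq_one.1 e))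
  rw [R.qact_mul_apply] at hneg
  exact hneg (R.max_inv_pos hx hMx (hMy i hi) (R.qact_mem_sub hy (R.sroot_mem_sub K hi)))

theorem wMax_inv (K : Set ℕ) : (R.wMax K)⁻¹ = R.wMax K := by
  refine R.max_unique (inv_mem (R.wMax_mem K)) (R.wMax_mem K) (fun i hi hpos => ?_) (R.wMax_isMax K)
  have h := R.neg_of_sub (R.wMax_isMax K) hpos
    (R.qact_mem_sub (inv_mem (R.wMax_mem K)) (R.sroot_mem_sub K hi))
  rw [R.qact_inv_apply] at h
  exact h (R.sroot_pos i)

theorem wMax_mul_self (K : Set ℕ) : R.wMax K * R.wMax K = 1 := by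
  nth_rewrite 1 [← R.wMax_inv K]
  exact inv_mul_cancel _

theorem invSet_wMax (K : Set ℕ) :
    invSet (R.qact (R.wMax K)) = {r : Fin D.nroots | half D ≤ (r : ℕ) ∧ r ∈ subSet D X K} := by
  ext r
  exact ⟨fun h => ⟨h.1, by_contra fun hr => h.2 (R.pos_wJ_of_not_sub (R.wMax_mem K) h.1 hr)⟩,
    fun h => ⟨h.1, R.neg_of_sub (R.wMax_isMax K) h.1 h.2⟩⟩

theorem wJ_univ {K : Set ℕ} (hK : ∀ i < D.rank, i ∈ K) (w : R.WQ) : w ∈ R.wJ K := by
  obtain ⟨l, rfl⟩ := R.qgen_genInv.gen w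
  exact list_prod_mem fun x hx => by
    obtain ⟨i, -, rfl⟩ := List.mem_map.1 hx
    exact R.qgen_mem_wJ (hK i i.2)

theorem invN_inv (w : R.WQ) : R.invN w⁻¹ = R.invN w := by
  classical
  unfold invN
  refine Finset.card_bij (fun r _ => R.negF (R.qact w⁻¹ r)) (fun r hr => ?_) (fun a _ b _ e => ?_)
    fun r hr => ⟨R.negF (R.qact w r), ?_, ?_⟩
  · simp only [Finset.mem_filter, Finset.mem_univ, true_and] at hr ⊢
    refine ⟨(R.negF_pos_iff _).2 hr.2, ?_⟩
    rw [R.qact_negF, R.qact_inv_apply, R.negF_pos_iff, not_not]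
    exact hr.1
  · have := congrArg R.negF e
    rw [R.negF_negF, R.negF_negF] at this
    exact (R.qact w⁻¹).injective this
  · simp only [Finset.mem_filter, Finset.mem_univ, true_and] at hr ⊢
    refine ⟨(R.negF_pos_iff _).2 hr.2, ?_⟩
    rw [R.qact_negF, R.qact_apply_inv, R.negF_pos_iff, not_not]
    exact hr.1
  · rw [R.qact_negF, R.qact_apply_inv, R.negF_negF]

/-- the number of positive roots in the span of `K` -/
noncomputable def nSub (_R : Rel D X F G) (K : Set ℕ) : ℕ :=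
  Nat.card {r : Fin D.nroots // half D ≤ (r : ℕ) ∧ r ∈ subSet D X K}

theorem invN_wMax (K : Set ℕ) : R.invN (R.wMax K) = R.nSub K := by
  rw [R.invN_eq, R.invSet_wMax]
  rfl

theorem invN_mul_wMax {J : Set ℕ} {x : R.WQ} (hx : R.IsMin J x) :
    R.invN (x * R.wMax J) = R.invN x + R.nSub J := by
  classical
  have key : ∀ r : Fin D.nroots, (half D ≤ (r : ℕ) ∧ r ∉ subSet D X J ∧
      ¬ half D ≤ (R.qact (x * R.wMax J) r : ℕ)) ↔
      (half D ≤ (R.qact (R.wMax J) r : ℕ) ∧ ¬ half D ≤ (R.qact x (R.qact (R.wMax J) r) : ℕ)) := by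
    intro r
    rw [R.qact_mul_apply]
    constructor
    · exact fun ⟨h1, h2, h3⟩ => ⟨R.pos_wJ_of_not_sub (R.wMax_mem J) h1 h2, h3⟩
    · rintro ⟨h1, h3⟩
      have h2 : R.qact (R.wMax J) r ∉ subSet D X J := fun h => h3 (R.pos_of_sub hx h1 h)
      refine ⟨?_, fun h => h2 (R.qact_mem_sub (R.wMax_mem J) h), h3⟩
      have := R.pos_wJ_of_not_sub (R.wMax_mem J) h1 h2
      rwa [← R.qact_mul_apply, R.wMax_mul_self, map_one, Equiv.Perm.one_apply] at this
  unfold invN
  rw [← Finset.card_filter_add_card_filter_not (fun r => r ∈ subSet D X J)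
    (s := Finset.univ.filter fun r : Fin D.nroots =>
      half D ≤ (r : ℕ) ∧ ¬ half D ≤ (R.qact (x * R.wMax J) r : ℕ))]
  rw [add_comm, Finset.filter_filter, Finset.filter_filter]
  congr 1
  · refine Finset.card_bij (fun r _ => R.qact (R.wMax J) r) (fun r hr => ?_)
      (fun a _ b _ e => (R.qact (R.wMax J)).injective e) fun s hs => ⟨R.qact (R.wMax J) s, ?_, ?_⟩
    · simp only [Finset.mem_filter, Finset.mem_univ, true_and] at hr ⊢
      exact (key r).1 ⟨hr.1.1, hr.2, hr.1.2⟩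
    · simp only [Finset.mem_filter, Finset.mem_univ, true_and] at hs ⊢
      have := (key (R.qact (R.wMax J) s)).2 (by
        rwa [← R.qact_mul_apply (R.wMax J), R.wMax_mul_self, map_one, Equiv.Perm.one_apply])
      exact ⟨⟨this.1, this.2.2⟩, this.2.1⟩
    · rw [← R.qact_mul_apply, R.wMax_mul_self, map_one, Equiv.Perm.one_apply]
  · rw [nSub, Nat.card_eq_fintype_card, Fintype.card_subtype]
    congr 1
    refine Finset.filter_congr fun r _ => ⟨fun h => ⟨h.1.1, h.2⟩, fun h => ⟨⟨h.1, ?_⟩, h.2⟩⟩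
    rw [R.qact_mul_apply]
    intro hc
    have h1 := R.pos_of_sub hx ((R.negF_pos_iff _).2 (R.neg_of_sub (R.wMax_isMax J) h.1 h.2))
      (R.negF_mem_sub J (R.qact_mem_sub (R.wMax_mem J) h.2))
    rw [R.qact_negF, R.negF_pos_iff] at h1
    exact h1 hc

theorem min_mul_wMax_isMax {J : Set ℕ} {x : R.WQ} (hx : R.IsMin J x) :
    R.IsMax J (x * R.wMax J) := by
  intro i hi h
  rw [R.qact_mul_apply] at h
  have h1 := R.pos_of_sub hx ((R.negF_pos_iff _).2 (R.wMax_isMax J i hi))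
    (R.negF_mem_sub J (R.qact_mem_sub (R.wMax_mem J) (R.sroot_mem_sub J hi)))
  rw [R.qact_negF, R.negF_pos_iff] at h1
  exact h1 h

theorem max_mul_wMax_isMin {J : Set ℕ} {y : R.WQ} (hy : R.IsMax J y) :
    R.IsMin J (y * R.wMax J) := by
  intro k hk hkr
  rw [R.qact_mul_apply]
  have hneg := R.wMax_isMax J ⟨k, hkr⟩ hk
  have h1 := R.neg_of_sub hy ((R.negF_pos_iff _).2 hneg)
    (R.negF_mem_sub J (R.qact_mem_sub (R.wMax_mem J) (R.sroot_mem_sub J (i := ⟨k, hkr⟩) hk)))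
  rwa [R.qact_negF, R.negF_pos_iff, not_not] at h1

/-- a positive root of height one is simple -/
theorem eq_sroot_of_height {e : Fin D.nroots} (hp : half D ≤ (e : ℕ))
    (h1 : ∑ j : Fin D.rank, X.coef j (e : ℕ) ≤ 1) : ∃ t, e = R.sroot t := by
  classical
  obtain ⟨t, ht⟩ := R.exists_coef_ne_zero e
  have hnn : ∀ j : Fin D.rank, 0 ≤ X.coef j (e : ℕ) := fun j => R.cert.coef_nonneg e.2 j.2 hp
  have hrest : ∀ j, j ≠ t → X.coef j (e : ℕ) = 0 := fun j hj => by
    have h2 : X.coef j (e : ℕ) + X.coef t (e : ℕ) ≤ ∑ i : Fin D.rank, X.coef i (e : ℕ) := by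
      rw [← Finset.sum_pair hj (f := fun i : Fin D.rank => X.coef i (e : ℕ))]
      exact Finset.sum_le_sum_of_subset_of_nonneg (Finset.subset_univ _) fun i _ _ => hnn i
    have := hnn j
    have := hnn t
    omega
  rw [Finset.sum_eq_single t (fun j _ hj => hrest j hj) (by simp)] at h1
  have ht1 : X.coef t (e : ℕ) = 1 := by have := hnn t; omega
  refine ⟨t, by_contra fun hne => ?_⟩
  have h3 := R.cert.coef_nonneg (R.wperm t e).2 t.2 (R.wperm_pos t e hp hne)
  rw [R.wperm_apply, R.cert.coef_w t.2 e.2 t.2, if_pos rfl, R.cert.cartan_eq e.2 t.2,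
    Finset.sum_eq_single (t : ℕ) (fun j hj hjt => by
      rw [hrest ⟨j, Finset.mem_range.1 hj⟩ fun h => hjt (congrArg Fin.val h), zero_mul])
      (fun h => absurd (Finset.mem_range.2 t.2) h), R.cert.cartan_simple t.2, ht1] at h3
  omega

/-- uniqueness of the minimal element of a double coset -/
theorem double_unique {J K : Set ℕ} {x y a b : R.WQ} (ha : a ∈ R.wJ K) (hb : b ∈ R.wJ J)
    (hxJ : R.IsMin J x) (hyJ : R.IsMin J y) (hxK : R.IsMin K x⁻¹) (hyK : R.IsMin K y⁻¹)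
    (e : y = a * x * b) : y = x := by
  induction hn : wlen R.qgen a using Nat.strong_induction_on generalizing a b with
  | _ n ih =>
    by_cases h1 : a = 1
    · subst h1
      rw [one_mul] at e
      rw [e, R.min_unique hb hxJ (e ▸ hyJ), mul_one]
    · obtain ⟨i, hi, hneg⟩ := R.exists_descent_wJ (inv_mem ha) (inv_ne_one.2 h1)
      have hlt : wlen R.qgen (R.qgen i * a) < wlen R.qgen a :=
        (R.rootPerm.wlen_simple_mul_lt_iff a i).2 hneg
      have hsubK := R.negF_mem_sub K (R.qact_mem_sub (inv_mem ha) (R.sroot_mem_sub K hi))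
      have he0 := R.pos_of_sub hxK ((R.negF_pos_iff _).2 hneg) hsubK
      set e0 := R.qact x⁻¹ (R.negF (R.qact a⁻¹ (R.sroot i))) with he0def
      have hye : R.qact y⁻¹ (R.sroot i) = R.negF (R.qact b⁻¹ e0) := by
        rw [he0def, R.qact_negF, R.qact_negF, R.negF_negF, ← R.qact_mul_apply, ← R.qact_mul_apply, e,
          mul_inv_rev, mul_inv_rev, mul_assoc]
      have hpe := hyK i hi i.2
      rw [hye, R.negF_pos_iff] at hpe
      have he0J : e0 ∈ subSet D X J := by_contra fun h => hpe (R.pos_wJ_of_not_sub (inv_mem hb) he0 h)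
      set ee := R.qact y⁻¹ (R.sroot i) with hee
      have heJ : ee ∈ subSet D X J := by
        rw [hye]
        exact R.negF_mem_sub J (R.qact_mem_sub (inv_mem hb) he0J)
      have hep : half D ≤ (ee : ℕ) := hyK i hi i.2
      have hyee : R.qact y ee = R.sroot i := by rw [hee, R.qact_inv_apply]
      have hh : ∑ j : Fin D.rank, X.coef j (ee : ℕ) ≤ 1 := by
        have h2 : (1 : ℤ) = ∑ j : Fin D.rank, X.coef j (R.sroot i : ℕ) := by
          rw [Finset.sum_eq_single i (fun j _ hj => by rw [R.coef_sroot, if_neg hj]) (by simp),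
            R.coef_sroot, if_pos rfl]
        rw [h2, ← hyee, Finset.sum_congr rfl fun j _ => R.isLin_qact y ee j, Finset.sum_comm]
        refine Finset.sum_le_sum fun t _ => ?_
        rw [← Finset.mul_sum]
        by_cases htJ : (t : ℕ) ∈ J
        · refine le_mul_of_one_le_right (R.cert.coef_nonneg ee.2 t.2 hep) ?_
          have hnn := (R.pos_iff_coef _).1 (hyJ t htJ t.2)
          obtain ⟨j, hj⟩ := R.exists_coef_ne_zero (R.qact y (R.sroot t))
          refine le_trans ?_ (Finset.single_le_sum (fun j _ => hnn j) (Finset.mem_univ j))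
          have := hnn j
          show 1 ≤ X.coef j (R.qact y (R.sroot ⟨t, t.2⟩) : ℕ)
          simp only [Fin.eta] at this ⊢
          omega
        · rw [heJ t t.2 htJ, zero_mul]
      obtain ⟨t, ht⟩ := R.eq_sroot_of_height hep hh
      have htJ : (t : ℕ) ∈ J := by
        by_contra h
        have := heJ t t.2 h
        rw [ht, R.coef_sroot, if_pos rfl] at this
        exact one_ne_zero this
      have hconj := R.rootPerm.conj y t i (by rw [← ht, hyee])
      refine ih _ (hn ▸ hlt) (mul_mem (R.qgen_mem_wJ hi) ha) (mul_mem hb (R.qgen_mem_wJ htJ)) ?_ rfl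
      calc y = R.qgen i * (R.qgen i * y) := (R.rootPerm.toGenInv.cancel i y).symm
        _ = R.qgen i * (y * R.qgen t) := by
          congr 1
          rw [← hconj, inv_mul_cancel_right]
        _ = R.qgen i * a * x * (b * R.qgen t) := by rw [e]; group

theorem alt_sum_min (K : Finset ℕ) (x : R.WQ) [DecidablePred fun k => R.asc x k]
    [∀ J : Finset ℕ, Decidable (R.IsMin (J : Set ℕ) x)] :
    ∑ J ∈ K.powerset, (-1 : ℤ) ^ J.card * (if R.IsMin (J : Set ℕ) x then 1 else 0) =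
      if K.filter (fun k => R.asc x k) = ∅ then 1 else 0 := by
  classical
  rw [← Finset.sum_powerset_neg_one_pow_card]
  simp only [mul_ite, mul_one, mul_zero]
  rw [← Finset.sum_filter]
  refine Finset.sum_congr ?_ fun _ _ => rfl
  ext J
  simp only [Finset.mem_filter, Finset.mem_powerset, IsMin, Finset.mem_coe, Finset.subset_iff]
  exact ⟨fun h k hk => ⟨h.1 hk, h.2 k hk⟩, fun h => ⟨fun k hk => (h hk).1, fun k hk => (h hk).2⟩⟩

theorem filter_asc_eq_empty {K : Finset ℕ} (hK : ∀ k ∈ K, k < D.rank) (x : R.WQ)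
    [DecidablePred fun k => R.asc x k] :
    K.filter (fun k => R.asc x k) = ∅ ↔ R.IsMax (K : Set ℕ) x := by
  rw [Finset.filter_eq_empty_iff]
  exact ⟨fun h i hi hp => h (Finset.mem_coe.1 hi) fun _ => hp,
    fun h k hk hp => h ⟨k, hK k hk⟩ (Finset.mem_coe.2 hk) (hp _)⟩

end Rel

end CfsgLib.Lie.Chev
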