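/-
Bruhat cells over cosets of parabolic subgroups: the fibres of `G ⧸ B → G ⧸ P_J`.
-/
import Cfsg.Agent.Lib.Lie.Rel.StWeyl

set_option autoImplicit false

namespace CfsgLib.Lie.Chev

open Cfsg.Lie (ChevalleyDatum)
open CfsgLib.Lie.Exchange

namespace Rel

variable {D : ChevalleyDatum} {X : Aux} {F : Type*} [Field F] {G : Type*} [Group G] (R : Rel D X F G)
include R

/-- the Bruhat cell of `w` -/
noncomputable def cl (w : R.WQ) : Set G := DoubleCoset.doubleCoset (R.rep w : G) R.BS R.BS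

theorem mul_mem_cl {n : R.NS} {b b' : G} (hb : b ∈ R.BS) (hb' : b' ∈ R.BS) :
    b * n * b' ∈ R.cl (R.qmk n) := by
  have hH : (n : G) * (R.rep (R.qmk n) : G)⁻¹ ∈ R.HS :=
    (R.qmk_eq_one (g := n * (R.rep (R.qmk n))⁻¹)).1 (by rw [map_mul, map_inv, R.qmk_rep, mul_inv_cancel])
  exact DoubleCoset.mem_doubleCoset.2
    ⟨b * ((n : G) * (R.rep (R.qmk n) : G)⁻¹), mul_mem hb (R.HS_le_BS hH), b', hb', by group⟩

theorem exists_of_mem_cl {w : R.WQ} {g : G} (hg : g ∈ R.cl w) :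
    ∃ n : R.NS, R.qmk n = w ∧ ∃ b ∈ R.BS, ∃ b' ∈ R.BS, g = b * n * b' := by
  obtain ⟨b, hb, b', hb', e⟩ := DoubleCoset.mem_doubleCoset.1 hg
  exact ⟨R.rep w, R.qmk_rep w, b, hb, b', hb', e⟩

theorem coe_mem_cl (n : R.NS) : (n : G) ∈ R.cl (R.qmk n) := by
  simpa using R.mul_mem_cl (n := n) (one_mem R.BS) (one_mem R.BS)

theorem rep_mem_cl (w : R.WQ) : (R.rep w : G) ∈ R.cl w := by
  simpa [R.qmk_rep] using R.coe_mem_cl (R.rep w)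

theorem left_mem_cl {w : R.WQ} {g b : G} (hb : b ∈ R.BS) (hg : g ∈ R.cl w) : b * g ∈ R.cl w := by
  obtain ⟨n, rfl, b₁, h₁, b₂, h₂, rfl⟩ := R.exists_of_mem_cl hg
  rw [← mul_assoc, ← mul_assoc]
  exact R.mul_mem_cl (mul_mem hb h₁) h₂

theorem right_mem_cl {w : R.WQ} {g b : G} (hb : b ∈ R.BS) (hg : g ∈ R.cl w) : g * b ∈ R.cl w := by
  obtain ⟨n, rfl, b₁, h₁, b₂, h₂, rfl⟩ := R.exists_of_mem_cl hg
  rw [mul_assoc _ b₂ b]
  exact R.mul_mem_cl h₁ (mul_mem h₂ hb)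

theorem inv_mem_cl {w : R.WQ} {g : G} (hg : g ∈ R.cl w) : g⁻¹ ∈ R.cl w⁻¹ := by
  obtain ⟨n, rfl, b₁, h₁, b₂, h₂, rfl⟩ := R.exists_of_mem_cl hg
  rw [← map_inv, show (b₁ * (n : G) * b₂)⁻¹ = b₂⁻¹ * ((n⁻¹ : R.NS) : G) * b₁⁻¹ by simp [mul_assoc]]
  exact R.mul_mem_cl (inv_mem h₂) (inv_mem h₁)

theorem mem_cl_one {g : G} : g ∈ R.cl 1 ↔ g ∈ R.BS := by
  refine ⟨fun hg => ?_, fun hg => ?_⟩
  · obtain ⟨n, hn, b₁, h₁, b₂, h₂, rfl⟩ := R.exists_of_mem_cl hg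
    exact mul_mem (mul_mem h₁ (R.HS_le_BS (R.qmk_eq_one.1 hn))) h₂
  · simpa using R.mul_mem_cl (n := 1) hg (one_mem R.BS)

theorem cl_inj {w v : R.WQ} {g : G} (h₁ : g ∈ R.cl w) (h₂ : g ∈ R.cl v) : w = v := by
  obtain ⟨n, rfl, b₁, hb₁, b₂, hb₂, rfl⟩ := R.exists_of_mem_cl h₁
  obtain ⟨m, rfl, c₁, hc₁, c₂, hc₂, e⟩ := R.exists_of_mem_cl h₂
  have h3 : b₁ * n * b₂ ∈ CfsgLib.Lie.BN.cell R.bnPair
      (CfsgLib.Lie.BN.wmk R.bnPair (⟨n, n.2⟩ : R.bnPair.N)) := by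
    rw [CfsgLib.Lie.BN.cell_eq_doubleCoset]
    exact DoubleCoset.mem_doubleCoset.2 ⟨b₁, hb₁, b₂, hb₂, rfl⟩
  have h4 : b₁ * n * b₂ ∈ CfsgLib.Lie.BN.cell R.bnPair
      (CfsgLib.Lie.BN.wmk R.bnPair (⟨m, m.2⟩ : R.bnPair.N)) := by
    rw [CfsgLib.Lie.BN.cell_eq_doubleCoset, e]
    exact DoubleCoset.mem_doubleCoset.2 ⟨c₁, hc₁, c₂, hc₂, rfl⟩
  have h5 := (CfsgLib.Lie.BN.wmk_eq_iff R.bnPair _ _).1 (CfsgLib.Lie.BN.cell_inj R.bnPair h3 h4)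
  rw [← inv_mul_eq_one, ← map_inv, ← map_mul, R.qmk_eq_one]
  exact R.BS_inf_NS.le ⟨h5, (n⁻¹ * m : R.NS).2⟩

theorem exists_cl (g : G) : ∃ w, g ∈ R.cl w := by
  obtain ⟨b, hb, n, u, hu, rfl⟩ := R.exists_bnu g
  exact ⟨_, R.mul_mem_cl hb (R.UP_le_BS (R.US_mono (invSet_subset _) hu))⟩

/-- the product of two cells when `w` keeps the inversion set of `v⁻¹` positive -/
theorem mul_cl {w v : R.WQ}
    (hwv : ∀ r ∈ invSet (R.qact v⁻¹), half D ≤ (R.qact w r : ℕ))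
    {y x : G} (hy : y ∈ R.cl w) (hx : x ∈ R.cl v) : y * x ∈ R.cl (w * v) := by
  obtain ⟨n, rfl, b₁, hb₁, b₂, hb₂, rfl⟩ := R.exists_of_mem_cl hy
  obtain ⟨m, rfl, b₃, hb₃, b₄, hb₄, rfl⟩ := R.exists_of_mem_cl hx
  obtain ⟨u, hu, h, hh, e⟩ := R.exists_of_mem_BS (mul_mem hb₂ hb₃)
  obtain ⟨p, hp, k, hk, e'⟩ := R.exists_UP_factor (R.nsPerm m⁻¹) (inv_mem hu)
  have hk' : (n : G) * k⁻¹ * (n : G)⁻¹ ∈ R.UP := by
    obtain ⟨a, ha⟩ := R.isMon_nsPerm n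
    exact IsMon.conj_mem_US R ha (T := posSet D) (fun r hr => hwv r (by rwa [← map_inv] at *)) (inv_mem hk)
  have hp' : (m : G)⁻¹ * p⁻¹ * m ∈ R.UP := by
    have := R.conj_keep (n := m⁻¹) (inv_mem hp)
    simpa using this
  have hh' : (m : G)⁻¹ * h * m ∈ R.HS := by
    have := R.HS_conj (inv_mem m.2) hh
    rwa [inv_inv] at this
  have eu : u = k⁻¹ * p⁻¹ := by rw [← mul_inv_rev, ← e', inv_inv]
  have key : b₁ * n * b₂ * (b₃ * m * b₄) = b₁ * ((n : G) * k⁻¹ * (n : G)⁻¹) * ((n * m : R.NS) : G) *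
      (((m : G)⁻¹ * p⁻¹ * m) * ((m : G)⁻¹ * h * m) * b₄) := by
    calc b₁ * n * b₂ * (b₃ * m * b₄) = b₁ * n * (b₂ * b₃) * m * b₄ := by group
      _ = _ := by rw [e, eu, Subgroup.coe_mul]; group
  rw [key, ← map_mul]
  exact R.mul_mem_cl (mul_mem hb₁ (R.UP_le_BS hk'))
    (mul_mem (mul_mem (R.UP_le_BS hp') (R.HS_le_BS hh')) hb₄)

theorem invSet_wJ_sub {J : Set ℕ} {v : R.WQ} (hv : v ∈ R.wJ J) {r : Fin D.nroots}
    (hr : r ∈ invSet (R.qact v)) : r ∈ subSet D X J :=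
  by_contra fun h => hr.2 (R.pos_wJ_of_not_sub hv hr.1 h)

theorem mul_cl_min {J : Set ℕ} {w v : R.WQ} (hw : R.IsMin J w) (hv : v ∈ R.wJ J)
    {y x : G} (hy : y ∈ R.cl w) (hx : x ∈ R.cl v) : y * x ∈ R.cl (w * v) :=
  R.mul_cl (fun _ hr => R.pos_of_sub hw hr.1 (R.invSet_wJ_sub (inv_mem hv) hr)) hy hx

/-- generators of a parabolic inside `SS` -/
def jGen (J : Set ℕ) : Set G := {g | ∃ i : Fin D.rank, (i : ℕ) ∈ J ∧ g = R.ne (D.simple i) 1}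

theorem PJ_eq_parabolic (J : Set ℕ) : R.PJ J = R.bnPair.parabolic (R.jGen J) := rfl

theorem qmk_mem_wJ {J : Set ℕ} {n : R.NS} (hn : (n : G) ∈ R.NJ J) : R.qmk n ∈ R.wJ J := by
  have h : R.NJ J ≤ ((R.wJ J).comap R.qmk).map R.NS.subtype :=
    (Subgroup.closure_le _).2 (by
      rintro _ ⟨i, hi, rfl⟩
      exact ⟨R.nS i, R.qgen_mem_wJ hi, rfl⟩)
  obtain ⟨m, hm, e⟩ := h hn
  obtain rfl : m = n := Subtype.ext e
  exact hm

theorem exists_mem_cl_of_PJ {J : Set ℕ} {g : G} (hg : g ∈ R.PJ J) : ∃ v ∈ R.wJ J, g ∈ R.cl v := by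
  rw [R.PJ_eq_parabolic, CfsgLib.Lie.BN.mem_parabolic_iff R.bnPair
    (show R.jGen J ⊆ R.bnPair.S by rintro _ ⟨i, -, rfl⟩; exact ⟨i, rfl⟩)] at hg
  obtain ⟨n, hn, hd⟩ := hg
  have hnN : n ∈ R.NS := (Subgroup.closure_le _).2
    (by rintro _ ⟨i, -, rfl⟩; exact R.ne_simple_mem_NS i one_ne_zero) hn
  obtain ⟨b, hb, b', hb', rfl⟩ := DoubleCoset.mem_doubleCoset.1 hd
  exact ⟨R.qmk ⟨n, hnN⟩, R.qmk_mem_wJ hn, R.mul_mem_cl hb hb'⟩

theorem exists_rep_PJ {J : Set ℕ} {v : R.WQ} (hv : v ∈ R.wJ J) :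
    ∃ n : R.NS, (n : G) ∈ R.PJ J ∧ R.qmk n = v := by
  have h : R.wJ J ≤ ((R.PJ J).subgroupOf R.NS).map R.qmk :=
    (Subgroup.closure_le _).2 (by
      rintro _ ⟨i, hi, rfl⟩
      exact ⟨R.nS i, Subgroup.mem_sup_right (Subgroup.subset_closure ⟨i, hi, rfl⟩), rfl⟩)
  obtain ⟨n, hn, e⟩ := h hv
  exact ⟨n, hn, e⟩

theorem cl_subset_PJ {J : Set ℕ} {v : R.WQ} (hv : v ∈ R.wJ J) {g : G} (hg : g ∈ R.cl v) :
    g ∈ R.PJ J := by
  obtain ⟨n, hn, e⟩ := R.exists_rep_PJ hv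
  obtain ⟨m, hm, b, hb, b', hb', rfl⟩ := R.exists_of_mem_cl hg
  refine mul_mem (mul_mem (Subgroup.mem_sup_left hb) ?_) (Subgroup.mem_sup_left hb')
  have h : ((n⁻¹ * m : R.NS) : G) ∈ R.HS :=
    R.qmk_eq_one.1 (by rw [map_mul, map_inv, e, hm, inv_mul_cancel])
  simpa using mul_mem hn (show ((n⁻¹ * m : R.NS) : G) ∈ R.PJ J from Subgroup.mem_sup_left (R.HS_le_BS h))

theorem PJ_mono {J K : Set ℕ} (h : J ⊆ K) : R.PJ J ≤ R.PJ K :=
  sup_le_sup le_rfl (Subgroup.closure_mono (by rintro _ ⟨i, hi, rfl⟩; exact ⟨i, h hi, rfl⟩))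

/-- multiplication by a parabolic moves cells within cosets of `W_K` -/
theorem mul_cl_PJ [Finite G] {K : Set ℕ} {g : G} (hg : g ∈ R.PJ K) :
    ∀ (x : R.WQ), ∀ y ∈ R.cl x, ∃ v ∈ R.wJ K, g * y ∈ R.cl (v * x) := by
  let M : Submonoid G :=
    { carrier := {g | ∀ (x : R.WQ), ∀ y ∈ R.cl x, ∃ v ∈ R.wJ K, g * y ∈ R.cl (v * x)}
      one_mem' := fun x y hy => ⟨1, one_mem _, by rwa [one_mul, one_mul]⟩
      mul_mem' := fun {g g'} hg hg' x y hy => by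
        obtain ⟨v, hv, h⟩ := hg' x y hy
        obtain ⟨v', hv', h'⟩ := hg _ _ h
        exact ⟨v' * v, mul_mem hv' hv, by rwa [mul_assoc, mul_assoc]⟩ }
  let H : Subgroup G :=
    { M with
      inv_mem' := fun {a} ha => by
        obtain ⟨k, hk⟩ : ∃ k : ℕ, a⁻¹ = a ^ k := by
          refine ⟨orderOf a - 1, inv_eq_of_mul_eq_one_right ?_⟩
          rw [← pow_succ', Nat.sub_add_cancel (orderOf_pos a), pow_orderOf_eq_one]
        rw [hk]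
        exact M.pow_mem ha k }
  have hle : R.PJ K ≤ H := by
    refine sup_le (fun b hb x y hy => ⟨1, one_mem _, by rw [one_mul]; exact R.left_mem_cl hb hy⟩)
      ((Subgroup.closure_le _).2 ?_)
    rintro _ ⟨i, hi, rfl⟩ x y hy
    obtain ⟨n, rfl, b, hb, b', hb', rfl⟩ := R.exists_of_mem_cl hy
    rw [← mul_assoc, ← mul_assoc]
    rcases R.ne_mul_BS_mul i n.2 hb with h | h
    · obtain ⟨c, hc, c', hc', e⟩ := DoubleCoset.mem_doubleCoset.1 h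
      rw [e, mul_assoc _ c' b']
      exact ⟨R.qgen i, R.qgen_mem_wJ hi, R.mul_mem_cl (n := R.nS i * n) hc (mul_mem hc' hb')⟩
    · obtain ⟨c, hc, c', hc', e⟩ := DoubleCoset.mem_doubleCoset.1 h
      rw [e, mul_assoc _ c' b']
      exact ⟨1, one_mem _, by rw [one_mul]; exact R.mul_mem_cl hc (mul_mem hc' hb')⟩
  exact fun x y hy => hle hg x y hy

theorem exists_double [Finite G] {J K : Set ℕ} {a p y : G} {x : R.WQ} (ha : a ∈ R.PJ K)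
    (hy : y ∈ R.cl x) (hp : p ∈ R.PJ J) :
    ∃ v ∈ R.wJ K, ∃ u ∈ R.wJ J, a * y * p ∈ R.cl (v * x * u) := by
  obtain ⟨v, hv, h⟩ := R.mul_cl_PJ ha x y hy
  obtain ⟨u, hu, h'⟩ := R.mul_cl_PJ (inv_mem hp) _ _ (R.inv_mem_cl h)
  refine ⟨v, hv, u⁻¹, inv_mem hu, ?_⟩
  simpa [mul_assoc] using R.inv_mem_cl h'

/-- the index set of the cells of `P_K ⧸ P_J` -/
def Cells (J K : Set ℕ) : Type _ :=
  {c : G ⧸ R.BS // ∃ x ∈ R.wJ K, R.IsMin J x ∧ ∃ g ∈ R.cl x, (g : G ⧸ R.BS) = c}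

/-- the cosets of `P_J` inside `P_K` -/
def Cosets (J K : Set ℕ) : Type _ :=
  {c : G ⧸ R.PJ J // ∃ g ∈ R.PJ K, (g : G ⧸ R.PJ J) = c}

theorem cl_of_mk_eq {x : R.WQ} {g g' : G} (hg : g ∈ R.cl x)
    (h : (g : G ⧸ R.BS) = (g' : G ⧸ R.BS)) : g' ∈ R.cl x := by
  have := R.right_mem_cl (QuotientGroup.eq.1 h) hg
  rwa [mul_inv_cancel_left] at this

/-- cells to cosets -/
noncomputable def cellMap {J K : Set ℕ} (hJK : J ⊆ K) (c : R.Cells J K) : R.Cosets J K :=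
  ⟨Quotient.liftOn' c.1 (fun g => (g : G ⧸ R.PJ J)) (fun g g' h => by
      rw [QuotientGroup.leftRel_apply] at h
      exact QuotientGroup.eq.2 (Subgroup.mem_sup_left h)), by
    obtain ⟨x, hx, -, g, hg, e⟩ := c.2
    rw [← e]
    exact ⟨g, R.cl_subset_PJ hx hg, rfl⟩⟩

theorem cellMap_bijective {J K : Set ℕ} (hJK : J ⊆ K) :
    Function.Bijective (R.cellMap hJK) := by
  constructor
  · intro c₁ c₂ e
    obtain ⟨c₁, x, hxK, hxm, g, hg, rfl⟩ := c₁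
    obtain ⟨c₂, y, hyK, hym, g', hg', rfl⟩ := c₂
    have e' : (g : G ⧸ R.PJ J) = (g' : G ⧸ R.PJ J) := congrArg Subtype.val e
    obtain ⟨v, hv, hpv⟩ := R.exists_mem_cl_of_PJ (QuotientGroup.eq.1 e')
    have h1 := R.mul_cl_min hxm hv hg hpv
    rw [mul_inv_cancel_left] at h1
    have hyx := R.cl_inj h1 hg'
    obtain rfl := R.min_unique hv hxm (by rwa [hyx])
    exact Subtype.ext (QuotientGroup.eq.2 (R.mem_cl_one.1 hpv))
  · rintro ⟨_, g, hg, rfl⟩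
    obtain ⟨w, hw, hgw⟩ := R.exists_mem_cl_of_PJ hg
    obtain ⟨x, hxm, hxw⟩ := R.exists_min J w
    obtain ⟨n, hn, e⟩ := R.exists_rep_PJ hxw
    obtain ⟨m, hm, b, hb, b', hb', rfl⟩ := R.exists_of_mem_cl hgw
    have hg₁ : b * ((m * n⁻¹ : R.NS) : G) * 1 ∈ R.cl x := by
      have := R.mul_mem_cl (n := m * n⁻¹) hb (one_mem R.BS)
      rwa [map_mul, map_inv, hm, e, mul_inv_rev, inv_inv, mul_inv_cancel_left] at this
    have hxK : x ∈ R.wJ K := by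
      have := mul_mem hw (inv_mem (R.wJ_mono hJK hxw))
      rwa [mul_inv_rev, inv_inv, mul_inv_cancel_left] at this
    refine ⟨⟨_, x, hxK, hxm, _, hg₁, rfl⟩, Subtype.ext (QuotientGroup.eq.2 ?_)⟩
    have : (b * ((m * n⁻¹ : R.NS) : G) * 1)⁻¹ * (b * (m : G) * b') = (n : G) * b' := by
      simp [mul_assoc]
    rw [this]
    exact mul_mem hn (Subgroup.mem_sup_left hb')

theorem cellMap_fixed {J K : Set ℕ} (hJK : J ⊆ K) {b : G} (hb : b ∈ R.BS) (c : R.Cells J K) :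
    b • (R.cellMap hJK c).1 = (R.cellMap hJK c).1 ↔ b • c.1 = c.1 := by
  obtain ⟨c, x, hx, hxm, g, hg, rfl⟩ := c
  constructor
  · intro h
    have hbg : b * g ∈ R.cl x := R.left_mem_cl hb hg
    have h1 : R.cellMap hJK ⟨_, x, hx, hxm, b * g, hbg, rfl⟩ =
        R.cellMap hJK ⟨_, x, hx, hxm, g, hg, rfl⟩ := Subtype.ext h
    exact congrArg Subtype.val ((R.cellMap_bijective hJK).1 h1)
  · intro h
    exact QuotientGroup.eq.2 (Subgroup.mem_sup_left (QuotientGroup.eq.1 h))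

/-- one cell as a type -/
def Cell (w : R.WQ) : Type _ := {c : G ⧸ R.BS // ∃ g ∈ R.cl w, (g : G ⧸ R.BS) = c}

/-- a cell of `G ⧸ B` as a root group -/
noncomputable def cellEquiv (w : R.WQ) :
    ↥(R.US (invSet (R.qact w⁻¹))) ≃ R.Cell w :=
  Equiv.ofBijective (fun u => ⟨((u : G) * R.rep w : G),
    (u : G) * R.rep w, R.left_mem_cl (R.UP_le_BS (R.US_mono (invSet_subset _) u.2)) (R.rep_mem_cl w), rfl⟩) (by
    have hperm : R.nsPerm (R.rep w)⁻¹ = R.qact w⁻¹ := by rw [map_inv, R.nsPerm_rep, map_inv]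
    constructor
    · rintro ⟨u, hu⟩ ⟨u', hu'⟩ e
      have e' : (((u * R.rep w : G)) : G ⧸ R.BS) = ((u' * R.rep w : G)) := congrArg Subtype.val e
      have h1 := QuotientGroup.eq.1 e'
      have h2 : (R.rep w : G)⁻¹ * (u⁻¹ * u') * (R.rep w : G) ∈ R.UN := by
        have := R.conj_inv (n := (R.rep w)⁻¹) (p := u⁻¹ * u') (by rw [hperm]; exact mul_mem (inv_mem hu) hu')
        simpa using this
      have h3 := R.BS_inf_UN (by simpa [mul_assoc] using h1) h2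
      refine Subtype.ext (inv_mul_eq_one.1 ?_)
      calc u⁻¹ * u' = (R.rep w : G) * ((R.rep w : G)⁻¹ * (u⁻¹ * u') * R.rep w) * (R.rep w : G)⁻¹ := by group
        _ = 1 := by rw [h3]; group
    · rintro ⟨_, g, hg, rfl⟩
      obtain ⟨b, hb, b', hb', rfl⟩ := DoubleCoset.mem_doubleCoset.1 hg
      obtain ⟨v, hv, h, hh, rfl⟩ := R.exists_of_mem_BS hb
      obtain ⟨p, hp, k, hk, e⟩ := R.exists_UP_factor (R.qact w⁻¹) (inv_mem hv)
      refine ⟨⟨k⁻¹, inv_mem hk⟩, Subtype.ext (QuotientGroup.eq.2 ?_)⟩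
      have hp' : (R.rep w : G)⁻¹ * p⁻¹ * R.rep w ∈ R.UP := by
        have := R.conj_keep (n := (R.rep w)⁻¹) (p := p⁻¹) (by rw [hperm]; exact inv_mem hp)
        simpa using this
      have hh' : (R.rep w : G)⁻¹ * h * R.rep w ∈ R.HS := by
        have := R.HS_conj (inv_mem (R.rep w).2) hh
        rwa [inv_inv] at this
      have ev : v = k⁻¹ * p⁻¹ := by rw [← mul_inv_rev, ← e, inv_inv]
      have : (k⁻¹ * (R.rep w : G))⁻¹ * (v * h * R.rep w * b') =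
          ((R.rep w : G)⁻¹ * p⁻¹ * R.rep w) * ((R.rep w : G)⁻¹ * h * R.rep w) * b' := by
        rw [ev]; group
      rw [this]
      exact mul_mem (mul_mem (R.UP_le_BS hp') (R.HS_le_BS hh')) hb')

theorem card_Cell [Finite F] (w : R.WQ) : Nat.card (R.Cell w) = Nat.card F ^ R.invN w := by
  rw [← Nat.card_congr (R.cellEquiv w), R.card_US_inv, ← R.invN_eq, R.invN_inv]

end Rel

end CfsgLib.Lie.Chev
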