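/-
The alternating sum of the permutation characters on parabolic cosets: values on `B`, norm, and the count of
`p`-elements.
-/
import Cfsg.Agent.Lib.Lie.Rel.StCells

set_option autoImplicit false

namespace CfsgLib.Lie.Chev

open Cfsg.Lie (ChevalleyDatum)
open CfsgLib.Lie.Exchange

namespace Rel

variable {D : ChevalleyDatum} {X : Aux} {F : Type*} [Field F] [Finite F] {G : Type*} [Group G] (R : Rel D X F G)
include R

/-- fixed cosets of `P_J` inside `P_K` -/
noncomputable def stFix (J K : Set ℕ) (g : G) : ℕ :=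
  Nat.card {c : R.Cosets J K // g • c.1 = c.1}

/-- the alternating sum on `P_K` -/
noncomputable def stK (K : Finset ℕ) (g : G) : ℤ :=
  ∑ J ∈ K.powerset, (-1 : ℤ) ^ J.card * (R.stFix (J : Set ℕ) (K : Set ℕ) g : ℤ)

omit [Finite F] in
theorem finite_cosets [Finite G] (J K : Set ℕ) : Finite (R.Cosets J K) :=
  inferInstanceAs (Finite {c : G ⧸ R.PJ J // ∃ g ∈ R.PJ K, (g : G ⧸ R.PJ J) = c})

omit [Finite F] in
theorem finite_cell [Finite G] (w : R.WQ) : Finite (R.Cell w) :=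
  inferInstanceAs (Finite {c : G ⧸ R.BS // ∃ g ∈ R.cl w, (g : G ⧸ R.BS) = c})

theorem stFix_BS {J K : Set ℕ} (hJK : J ⊆ K) {b : G} (hb : b ∈ R.BS) :
    R.stFix J K b = Nat.card (Σ x : {x : R.WQ // x ∈ R.wJ K ∧ R.IsMin J x},
      {c : R.Cell x.1 // b • c.1 = c.1}) := by
  rw [stFix, ← Nat.card_congr ((Equiv.ofBijective _ (R.cellMap_bijective hJK)).subtypeEquiv
    fun c => (R.cellMap_fixed hJK hb c).symm)]
  refine (Nat.card_congr (Equiv.ofBijective (fun x => (⟨⟨x.2.1.1, x.1.1, x.1.2.1, x.1.2.2, x.2.1.2⟩, x.2.2⟩ :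
    {c : R.Cells J K // b • c.1 = c.1})) ⟨?_, ?_⟩)).symm
  · rintro ⟨⟨x, hx⟩, ⟨⟨c, g, hg, e₁⟩, hc⟩⟩ ⟨⟨y, hy⟩, ⟨⟨c', g', hg', e₂⟩, hc'⟩⟩ e
    obtain rfl : c = c' := congrArg (fun z => z.1.1) e
    obtain rfl : x = y := R.cl_inj (R.cl_of_mk_eq hg (e₁.trans e₂.symm)) hg'
    rfl
  · intro z
    obtain ⟨⟨c, x, hx, hxm, hc⟩, hf⟩ := z
    exact ⟨⟨⟨x, hx, hxm⟩, ⟨⟨c, hc⟩, hf⟩⟩, rfl⟩

theorem alt_sum_max {K : Finset ℕ} (hK : ∀ k ∈ K, k < D.rank) (y : R.WQ)
    [DecidablePred fun k => R.asc y k] [∀ J : Finset ℕ, Decidable (R.IsMax (J : Set ℕ) y)]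
    [Decidable (R.IsMin (K : Set ℕ) y)] :
    ∑ J ∈ K.powerset, (-1 : ℤ) ^ J.card * (if R.IsMax (J : Set ℕ) y then 1 else 0) =
      if R.IsMin (K : Set ℕ) y then 1 else 0 := by
  classical
  have h1 : ∑ J ∈ (K.filter fun k => ¬ R.asc y k).powerset, (-1 : ℤ) ^ J.card =
      if (K.filter fun k => ¬ R.asc y k) = ∅ then 1 else 0 := Finset.sum_powerset_neg_one_pow_card
  have h2 : ((K.filter fun k => ¬ R.asc y k) = ∅) ↔ R.IsMin (K : Set ℕ) y := by
    rw [Finset.filter_eq_empty_iff]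
    exact ⟨fun h k hk => not_not.1 (h (Finset.mem_coe.1 hk)), fun h k hk => not_not.2 (h k (Finset.mem_coe.2 hk))⟩
  rw [if_congr h2 rfl rfl] at h1
  rw [← h1]
  simp only [mul_ite, mul_one, mul_zero]
  rw [← Finset.sum_filter]
  refine Finset.sum_congr ?_ fun _ _ => rfl
  ext J
  simp only [Finset.mem_filter, Finset.mem_powerset, Finset.subset_iff]
  constructor
  · exact fun h k hk => ⟨h.1 hk, fun hasc => h.2 ⟨k, hK k (h.1 hk)⟩ (Finset.mem_coe.2 hk) (hasc _)⟩
  · exact fun h => ⟨fun k hk => (h hk).1,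
      fun i hi hp => (h (Finset.mem_coe.1 hi)).2 fun _ => hp⟩

/-- on `B` only the big cell survives -/
theorem stK_BS {K : Finset ℕ} (hK : ∀ k ∈ K, k < D.rank) {b : G} (hb : b ∈ R.BS) :
    R.stK K b = (Nat.card {c : R.Cell (R.wMax (K : Set ℕ)) // b • c.1 = c.1} : ℤ) := by
  classical
  have := R.Finite_of_field
  have := R.rootPerm.finite
  have := Fintype.ofFinite R.WQ
  have := fun w => R.finite_cell w
  set f : R.WQ → ℤ := fun x => (Nat.card {c : R.Cell x // b • c.1 = c.1} : ℤ) with hf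
  have key : ∀ J ∈ K.powerset, (R.stFix (J : Set ℕ) (K : Set ℕ) b : ℤ) =
      ∑ x : R.WQ, if x ∈ R.wJ (K : Set ℕ) then (if R.IsMin (J : Set ℕ) x then 1 else 0) * f x else 0 := by
    intro J hJ
    rw [R.stFix_BS (Finset.coe_subset.2 (Finset.mem_powerset.1 hJ)) hb, Nat.card_sigma, Nat.cast_sum,
      ← Finset.sum_subtype (Finset.univ.filter fun x => x ∈ R.wJ (K : Set ℕ) ∧ R.IsMin (J : Set ℕ) x)
        (fun x => by simp) (fun x => f x), Finset.sum_filter]
    exact Finset.sum_congr rfl fun x _ => by rw [ite_mul, one_mul, zero_mul, ite_and]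
  rw [stK, Finset.sum_congr rfl fun J hJ => by rw [key J hJ]]
  simp only [Finset.mul_sum]
  rw [Finset.sum_comm, Finset.sum_eq_single (R.wMax (K : Set ℕ))]
  · simp only [R.wMax_mem, if_true, ← mul_assoc, ← Finset.sum_mul]
    rw [R.alt_sum_min, if_pos ((R.filter_asc_eq_empty hK _).2 (R.wMax_isMax _)), one_mul]
  · intro x _ hne
    by_cases hx : x ∈ R.wJ (K : Set ℕ)
    · simp only [hx, if_true, ← mul_assoc, ← Finset.sum_mul]
      rw [R.alt_sum_min, if_neg fun h => hne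
        (R.max_unique hx (R.wMax_mem _) ((R.filter_asc_eq_empty hK _).1 h) (R.wMax_isMax _)), zero_mul]
    · simp [hx]
  · simp

theorem stK_one {K : Finset ℕ} (hK : ∀ k ∈ K, k < D.rank) :
    R.stK K 1 = (Nat.card F ^ R.nSub (K : Set ℕ) : ℕ) := by
  rw [R.stK_BS hK (one_mem _), Nat.card_congr (Equiv.subtypeUnivEquiv fun c => one_smul G _), R.card_Cell,
    R.invN_wMax]

omit [Finite F] in
theorem keepSet_wMax (K : Set ℕ) : keepSet (R.qact (R.wMax K)) = radSet D X K := by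
  ext r
  exact ⟨fun h => ⟨h.1, fun hr => R.neg_of_sub (R.wMax_isMax K) h.1 hr h.2⟩,
    fun h => ⟨h.1, R.pos_wJ_of_not_sub (R.wMax_mem K) h.1 h.2⟩⟩

omit [Finite F] in
theorem UR_le_UP (K : Set ℕ) : R.UR K ≤ R.UP := R.US_mono fun _ h => h.1

omit [Finite F] in
theorem UR_conj_mem (hD : Desc D X) {K : Set ℕ} {x u : G} (hx : x ∈ R.PJ K) :
    x⁻¹ * u * x ∈ R.UR K ↔ u ∈ R.UR K := by
  have h := Subgroup.mem_normalizer_iff.1 (R.PJ_le_normalizer K hD (inv_mem hx)) u
  rw [inv_inv] at h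
  exact h.symm

/-- values on `U` -/
theorem stK_UP (hD : Desc D X) {K : Finset ℕ} (hK : ∀ k ∈ K, k < D.rank) {u : G} (hu : u ∈ R.UP)
    [Decidable (u ∈ R.UR (K : Set ℕ))] :
    R.stK K u = if u ∈ R.UR (K : Set ℕ) then ((Nat.card F ^ R.nSub (K : Set ℕ) : ℕ) : ℤ) else 0 := by
  rw [R.stK_BS hK (R.UP_le_BS hu)]
  set w := R.wMax (K : Set ℕ) with hw
  have hperm : R.nsPerm (R.rep w)⁻¹ = R.qact w := by rw [map_inv, R.nsPerm_rep, ← map_inv, R.wMax_inv]
  have hkeep : R.US (keepSet (R.qact w)) = R.UR (K : Set ℕ) := by rw [R.keepSet_wMax]; rfl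
  have key : ∀ g ∈ R.cl w, (u • (g : G ⧸ R.BS) = g ↔ u ∈ R.UR (K : Set ℕ)) := by
    intro g hg
    obtain ⟨b, hb, b', hb', rfl⟩ := DoubleCoset.mem_doubleCoset.1 hg
    have hu' : b⁻¹ * u * b ∈ R.UP := by
      have h := Subgroup.mem_normalizer_iff.1 (R.BS_le_normalizer_UP (inv_mem hb)) u
      rw [inv_inv] at h
      exact h.1 hu
    rw [← R.UR_conj_mem hD (K := (K : Set ℕ)) (u := u) (Subgroup.mem_sup_left hb),
      MulAction.Quotient.smul_coe, QuotientGroup.eq, smul_eq_mul]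
    have e : (u * (b * (R.rep w : G) * b'))⁻¹ * (b * R.rep w * b') =
        b'⁻¹ * ((R.rep w : G)⁻¹ * (b⁻¹ * u * b)⁻¹ * R.rep w) * b' := by group
    rw [e]
    constructor
    · intro h
      have h' : (R.rep w : G)⁻¹ * (b⁻¹ * u * b)⁻¹ * R.rep w ∈ R.BS := by
        simpa [mul_assoc] using mul_mem (mul_mem hb' h) (inv_mem hb')
      obtain ⟨p, hp, k, hk, ek⟩ := R.exists_UP_factor (R.qact w) (inv_mem hu')
      have hp' : (R.rep w : G)⁻¹ * p * R.rep w ∈ R.UP := by
        have := R.conj_keep (n := (R.rep w)⁻¹) (p := p) (by rwa [hperm])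
        simpa using this
      have hk' : (R.rep w : G)⁻¹ * k * R.rep w ∈ R.UN := by
        have := R.conj_inv (n := (R.rep w)⁻¹) (p := k) (by rwa [hperm])
        simpa using this
      have hk1 := R.BS_inf_UN (by
        have := mul_mem (inv_mem (R.UP_le_BS hp')) h'
        rw [ek] at this
        simpa [mul_assoc] using this) hk'
      have hk2 : k = 1 := by
        calc k = (R.rep w : G) * ((R.rep w : G)⁻¹ * k * R.rep w) * (R.rep w : G)⁻¹ := by group
          _ = 1 := by rw [hk1]; group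
      rw [hk2, mul_one] at ek
      rw [hkeep] at hp
      rw [← ek] at hp
      simpa using inv_mem hp
    · intro h
      refine mul_mem (mul_mem (inv_mem hb') ?_) hb'
      have := R.conj_keep (n := (R.rep w)⁻¹) (p := (b⁻¹ * u * b)⁻¹) (by rw [hperm, hkeep]; exact inv_mem h)
      exact R.UP_le_BS (by simpa using this)
  split_ifs with h
  · rw [Nat.card_congr (Equiv.subtypeUnivEquiv fun c : R.Cell w => by
      obtain ⟨c, g, hg, rfl⟩ := c
      exact (key g hg).2 h), R.card_Cell, R.invN_wMax]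
  · rw [Nat.cast_eq_zero]
    have : IsEmpty {c : R.Cell w // u • c.1 = c.1} := ⟨fun z => by
      obtain ⟨⟨c, g, hg, rfl⟩, hz⟩ := z
      exact h ((key g hg).1 hz)⟩
    exact Nat.card_of_isEmpty

omit [Finite F] in
theorem stK_conj {K : Finset ℕ} {x : G} (hx : x ∈ R.PJ (K : Set ℕ)) (g : G) :
    R.stK K (x * g * x⁻¹) = R.stK K g := by
  refine Finset.sum_congr rfl fun J _ => ?_
  congr 2
  let e : R.Cosets (J : Set ℕ) (K : Set ℕ) ≃ R.Cosets (J : Set ℕ) (K : Set ℕ) :=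
    (MulAction.toPerm x).subtypeEquiv fun c => by
      induction c using QuotientGroup.induction_on with
      | H y =>
        constructor
        · rintro ⟨z, hz, e⟩
          exact ⟨x * z, mul_mem hx hz, by rw [MulAction.toPerm_apply, ← e]; rfl⟩
        · rintro ⟨z, hz, e⟩
          refine ⟨x⁻¹ * z, mul_mem (inv_mem hx) hz, ?_⟩
          rw [MulAction.toPerm_apply] at e
          rw [← smul_eq_mul, ← MulAction.Quotient.smul_coe, e, inv_smul_smul]
  refine (Nat.card_congr (e.subtypeEquiv fun c => ?_)).symm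
  show g • c.1 = c.1 ↔ (x * g * x⁻¹) • (x • c.1) = x • c.1
  rw [mul_smul, mul_smul, inv_smul_smul, smul_left_cancel_iff]

omit [Finite F] in
open scoped _root_.Classical in
/-- double counting of fixed cosets -/
theorem sum_fix [Fintype G] {J K : Set ℕ} (hJK : J ⊆ K) (S : G → Prop) (f : G → ℤ)
    (hS : ∀ x ∈ R.PJ K, ∀ g, S g → S (x * g * x⁻¹)) (hf : ∀ x ∈ R.PJ K, ∀ g, f (x * g * x⁻¹) = f g) :
    ∑ g : G, (if g ∈ R.PJ K ∧ S g then f g * (R.stFix J K g : ℤ) else 0) =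
      (Nat.card (R.Cosets J K) : ℤ) * ∑ g : G, if g ∈ R.PJ J ∧ S g then f g else 0 := by
  have := R.finite_cosets J K
  have := Fintype.ofFinite (R.Cosets J K)
  have h1 : ∀ g, (R.stFix J K g : ℤ) = ∑ c : R.Cosets J K, if g • c.1 = c.1 then (1 : ℤ) else 0 := fun g => by
    rw [stFix, Nat.card_eq_fintype_card, Fintype.card_subtype, Finset.sum_boole]
  have h2 : ∀ c : R.Cosets J K, ∑ g : G, (if g ∈ R.PJ K ∧ S g then
      f g * (if g • c.1 = c.1 then (1 : ℤ) else 0) else 0) = ∑ g : G, if g ∈ R.PJ J ∧ S g then f g else 0 := by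
    rintro ⟨_, x, hx, rfl⟩
    refine (Fintype.sum_equiv (MulAut.conj x).toEquiv _ _ fun g => ?_).symm
    show _ = if x * g * x⁻¹ ∈ R.PJ K ∧ S (x * g * x⁻¹) then
      f (x * g * x⁻¹) * (if (x * g * x⁻¹) • (x : G ⧸ R.PJ J) = x then (1 : ℤ) else 0) else 0
    have hfix : (x * g * x⁻¹) • (x : G ⧸ R.PJ J) = x ↔ g ∈ R.PJ J := by
      rw [MulAction.Quotient.smul_coe, QuotientGroup.eq, smul_eq_mul]
      rw [show (x * g * x⁻¹ * x)⁻¹ * x = g⁻¹ by group, inv_mem_iff]
    have hSiff : S (x * g * x⁻¹) ↔ S g := ⟨fun h => by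
      simpa [mul_assoc] using hS x⁻¹ (inv_mem hx) _ h, hS x hx g⟩
    simp only [hfix, hSiff, hf x hx g]
    by_cases hg : g ∈ R.PJ J
    · have hgK : x * g * x⁻¹ ∈ R.PJ K := mul_mem (mul_mem hx (R.PJ_mono hJK hg)) (inv_mem hx)
      simp [hg, hgK]
    · simp [hg]
  calc _ = ∑ g : G, ∑ c : R.Cosets J K, (if g ∈ R.PJ K ∧ S g then
          f g * (if g • c.1 = c.1 then (1 : ℤ) else 0) else 0) := by
        refine Finset.sum_congr rfl fun g _ => ?_
        split_ifs with h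
        · rw [h1, Finset.mul_sum]
        · rw [Finset.sum_const_zero]
    _ = _ := by
        rw [Finset.sum_comm, Finset.sum_congr rfl fun c _ => h2 c, Finset.sum_const, Finset.card_univ,
          nsmul_eq_mul, Nat.card_eq_fintype_card]

open scoped _root_.Classical in
theorem card_Cosets [Fintype R.WQ] {J K : Set ℕ} (hJK : J ⊆ K) :
    Nat.card (R.Cosets J K) =
      ∑ x : R.WQ, if x ∈ R.wJ K ∧ R.IsMin J x then Nat.card F ^ R.invN x else 0 := by
  have := R.Finite_of_field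
  have := fun w => R.finite_cell w
  have e := R.stFix_BS hJK (one_mem R.BS)
  rw [stFix, Nat.card_congr (Equiv.subtypeUnivEquiv fun c => one_smul G _), Nat.card_sigma] at e
  rw [e, ← Finset.sum_filter, ← Finset.sum_subtype (Finset.univ.filter fun x => x ∈ R.wJ K ∧ R.IsMin J x)
    (fun x => by simp) (fun x : R.WQ => Nat.card {c : R.Cell x // (1 : G) • c.1 = c.1})]
  refine Finset.sum_congr rfl fun x _ => ?_
  rw [Nat.card_congr (Equiv.subtypeUnivEquiv fun c => one_smul G _), R.card_Cell]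

omit [Finite F] in
theorem isMin_one (K : Set ℕ) : R.IsMin K 1 := fun k _ h => by
  rw [map_one, Equiv.Perm.one_apply]; exact R.sroot_pos _

omit [Finite F] in
theorem eq_one_of_min {K : Set ℕ} {y : R.WQ} (hy : y ∈ R.wJ K) (hm : R.IsMin K y) : y = 1 :=
  R.min_unique (x := 1) hy (R.isMin_one K)
    (by rwa [one_mul])

/-- the Poincaré identity -/
theorem alt_poincare {K : Finset ℕ} (hK : ∀ k ∈ K, k < D.rank) :
    ∑ J ∈ K.powerset, (-1 : ℤ) ^ J.card *
      ((Nat.card (R.Cosets (J : Set ℕ) (K : Set ℕ)) * Nat.card F ^ R.nSub (J : Set ℕ) : ℕ) : ℤ) = 1 := by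
  classical
  have := R.rootPerm.finite
  have := Fintype.ofFinite R.WQ
  have key : ∀ J ∈ K.powerset, ((Nat.card (R.Cosets (J : Set ℕ) (K : Set ℕ)) *
      Nat.card F ^ R.nSub (J : Set ℕ) : ℕ) : ℤ) = ∑ y : R.WQ, if y ∈ R.wJ (K : Set ℕ) then
        (if R.IsMax (J : Set ℕ) y then 1 else 0) * ((Nat.card F ^ R.invN y : ℕ) : ℤ) else 0 := by
    intro J hJ
    have hJK := Finset.coe_subset.2 (Finset.mem_powerset.1 hJ)
    rw [R.card_Cosets hJK, Finset.sum_mul, Nat.cast_sum]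
    refine Fintype.sum_equiv (Equiv.mulRight (R.wMax (J : Set ℕ))) _ _ fun x => ?_
    have hw := R.wJ_mono hJK (R.wMax_mem (J : Set ℕ))
    have hmem : x * R.wMax (J : Set ℕ) ∈ R.wJ (K : Set ℕ) ↔ x ∈ R.wJ (K : Set ℕ) :=
      Subgroup.mul_mem_cancel_right _ hw
    have hmax : R.IsMax (J : Set ℕ) (x * R.wMax (J : Set ℕ)) ↔ R.IsMin (J : Set ℕ) x := by
      refine ⟨fun h => ?_, R.min_mul_wMax_isMax⟩
      have := R.max_mul_wMax_isMin h
      rwa [mul_assoc, R.wMax_mul_self, mul_one] at this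
    simp only [Equiv.coe_mulRight, hmem, hmax]
    by_cases h1 : x ∈ R.wJ (K : Set ℕ)
    · by_cases h2 : R.IsMin (J : Set ℕ) x
      · simp [h1, h2, R.invN_mul_wMax h2, pow_add]
      · simp [h1, h2]
    · simp [h1]
  rw [Finset.sum_congr rfl fun J hJ => by rw [key J hJ]]
  simp only [Finset.mul_sum]
  rw [Finset.sum_comm, Finset.sum_eq_single 1]
  · simp only [one_mem, if_true, ← mul_assoc, ← Finset.sum_mul]
    rw [R.alt_sum_max hK, if_pos (R.isMin_one (K : Set ℕ)),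
      R.invN_one, pow_zero, Nat.cast_one, one_mul]
  · intro y _ hne
    by_cases hy : y ∈ R.wJ (K : Set ℕ)
    · simp only [hy, if_true, ← mul_assoc, ← Finset.sum_mul]
      rw [R.alt_sum_max hK, if_neg fun h => hne (R.eq_one_of_min hy h), zero_mul]
    · simp [hy]
  · simp

theorem card_UR_mul (K : Set ℕ) :
    Nat.card (R.UR K) * Nat.card F ^ R.nSub K = Nat.card R.UP := by
  have := R.Finite_of_field
  set w := R.wMax K with hw
  have hperm : R.nsPerm (R.rep w) = R.qact w := R.nsPerm_rep w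
  have hkeep : R.US (keepSet (R.qact w)) = R.UR K := by rw [R.keepSet_wMax]; rfl
  rw [← hkeep, ← R.invN_wMax, R.invN_eq, ← R.card_US_inv, ← Nat.card_prod]
  refine Nat.card_congr (Equiv.ofBijective (fun x : ↥(R.US (keepSet (R.qact w))) ×
    ↥(R.US (invSet (R.qact w))) => (⟨x.1.1 * x.2.1, mul_mem (R.US_mono (keepSet_subset _) x.1.2)
      (R.US_mono (invSet_subset _) x.2.2)⟩ : ↥R.UP)) ⟨?_, ?_⟩)
  · rintro ⟨⟨p, hp⟩, ⟨m, hm⟩⟩ ⟨⟨p', hp'⟩, ⟨m', hm'⟩⟩ e
    have e' : p * m = p' * m' := congrArg Subtype.val e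
    have h1 : p'⁻¹ * p = m' * m⁻¹ := by
      rw [show p = p' * m' * m⁻¹ by rw [← e']; group]; group
    have h2 := R.keep_inf_inv (R.rep w) (g := p'⁻¹ * p) (by rw [hperm]; exact mul_mem (inv_mem hp') hp)
      (by rw [hperm, h1]; exact mul_mem hm' (inv_mem hm))
    obtain rfl : p' = p := inv_mul_eq_one.1 h2
    obtain rfl := mul_left_cancel e'
    rfl
  · rintro ⟨g, hg⟩
    obtain ⟨p, hp, m, hm, rfl⟩ := R.exists_UP_factor (R.qact w) hg
    exact ⟨(⟨p, hp⟩, ⟨m, hm⟩), rfl⟩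

theorem card_UP_eq {K : Set ℕ} (hK : ∀ i < D.rank, i ∈ K) : Nat.card R.UP = Nat.card F ^ R.nSub K := by
  have hrad : radSet D X K = ∅ := by
    ext r
    simp only [radSet, subSet, Set.mem_setOf_eq, Set.mem_empty_iff_false, iff_false, not_and, not_not]
    exact fun _ i hi hiK => absurd (hK i hi) hiK
  have : R.UR K = ⊥ := by
    unfold UR
    rw [hrad, eq_bot_iff]
    exact R.US_le fun r hr => absurd hr (Set.notMem_empty r)
  rw [← R.card_UR_mul K, this, Subgroup.card_bot, one_mul]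

omit [Finite F] in
theorem nSub_univ {K : Set ℕ} (hK : ∀ i < D.rank, i ∈ K) : R.nSub K = D.nroots / 2 := by
  have hn := R.cert.nroots_eq
  refine (Nat.card_congr (Equiv.subtypeEquivRight (q := fun r : Fin D.nroots => half D ≤ (r : ℕ))
    fun r => ⟨And.left, fun h => ⟨h, fun i hi hiK => absurd (hK i hi) hiK⟩⟩)).trans ?_
  let e : {r : Fin D.nroots // half D ≤ (r : ℕ)} ≃ Fin (half D) :=
    { toFun := fun r => ⟨(r.1 : ℕ) - half D, by have := r.1.2; have := r.2; omega⟩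
      invFun := fun j => ⟨⟨half D + j, by have := j.2; omega⟩, Nat.le_add_right _ _⟩
      left_inv := fun r => Subtype.ext (Fin.ext (show half D + ((r.1 : ℕ) - half D) = r.1 by
        have := r.2; omega))
      right_inv := fun j => Fin.ext (show half D + (j : ℕ) - half D = j by omega) }
  rw [Nat.card_congr e, Nat.card_eq_fintype_card, Fintype.card_fin]
  rfl

omit [Finite F] in
open scoped _root_.Classical in
/-- `p`-elements of `P_K` are conjugate in `P_K` into `U` -/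
theorem exists_conj_UP [Finite G] {p : ℕ} [Fact p.Prime] (P : Sylow p G) (hP : (P : Subgroup G) = R.UP)
    {K : Set ℕ} {g : G} (hg : g ∈ R.PJ K) (hk : ∃ k : ℕ, orderOf g = p ^ k) :
    ∃ x ∈ R.PJ K, x * g * x⁻¹ ∈ R.UP := by
  have hle : (P : Subgroup G) ≤ R.PJ K := hP.le.trans (R.UP_le_BS.trans le_sup_left)
  obtain ⟨k, hk⟩ := hk
  have hz : IsPGroup p (Subgroup.zpowers (⟨g, hg⟩ : R.PJ K)) := IsPGroup.of_card (n := k) (by
    rw [Nat.card_zpowers, ← Subgroup.orderOf_coe, hk])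
  obtain ⟨Q, hQ⟩ := hz.exists_le_sylow
  obtain ⟨y, hy⟩ := MulAction.exists_smul_eq (R.PJ K) Q (P.subtype hle)
  refine ⟨y, y.2, ?_⟩
  have : y * ⟨g, hg⟩ * y⁻¹ ∈ (P.subtype hle : Subgroup (R.PJ K)) := by
    rw [← hy, Sylow.coe_subgroup_smul]
    exact ⟨⟨g, hg⟩, hQ (Subgroup.mem_zpowers _), rfl⟩
  rw [Sylow.coe_subtype, Subgroup.mem_subgroupOf, hP] at this
  exact this

/-- the `p`-elements of `P_K` -/
theorem card_punip (hD : Desc D X) {p : ℕ} [Fact p.Prime] (P : Sylow p G) (hP : (P : Subgroup G) = R.UP) :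
    ∀ K : Finset ℕ, (∀ k ∈ K, k < D.rank) →
      Nat.card {g : G // g ∈ R.PJ (K : Set ℕ) ∧ ∃ k : ℕ, orderOf g = p ^ k} =
        Nat.card R.UP * Nat.card F ^ R.nSub (K : Set ℕ) := by
  classical
  have := R.Finite_of_field
  have := Fintype.ofFinite G
  intro K
  induction K using Finset.strongInduction with
  | _ K ih =>
    intro hK
    set S : G → Prop := fun g => ∃ k : ℕ, orderOf g = p ^ k with hSdef
    have hord : ∀ x g : G, orderOf (x * g * x⁻¹) = orderOf g := fun x g =>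
      orderOf_injective (MulAut.conj x).toMonoidHom (MulAut.conj x).injective g
    have hS : ∀ x g : G, S g → S (x * g * x⁻¹) := fun x g h => by simpa only [hSdef, hord] using h
    have hval : ∀ g, g ∈ R.PJ (K : Set ℕ) → S g → R.stK K g =
        if g ∈ R.UR (K : Set ℕ) then ((Nat.card F ^ R.nSub (K : Set ℕ) : ℕ) : ℤ) else 0 := by
      intro g hg hSg
      obtain ⟨x, hx, hxu⟩ := R.exists_conj_UP P hP hg hSg
      rw [← R.stK_conj hx g, R.stK_UP hD hK hxu]
      have h := R.UR_conj_mem hD (u := g) (inv_mem hx)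
      rw [inv_inv] at h
      exact if_congr h rfl rfl
    have hSU : ∀ g ∈ R.UR (K : Set ℕ), S g := fun g hg => by
      have hmem : g ∈ (P : Subgroup G) := hP ▸ R.UR_le_UP _ hg
      obtain ⟨k, hk⟩ := IsPGroup.iff_orderOf.1 P.2 ⟨g, hmem⟩
      exact ⟨k, by rw [← hk, ← Subgroup.orderOf_coe]⟩
    have hcount : ∀ J : Set ℕ, (Nat.card {g : G // g ∈ R.PJ J ∧ S g} : ℤ) =
        ∑ g : G, if g ∈ R.PJ J ∧ S g then (1 : ℤ) else 0 := fun J => by
      rw [Nat.card_eq_fintype_card, Fintype.card_subtype, Finset.sum_boole]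
    have hlhs : ∑ g : G, (if g ∈ R.PJ (K : Set ℕ) ∧ S g then R.stK K g else 0) = (Nat.card R.UP : ℤ) := by
      have hpt : ∀ g : G, (if g ∈ R.PJ (K : Set ℕ) ∧ S g then R.stK K g else 0) =
          ((Nat.card F ^ R.nSub (K : Set ℕ) : ℕ) : ℤ) * if g ∈ R.UR (K : Set ℕ) then (1 : ℤ) else 0 := by
        intro g
        by_cases hg : g ∈ R.UR (K : Set ℕ)
        · have hgP : g ∈ R.PJ (K : Set ℕ) := Subgroup.mem_sup_left (R.UP_le_BS (R.UR_le_UP _ hg))
          rw [if_pos ⟨hgP, hSU g hg⟩, hval g hgP (hSU g hg), if_pos hg, if_pos hg, mul_one]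
        · rw [if_neg hg, mul_zero]
          split_ifs with h
          · rw [hval g h.1 h.2, if_neg hg]
          · rfl
      rw [Finset.sum_congr rfl fun g _ => hpt g, ← Finset.mul_sum, Finset.sum_boole, ← R.card_UR_mul (K : Set ℕ),
        Nat.cast_mul, mul_comm, Nat.card_eq_fintype_card (α := R.UR (K : Set ℕ)), Fintype.card_subtype]
    have hrhs : ∑ g : G, (if g ∈ R.PJ (K : Set ℕ) ∧ S g then R.stK K g else 0) =
        ∑ J ∈ K.powerset, (-1 : ℤ) ^ J.card * ((Nat.card (R.Cosets (J : Set ℕ) (K : Set ℕ)) : ℤ) *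
          (Nat.card {g : G // g ∈ R.PJ (J : Set ℕ) ∧ S g} : ℤ)) := by
      have : ∀ J ∈ K.powerset, (-1 : ℤ) ^ J.card * ((Nat.card (R.Cosets (J : Set ℕ) (K : Set ℕ)) : ℤ) *
          (Nat.card {g : G // g ∈ R.PJ (J : Set ℕ) ∧ S g} : ℤ)) = ∑ g : G,
          if g ∈ R.PJ (K : Set ℕ) ∧ S g then (-1 : ℤ) ^ J.card * (R.stFix (J : Set ℕ) (K : Set ℕ) g : ℤ) else 0 := by
        intro J hJ
        rw [hcount, ← R.sum_fix (Finset.coe_subset.2 (Finset.mem_powerset.1 hJ)) S (fun _ => 1)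
          (fun x _ g h => hS x g h) (fun _ _ _ => rfl), Finset.mul_sum]
        exact Finset.sum_congr rfl fun g _ => by simp [mul_ite]
      rw [Finset.sum_congr rfl this, Finset.sum_comm]
      refine Finset.sum_congr rfl fun g _ => ?_
      split_ifs with h
      · rfl
      · rw [Finset.sum_const_zero]
    have hpoin : ∑ J ∈ K.powerset, (-1 : ℤ) ^ J.card * ((Nat.card (R.Cosets (J : Set ℕ) (K : Set ℕ)) : ℤ) *
        ((Nat.card R.UP * Nat.card F ^ R.nSub (J : Set ℕ) : ℕ) : ℤ)) = (Nat.card R.UP : ℤ) := by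
      calc _ = (Nat.card R.UP : ℤ) * ∑ J ∈ K.powerset, (-1 : ℤ) ^ J.card *
            ((Nat.card (R.Cosets (J : Set ℕ) (K : Set ℕ)) * Nat.card F ^ R.nSub (J : Set ℕ) : ℕ) : ℤ) := by
            rw [Finset.mul_sum]
            exact Finset.sum_congr rfl fun J _ => by push_cast; ring
        _ = _ := by rw [R.alt_poincare hK, mul_one]
    have heq := hrhs.symm.trans hlhs
    rw [← hpoin, ← Finset.add_sum_erase _ _ (Finset.mem_powerset_self K),
      ← Finset.add_sum_erase _ _ (Finset.mem_powerset_self K)] at heq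
    rw [Finset.sum_congr rfl fun J hJ => by
      rw [ih J (Finset.ssubset_iff_subset_ne.2 ⟨Finset.mem_powerset.1 (Finset.mem_of_mem_erase hJ),
        Finset.ne_of_mem_erase hJ⟩) fun k hk => hK k (Finset.mem_powerset.1 (Finset.mem_of_mem_erase hJ) hk)]]
      at heq
    have hC : (Nat.card (R.Cosets (K : Set ℕ) (K : Set ℕ)) : ℤ) ≠ 0 := by
      have := R.finite_cosets (K : Set ℕ) (K : Set ℕ)
      have : Nonempty (R.Cosets (K : Set ℕ) (K : Set ℕ)) := ⟨⟨_, 1, one_mem _, rfl⟩⟩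
      exact Nat.cast_ne_zero.2 Nat.card_pos.ne'
    exact_mod_cast mul_left_cancel₀ hC (mul_left_cancel₀ (pow_ne_zero _ (by norm_num)) (add_right_cancel heq))

omit [Finite F] in
theorem PJ_eq_top {K : Set ℕ} (hK : ∀ i < D.rank, i ∈ K) : R.PJ K = ⊤ :=
  eq_top_iff.2 fun g _ => by
    obtain ⟨w, hw⟩ := R.exists_cl g
    exact R.cl_subset_PJ (R.wJ_univ hK w) hw

omit [Finite F] in
theorem exists_double_min [Finite G] (J K : Set ℕ) (g : G) :
    ∃ x, R.IsMin J x ∧ R.IsMin K x⁻¹ ∧ ∃ a ∈ R.PJ K, ∃ p ∈ R.PJ J, a * g * p ∈ R.cl x := by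
  classical
  have hex : ∃ n, ∃ w, wlen R.qgen w = n ∧ ∃ a ∈ R.PJ K, ∃ p ∈ R.PJ J, a * g * p ∈ R.cl w := by
    obtain ⟨w, hw⟩ := R.exists_cl g
    exact ⟨_, w, rfl, 1, one_mem _, 1, one_mem _, by simpa using hw⟩
  obtain ⟨w, hwn, a, ha, p, hp, hw⟩ := Nat.find_spec hex
  have hmin : ∀ v, (∃ a ∈ R.PJ K, ∃ p ∈ R.PJ J, a * g * p ∈ R.cl v) → wlen R.qgen w ≤ wlen R.qgen v :=
    fun v hv => hwn ▸ Nat.find_min' hex ⟨v, rfl, hv⟩
  obtain ⟨m, rfl, b, hb, b', hb', hm⟩ := R.exists_of_mem_cl hw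
  refine ⟨R.qmk m, fun k hk hkr => ?_, fun k hk hkr => ?_, a, ha, p, hp, hw⟩
  · by_contra hneg
    have hlt := (R.rootPerm.wlen_mul_simple_lt_iff (R.qmk m) ⟨k, hkr⟩).2 hneg
    have hn : (R.nS ⟨k, hkr⟩ : G) ∈ R.PJ J := Subgroup.mem_sup_right (Subgroup.subset_closure ⟨_, hk, rfl⟩)
    have h1 := R.mul_mem_cl (n := m * R.nS ⟨k, hkr⟩) hb (one_mem R.BS)
    have e : b * ((m * R.nS ⟨k, hkr⟩ : R.NS) : G) * 1 = a * g * (p * (b'⁻¹ * R.nS ⟨k, hkr⟩)) := by
      rw [← mul_assoc (a * g) p, hm]; simp [mul_assoc]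
    rw [e, map_mul] at h1
    have := hmin _ ⟨a, ha, _, mul_mem hp (mul_mem (Subgroup.mem_sup_left (inv_mem hb')) hn), h1⟩
    exact absurd this (not_le.2 hlt)
  · by_contra hneg
    have hlt := (R.rootPerm.wlen_simple_mul_lt_iff (R.qmk m) ⟨k, hkr⟩).2 hneg
    have hn : (R.nS ⟨k, hkr⟩ : G) ∈ R.PJ K := Subgroup.mem_sup_right (Subgroup.subset_closure ⟨_, hk, rfl⟩)
    have h1 := R.mul_mem_cl (n := R.nS ⟨k, hkr⟩ * m) (one_mem R.BS) hb'
    have e : 1 * ((R.nS ⟨k, hkr⟩ * m : R.NS) : G) * b' = (R.nS ⟨k, hkr⟩ : G) * b⁻¹ * a * g * p := by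
      rw [mul_assoc _ a g, mul_assoc _ (a * g) p, hm]; simp [mul_assoc]
    rw [e, map_mul] at h1
    have := hmin _ ⟨_, mul_mem (mul_mem hn (Subgroup.mem_sup_left (inv_mem hb))) ha, p, hp, h1⟩
    exact absurd this (not_le.2 hlt)

omit [Finite F] in
theorem card_orbits [Finite G] (J K : Set ℕ) :
    Nat.card (MulAction.orbitRel.Quotient (R.PJ K) (G ⧸ R.PJ J)) =
      Nat.card {x : R.WQ // R.IsMin J x ∧ R.IsMin K x⁻¹} := by
  refine (Nat.card_congr (Equiv.ofBijective (fun x => (Quotient.mk'' ((R.rep x.1 : G) : G ⧸ R.PJ J) :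
    MulAction.orbitRel.Quotient (R.PJ K) (G ⧸ R.PJ J))) ⟨?_, ?_⟩)).symm
  · rintro ⟨x, hxJ, hxK⟩ ⟨y, hyJ, hyK⟩ e
    obtain ⟨a, ha⟩ := MulAction.orbitRel_apply.1 (Quotient.eq''.1 e)
    have hp := QuotientGroup.eq.1 (show (((a : G) * R.rep y : G) : G ⧸ R.PJ J) = ((R.rep x : G) : G ⧸ R.PJ J) from ha)
    obtain ⟨v, hv, u, hu, h⟩ := R.exists_double a.2 (R.rep_mem_cl y) hp
    rw [mul_inv_cancel_left] at h
    exact Subtype.ext (R.double_unique hv hu hyJ hxJ hyK hxK (R.cl_inj (R.rep_mem_cl x) h))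
  · intro o
    induction o using Quotient.inductionOn' with
    | h c =>
      induction c using QuotientGroup.induction_on with
      | H g =>
        obtain ⟨x, hxJ, hxK, a, ha, p, hp, h⟩ := R.exists_double_min J K g
        obtain ⟨m, hm, b, hb, b', hb', e⟩ := R.exists_of_mem_cl h
        have hH : (R.rep x : G)⁻¹ * m ∈ R.HS :=
          R.qmk_eq_one (g := (R.rep x)⁻¹ * m) |>.1 (by rw [map_mul, map_inv, R.qmk_rep, hm, inv_mul_cancel])
        refine ⟨⟨x, hxJ, hxK⟩, Quotient.eq''.2 (MulAction.orbitRel_apply.2 ⟨⟨b⁻¹ * a,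
          mul_mem (Subgroup.mem_sup_left (inv_mem hb)) ha⟩, ?_⟩)⟩
        show (((b⁻¹ * a) * g : G) : G ⧸ R.PJ J) = ((R.rep x : G) : G ⧸ R.PJ J)
        rw [QuotientGroup.eq]
        have e' : ((b⁻¹ * a) * g)⁻¹ * (R.rep x : G) = p * b'⁻¹ * ((R.rep x : G)⁻¹ * m)⁻¹ := by
          rw [show a = b * m * b' * p⁻¹ * g⁻¹ by rw [← e]; group]; group
        rw [e']
        exact mul_mem (mul_mem hp (Subgroup.mem_sup_left (inv_mem hb'))) (inv_mem (Subgroup.mem_sup_left (R.HS_le_BS hH)))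

omit [Finite F] in
theorem stFix_univ [Finite G] {J K : Set ℕ} (hK : ∀ i < D.rank, i ∈ K) (g : G) :
    R.stFix J K g = Nat.card (MulAction.fixedBy (G ⧸ R.PJ J) g) := by
  refine Nat.card_congr ((Equiv.subtypeUnivEquiv fun c => ?_).subtypeEquiv fun c => Iff.rfl)
  induction c using QuotientGroup.induction_on with
  | H y => exact ⟨y, by rw [R.PJ_eq_top hK]; trivial, rfl⟩

/-- the norm of the alternating sum -/
theorem sum_stK_sq [Fintype G] {K : Finset ℕ} (hK : ∀ k, k ∈ K ↔ k < D.rank) :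
    ∑ g : G, R.stK K g * R.stK K g = (Nat.card G : ℤ) := by
  classical
  have := R.rootPerm.finite
  have := Fintype.ofFinite R.WQ
  have hKu : ∀ i < D.rank, i ∈ (K : Set ℕ) := fun i hi => (hK i).2 hi
  have htop := R.PJ_eq_top hKu
  have havg : ∀ J' ∈ K.powerset, (∑ g : G, if g ∈ R.PJ (J' : Set ℕ) ∧ True then R.stK K g else 0) =
      if J' = ∅ then (Nat.card (R.PJ (J' : Set ℕ)) : ℤ) else 0 := by
    intro J' hJ'
    have horb : ∀ J : Finset ℕ, (∑ g : G, if g ∈ R.PJ (J' : Set ℕ) ∧ True then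
        (R.stFix (J : Set ℕ) (K : Set ℕ) g : ℤ) else 0) = (Nat.card (R.PJ (J' : Set ℕ)) : ℤ) *
          ∑ x : R.WQ, if R.IsMin (J : Set ℕ) x then (if R.IsMin (J' : Set ℕ) x⁻¹ then (1 : ℤ) else 0) else 0 := by
      intro J
      have := Fintype.ofFinite (G ⧸ R.PJ (J : Set ℕ))
      have := Fintype.ofFinite (R.PJ (J' : Set ℕ))
      have := Fintype.ofFinite (MulAction.orbitRel.Quotient (R.PJ (J' : Set ℕ)) (G ⧸ R.PJ (J : Set ℕ)))
      have h := MulAction.sum_card_fixedBy_eq_card_orbits_mul_card_group (R.PJ (J' : Set ℕ)) (G ⧸ R.PJ (J : Set ℕ))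
      simp only [and_true, R.stFix_univ hKu]
      rw [← Finset.sum_filter, Finset.sum_subtype (p := fun g => g ∈ R.PJ (J' : Set ℕ)) _ (fun g => by simp)]
      simp only [← ite_and, Finset.sum_boole]
      rw [← Fintype.card_subtype, ← Nat.card_eq_fintype_card, ← R.card_orbits, Nat.card_eq_fintype_card,
        Nat.card_eq_fintype_card, ← Nat.cast_mul, mul_comm, ← h, Nat.cast_sum]
      refine Finset.sum_congr rfl fun g _ => ?_
      rw [Nat.cast_inj, ← Nat.card_eq_fintype_card]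
      rfl
    have hsum : (∑ g : G, if g ∈ R.PJ (J' : Set ℕ) ∧ True then R.stK K g else 0) =
        ∑ J ∈ K.powerset, (-1 : ℤ) ^ J.card * ∑ g : G, if g ∈ R.PJ (J' : Set ℕ) ∧ True then
          (R.stFix (J : Set ℕ) (K : Set ℕ) g : ℤ) else 0 := by
      simp only [Finset.mul_sum]
      rw [Finset.sum_comm]
      refine Finset.sum_congr rfl fun g _ => ?_
      split_ifs with h
      · rfl
      · simp
    rw [hsum, Finset.sum_congr rfl fun J _ => by rw [horb J, mul_left_comm], ← Finset.mul_sum]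
    simp only [Finset.mul_sum (s := (Finset.univ : Finset R.WQ))]
    rw [Finset.sum_comm]
    simp only [← mul_assoc, mul_ite, mul_zero]
    have hin : ∀ x : R.WQ, (∑ J ∈ K.powerset, if R.IsMin (J : Set ℕ) x then
        (if R.IsMin (J' : Set ℕ) x⁻¹ then (-1 : ℤ) ^ J.card * 1 else 0) else 0) =
        if x = R.wMax (K : Set ℕ) ∧ J' = ∅ then 1 else 0 := by
      intro x
      have e := R.alt_sum_min K x
      rw [if_congr (R.filter_asc_eq_empty (fun k hk => (hK k).1 hk) x) rfl rfl] at e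
      by_cases h' : R.IsMin (J' : Set ℕ) x⁻¹
      · simp only [h', if_true]
        simp only [mul_ite, mul_one, mul_zero] at e
        simp only [mul_one]
        rw [e]
        refine if_congr ⟨fun hx => ?_, fun h => h.1 ▸ R.wMax_isMax _⟩ rfl rfl
        have hxw := R.max_unique (R.wJ_univ hKu x) (R.wMax_mem _) hx (R.wMax_isMax _)
        refine ⟨hxw, Finset.eq_empty_iff_forall_notMem.2 fun k hk => ?_⟩
        have hkK := Finset.mem_powerset.1 hJ' hk
        have := h' k (Finset.mem_coe.2 hk) ((hK k).1 hkK)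
        rw [hxw, R.wMax_inv] at this
        exact R.wMax_isMax (K : Set ℕ) ⟨k, (hK k).1 hkK⟩ (Finset.mem_coe.2 hkK) this
      · have h'' : ¬ (x = R.wMax (K : Set ℕ) ∧ J' = ∅) := fun h => h' fun k hk => by simp [h.2] at hk
        simp [h', h'']
    rw [Finset.sum_congr rfl fun x _ => hin x]
    by_cases hJe : J' = ∅
    · simp [hJe, Finset.sum_ite_eq']
    · simp [hJe]
  have hconj : ∀ x ∈ R.PJ (K : Set ℕ), ∀ g, R.stK K (x * g * x⁻¹) = R.stK K g := fun x hx g => R.stK_conj hx g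
  calc ∑ g : G, R.stK K g * R.stK K g
      = ∑ J ∈ K.powerset, (-1 : ℤ) ^ J.card * ∑ g : G,
          if g ∈ R.PJ (K : Set ℕ) ∧ True then R.stK K g * (R.stFix (J : Set ℕ) (K : Set ℕ) g : ℤ) else 0 := by
        simp only [Finset.mul_sum, htop, Subgroup.mem_top, and_self, if_true]
        rw [Finset.sum_comm]
        refine Finset.sum_congr rfl fun g _ => ?_
        conv_lhs => arg 2; rw [stK]
        rw [Finset.mul_sum]
        exact Finset.sum_congr rfl fun J _ => by ring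
    _ = ∑ J ∈ K.powerset, (-1 : ℤ) ^ J.card * ((Nat.card (R.Cosets (J : Set ℕ) (K : Set ℕ)) : ℤ) *
          if J = ∅ then (Nat.card (R.PJ (J : Set ℕ)) : ℤ) else 0) := by
        refine Finset.sum_congr rfl fun J hJ => ?_
        have h := R.sum_fix (Finset.coe_subset.2 (Finset.mem_powerset.1 hJ)) (fun _ => True) _
          (fun _ _ _ h => h) hconj
        rw [← havg J hJ]
        congr 1
        convert h using 4
    _ = (Nat.card G : ℤ) := by
        rw [Finset.sum_eq_single ∅ (fun J _ hne => by simp [hne]) (by simp)]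
        rw [Finset.card_empty, pow_zero, one_mul, if_pos rfl]
        rw [show Nat.card (R.Cosets ((∅ : Finset ℕ) : Set ℕ) (K : Set ℕ)) =
          Nat.card (G ⧸ R.PJ ((∅ : Finset ℕ) : Set ℕ)) from Nat.card_congr (Equiv.subtypeUnivEquiv fun c => ?_)]
        · rw [← Nat.cast_mul, Nat.cast_inj]
          exact (Subgroup.card_eq_card_quotient_mul_card_subgroup _).symm
        · induction c using QuotientGroup.induction_on with
          | H y => exact ⟨y, by rw [htop]; trivial, rfl⟩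

/-- the big cell as the coset space `B ⧸ H` -/
theorem stK_BS_univ {K : Finset ℕ} (hK : ∀ k, k ∈ K ↔ k < D.rank) (b : R.BS) :
    R.stK K b = (Nat.card (MulAction.fixedBy (↥R.BS ⧸ R.HS.subgroupOf R.BS) b) : ℤ) := by
  have hKu : ∀ i < D.rank, i ∈ (K : Set ℕ) := fun i hi => (hK i).2 hi
  rw [R.stK_BS (fun k hk => (hK k).1 hk) b.2]
  set w := R.wMax (K : Set ℕ) with hw
  have hn : ∀ h ∈ R.HS, (R.rep w : G)⁻¹ * h * R.rep w ∈ R.HS := fun h hh => by
    have := R.HS_conj (inv_mem (R.rep w).2) hh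
    rwa [inv_inv] at this
  have hperm : R.nsPerm (R.rep w)⁻¹ = R.qact w := by rw [map_inv, R.nsPerm_rep, ← map_inv, R.wMax_inv]
  have hinv : invSet (R.qact w) = posSet D := by
    rw [R.invSet_wMax]
    ext r
    exact ⟨And.left, fun h => ⟨h, fun i hi hiK => absurd (hKu i hi) hiK⟩⟩
  let f : ↥R.BS ⧸ R.HS.subgroupOf R.BS → R.Cell w := fun c =>
    ⟨Quotient.liftOn' c (fun x : ↥R.BS => (((x : G) * R.rep w : G) : G ⧸ R.BS)) (fun x y h => by
      rw [QuotientGroup.leftRel_apply, Subgroup.mem_subgroupOf] at h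
      refine QuotientGroup.eq.2 ?_
      have e : ((x : G) * R.rep w)⁻¹ * ((y : G) * R.rep w) =
          (R.rep w : G)⁻¹ * ((x⁻¹ * y : R.BS) : G) * R.rep w := by
        rw [Subgroup.coe_mul, Subgroup.coe_inv]; group
      rw [e]
      exact R.HS_le_BS (hn _ h)), by
    induction c using QuotientGroup.induction_on with
    | H x => exact ⟨(x : G) * R.rep w, R.left_mem_cl x.2 (R.rep_mem_cl w), rfl⟩⟩
  have hf : Function.Bijective f := by
    constructor
    · intro c c' e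
      induction c using QuotientGroup.induction_on with
      | H x =>
        induction c' using QuotientGroup.induction_on with
        | H y =>
          have e' := QuotientGroup.eq.1 (congrArg Subtype.val e)
          rw [QuotientGroup.eq, Subgroup.mem_subgroupOf]
          obtain ⟨u, hu, h, hh, eu⟩ := R.exists_of_mem_BS (x⁻¹ * y).2
          have h1 : (R.rep w : G)⁻¹ * u * R.rep w ∈ R.UN := by
            have := R.conj_inv (n := (R.rep w)⁻¹) (p := u) (by rw [hperm, hinv]; exact hu)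
            simpa using this
          have h2 : (R.rep w : G)⁻¹ * u * R.rep w ∈ R.BS := by
            have e2 : (R.rep w : G)⁻¹ * u * R.rep w =
                ((x : G) * R.rep w)⁻¹ * ((y : G) * R.rep w) * ((R.rep w : G)⁻¹ * h * R.rep w)⁻¹ := by
              rw [show u = ((x⁻¹ * y : R.BS) : G) * h⁻¹ by rw [eu]; group, Subgroup.coe_mul, Subgroup.coe_inv]
              group
            rw [e2]
            exact mul_mem e' (inv_mem (R.HS_le_BS (hn h hh)))
          have hu1 : u = 1 := by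
            have h3 := R.BS_inf_UN h2 h1
            calc u = (R.rep w : G) * ((R.rep w : G)⁻¹ * u * R.rep w) * (R.rep w : G)⁻¹ := by group
              _ = 1 := by rw [h3]; group
          rw [eu, hu1, one_mul]
          exact hh
    · intro c
      obtain ⟨u, rfl⟩ := (R.cellEquiv w).surjective c
      exact ⟨QuotientGroup.mk ⟨u, R.UP_le_BS (R.US_mono (invSet_subset _) u.2)⟩, rfl⟩
  rw [Nat.cast_inj]
  refine (Nat.card_congr ((Equiv.ofBijective f hf).subtypeEquiv fun c => ?_)).symm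
  show b • c = c ↔ (b : G) • (f c).1 = (f c).1
  have : (b : G) • (f c).1 = (f (b • c)).1 := by
    induction c using QuotientGroup.induction_on with
    | H x => exact congrArg QuotientGroup.mk (mul_assoc (b : G) (x : G) _).symm
  rw [this]
  exact ⟨fun h => by rw [h], fun h => hf.1 (Subtype.ext h)⟩

end Rel

end CfsgLib.Lie.Chev
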