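/-
Checking the product formula for the length polynomial on coefficient lists.
-/
import Cfsg.Agent.Lib.Lie.Rel.Poincare

set_option autoImplicit false

namespace CfsgLib.Lie.Chev

open Cfsg.Lie (ChevalleyDatum)

/-- value of an integer coefficient list -/
def horner (q : ℤ) : List ℤ → ℤ
  | [] => 0
  | c :: cs => c + q * horner q cs

/-- sum of coefficient lists -/
def padd : List ℤ → List ℤ → List ℤ
  | [], b => b
  | a :: as, [] => a :: as
  | a :: as, b :: bs => (a + b) :: padd as bs

/-- product of coefficient lists -/
def pmul : List ℤ → List ℤ → List ℤ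
  | [], _ => []
  | a :: as, b => padd (b.map (a * ·)) (0 :: pmul as b)

theorem horner_padd (q : ℤ) : ∀ a b, horner q (padd a b) = horner q a + horner q b
  | [], b => by simp [padd, horner]
  | a :: as, [] => by simp [padd, horner]
  | a :: as, b :: bs => by simp only [padd, horner, horner_padd q as bs]; ring

theorem horner_map (q a : ℤ) : ∀ b, horner q (b.map (a * ·)) = a * horner q b
  | [] => by simp [horner]
  | b :: bs => by simp only [List.map_cons, horner, horner_map q a bs]; ring

theorem horner_pmul (q : ℤ) : ∀ a b, horner q (pmul a b) = horner q a * horner q b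
  | [], b => by simp [pmul, horner]
  | a :: as, b => by simp only [pmul, horner_padd, horner_map, horner, horner_pmul q as b]; ring

/-- coefficients of `q ^ d - 1` -/
def cyclo (d : ℕ) : List ℤ := padd [-1] (List.replicate d 0 ++ [1])

theorem horner_cyclo (q : ℤ) (d : ℕ) : horner q (cyclo d) = q ^ d - 1 := by
  have : ∀ n, horner q (List.replicate n 0 ++ [1]) = q ^ n := by
    intro n
    induction n with
    | zero => simp [horner]
    | succ n ih => rw [List.replicate_succ, List.cons_append, horner, ih]; ring
  rw [cyclo, horner_padd, this]; simp [horner]; ring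

/-- product of a list of coefficient lists -/
def pprod : List (List ℤ) → List ℤ
  | [] => [1]
  | a :: as => pmul a (pprod as)

theorem horner_pprod (q : ℤ) : ∀ L, horner q (pprod L) = (L.map (horner q)).prod
  | [] => by simp [pprod, horner]
  | a :: as => by rw [pprod, horner_pmul, horner_pprod q as, List.map_cons, List.prod_cons]

theorem horner_zero (q : ℤ) : ∀ cs : List ℤ, (∀ x ∈ cs, x = 0) → horner q cs = 0
  | [], _ => rfl
  | c :: cs, h => by
    rw [horner, h c List.mem_cons_self, horner_zero q cs fun x hx => h x (List.mem_cons_of_mem _ hx)]; ring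

/-- drop the trailing zero coefficients -/
def trim : List ℤ → List ℤ
  | [] => []
  | c :: cs => match trim cs with
    | [] => if c = 0 then [] else [c]
    | d :: ds => c :: d :: ds

theorem horner_trim (q : ℤ) : ∀ cs, horner q (trim cs) = horner q cs
  | [] => rfl
  | c :: cs => by
    rw [horner, ← horner_trim q cs, trim]
    split
    next h => rw [h]; split_ifs with hc <;> simp [horner, hc]
    next d ds h => rw [h]; simp [horner]

/-- `(q - 1) ^ l * (length polynomial) = ∏ (q ^ d - 1)`, on coefficient lists -/
def chkPoly (M : List (List ℤ)) (l N : ℕ) (degs : List ℕ) : Bool :=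
  (padd (pprod (List.replicate l (cyclo 1) ++
      (chainCounts M l N [] (List.range l).reverse).map (fun cs => trim (cs.map fun c => Int.ofNat c))))
    ((pprod (degs.map cyclo)).map (-1 * ·))).all fun x => decide (x = 0)

theorem polyVal_eq_horner (q : ℤ) (cs : List ℕ) : polyVal q cs = horner q (cs.map fun c => Int.ofNat c) := by
  have key : ∀ (cs : List ℕ) (k : ℕ), ((cs.zipIdx k).map fun p => (p.1 : ℤ) * q ^ p.2).sum =
      q ^ k * horner q (cs.map fun c => Int.ofNat c) := by
    intro cs
    induction cs with
    | nil => simp [horner]
    | cons c cs ih =>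
      intro k
      simp only [List.zipIdx_cons, List.map_cons, List.sum_cons, horner, ih (k + 1)]
      rw [show (Int.ofNat c) = (c : ℤ) from rfl]; ring
  unfold polyVal
  rw [key cs 0, pow_zero, one_mul]

theorem length_poly_identity {D : ChevalleyDatum} {X : Aux} {F : Type*} [Field F] {G : Type*} [Group G]
    (R : Rel D X F G) [Fintype R.WQ] {M : List (List ℤ)} {degs : List ℕ} (hM : cmat D = M)
    (hchk : chkPoly M D.rank (half D) degs = true) (q : ℤ) :
    (q - 1) ^ D.rank * ∑ w : R.WQ, q ^ Nat.card (invSet (R.qact w)) = (degs.map fun d => q ^ d - 1).prod := by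
  simp only [chkPoly, List.all_eq_true, decide_eq_true_eq] at hchk
  have h0 := horner_zero q _ hchk
  rw [horner_padd, horner_map] at h0
  have h : horner q (pprod (List.replicate D.rank (cyclo 1) ++
      (chainCounts M D.rank (half D) [] (List.range D.rank).reverse).map (fun cs => trim (cs.map fun c => Int.ofNat c)))) =
      horner q (pprod (degs.map cyclo)) := by linear_combination h0
  rw [horner_pprod, horner_pprod, List.map_append, List.prod_append, List.map_replicate, List.prod_replicate,
    horner_cyclo, pow_one, List.map_map, List.map_map] at h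
  rw [R.sum_pow_inv q (List.range D.rank).reverse (fun j hj => List.mem_range.1 (List.mem_reverse.1 hj))
    (fun i hi => List.mem_reverse.2 (List.mem_range.2 hi)), hM]
  refine Eq.trans ?_ (h.trans ?_)
  · congr 2
    exact List.map_congr_left fun cs _ => (polyVal_eq_horner q cs).trans (horner_trim q _).symm
  · exact congrArg List.prod (List.map_congr_left fun d _ => horner_cyclo q d)

end CfsgLib.Lie.Chev
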