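/-
Structural facts about Chevalley groups of certified data, in terms of the standard subgroups of GL.
-/
import Cfsg.Agent.Lib.Lie.Rel.Checks

set_option autoImplicit false
set_option maxHeartbeats 400000

namespace CfsgLib.Lie.Chev

open Cfsg.Lie (ChevalleyDatum)

variable {D : ChevalleyDatum} {X : Aux} (C : Cert D X) (F : Type*) [Field F]
include C

theorem posRoots_eq : D.posRoots = List.range' (half D) (half D) := by
  have hn := C.nroots_eq
  rw [ChevalleyDatum.posRoots, List.range_eq_range', show D.nroots = half D + half D by omega,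
    ← List.range'_append_1, List.filter_append, Nat.zero_add]
  have h1 : (List.range' 0 (half D)).filter (fun r => decide (D.IsPosRoot r)) = [] :=
    List.filter_eq_nil_iff.2 fun r hr => by
      rw [List.mem_range'_1] at hr
      rw [decide_eq_true_iff, C.pos_iff (by omega)]; omega
  have h2 : (List.range' (half D) (half D)).filter (fun r => decide (D.IsPosRoot r)) =
      List.range' (half D) (half D) :=
    List.filter_eq_self.2 fun r hr => by
      rw [List.mem_range'_1] at hr
      rw [decide_eq_true_iff, C.pos_iff (by omega)]; omega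
  rw [h1, h2, List.nil_append]

theorem oprod_val (t : ℕ → F) :
    (((chevRel C F).oprod (half D) (half D) t : GL D.Idx F) : Matrix D.Idx D.Idx F) =
      D.wordMat F (D.posRoots.map fun r => (r, t r)) := by
  rw [posRoots_eq C, ← xG_prod_val C F, List.map_map]
  rfl

theorem oprod_mem_pos (t : ℕ → F) :
    ((chevRel C F).oprod (half D) (half D) t : GL D.Idx F) ∈ D.posUnipotent F := by
  rw [posUnipotent_eq C F]
  refine Subgroup.mem_map_of_mem _ ?_
  have := (chevRel C F).oprod_mem (half D) (half D) t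
  rwa [Rel.geSet_half] at this

theorem posUnipotent_unique (g : GL D.Idx F) (hg : g ∈ D.posUnipotent F) :
    ∃! t : ℕ → F, (∀ r, ¬ D.IsPosRoot r → t r = 0) ∧
      (g : Matrix D.Idx D.Idx F) = D.wordMat F (D.posRoots.map fun r => (r, t r)) := by
  classical
  rw [posUnipotent_eq C F] at hg
  obtain ⟨u, hu, rfl⟩ := hg
  obtain ⟨t, rfl⟩ := (chevRel C F).exists_oprod_UP hu
  have hn := C.nroots_eq
  refine ⟨fun r => if D.IsPosRoot r then t r else 0, ⟨fun r hr => if_neg hr, ?_⟩, fun t' ht' => ?_⟩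
  · rw [← oprod_val C F, (chevRel C F).oprod_congr (k := half D) (n := half D) (t := fun r => if D.IsPosRoot r then t r else 0) (t' := t)
      (fun r h1 h2 => by rw [if_pos]; exact (C.pos_iff (by omega)).2 h1)]
    rfl
  · funext r
    by_cases hr : D.IsPosRoot r
    · rw [if_pos hr]
      have h1 := (C.pos_iff hr.1).1 hr
      refine ((chevRel C F).oprod_inj (half D) (half D) t t' le_rfl (by omega) (Units.ext ?_) r h1 (by have := hr.1; omega)).symm
      have h2 := ht'.2
      rw [← oprod_val C F] at h2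
      exact h2
    · rw [if_neg hr]; exact ht'.1 r hr

/-- the parametrisation of `U` -/
noncomputable def UPEquiv : (Fin (half D) → F) ≃ ↥(chevRel C F).UP :=
  Equiv.ofBijective (fun t => ⟨(chevRel C F).oprod (half D) (half D)
      (fun r => if h : r - half D < half D then t ⟨r - half D, h⟩ else 0), by
      have := (chevRel C F).oprod_mem (half D) (half D)
        (fun r => if h : r - half D < half D then t ⟨r - half D, h⟩ else 0)
      rwa [Rel.geSet_half] at this⟩) (by
    constructor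
    · intro t t' h
      funext i
      have hn := C.nroots_eq
      have := (chevRel C F).oprod_inj _ _ _ _ le_rfl (by omega) (congrArg (chevRel C F).θ (congrArg Subtype.val h))
        (half D + i) (Nat.le_add_right _ _) (by omega)
      simpa using this
    · rintro ⟨u, hu⟩
      obtain ⟨t, rfl⟩ := (chevRel C F).exists_oprod_UP hu
      refine ⟨fun i => t (half D + i), Subtype.ext ((chevRel C F).oprod_congr fun r h1 h2 => ?_)⟩
      have h3 : r - half D < half D := by omega
      rw [dif_pos h3]; show t (half D + (r - half D)) = t r; congr 1; omega)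

theorem card_posUnipotent [Fintype F] : Nat.card (D.posUnipotent F) = Fintype.card F ^ (D.nroots / 2) := by
  have hn := C.nroots_eq
  rw [posUnipotent_eq C F, Subgroup.card_map_of_injective Subtype.val_injective, ← Nat.card_congr (UPEquiv C F),
    Nat.card_fun, Nat.card_eq_fintype_card, Nat.card_eq_fintype_card, Fintype.card_fin,
    show D.nroots / 2 = half D by omega]

theorem sub_one_pow (g : GL D.Idx F) (hg : g ∈ D.posUnipotent F) :
    ((g : Matrix D.Idx D.Idx F) - 1) ^ (D.rank + D.nroots) = 0 := by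
  rw [posUnipotent_eq C F] at hg
  obtain ⟨u, hu, rfl⟩ := hg
  ext a b
  by_contra h
  have h1 := (chevRel C F).mat_sub_one_pow hu _ a b h
  have h2 := (chevRel C F).rk_le a
  have := C.rank_pos
  omega

theorem posUnipotent_isNilpotent : Group.IsNilpotent (D.posUnipotent F) := by
  have := (chevRel C F).UP_isNilpotent
  rw [posUnipotent_eq C F]
  exact Group.nilpotent_of_surjective (Subgroup.equivMapOfInjective (chevRel C F).UP (D.group F).subtype Subtype.val_injective).toMonoidHom
    (Subgroup.equivMapOfInjective (chevRel C F).UP (D.group F).subtype Subtype.val_injective).surjective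

theorem borel_isSolvable : Group.IsSolvable ↥(D.borelSubgroup F) := by
  have := (chevRel C F).BS_isSolvable
  rw [borelSubgroup_eq C F]
  exact Group.isSolvable_of_surjective (f := (Subgroup.equivMapOfInjective (chevRel C F).BS (D.group F).subtype Subtype.val_injective).toMonoidHom)
    (Subgroup.equivMapOfInjective (chevRel C F).BS (D.group F).subtype Subtype.val_injective).surjective

theorem wordMat_append (a b : List (ℕ × F)) : D.wordMat F (a ++ b) = D.wordMat F a * D.wordMat F b := by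
  have _ := C
  simp [ChevalleyDatum.wordMat, List.prod_append]

/-- matrix of a product of simple `h`'s -/
theorem wordMat_hWords (c : ℕ → F) : ∀ L : List ℕ, (∀ i ∈ L, i < D.rank ∧ c i ≠ 0) →
    D.wordMat F (L.flatMap fun i => D.hWord (D.simple i) (c i)) =
      Matrix.diagonal (Sum.elim (fun _ => (1 : F))
        (fun s : Fin D.nroots => (L.map fun i => c i ^ D.cartan i s).prod))
  | [], _ => by
    show (1 : Matrix D.Idx D.Idx F) = _
    rw [← Matrix.diagonal_one]
    congr 1; funext x; cases x <;> rfl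
  | i :: L, hL => by
    rw [List.flatMap_cons, wordMat_append C F, wordMat_hWords c L fun j hj => hL j (List.mem_cons_of_mem _ hj),
      show D.wordMat F (D.hWord (D.simple i) (c i)) = D.hMat F (D.simple i) (c i) from rfl,
      C.hMat_simple (hL i List.mem_cons_self).1 (hL i List.mem_cons_self).2, Matrix.diagonal_mul_diagonal]
    congr 1; funext x; cases x <;> simp

theorem diagonal_eq_prod (g : GL D.Idx F) (hg : g ∈ D.diagonalSubgroup F) :
    ∃ c : ℕ → F, (∀ i < D.rank, c i ≠ 0) ∧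
      (g : Matrix D.Idx D.Idx F) = D.wordMat F ((List.range D.rank).flatMap fun i => D.hWord (D.simple i) (c i)) := by
  classical
  rw [diagonalSubgroup_eq C F] at hg
  obtain ⟨h, hh, rfl⟩ := hg
  suffices ∃ c : ℕ → F, (∀ i < D.rank, c i ≠ 0) ∧ (chevRel C F).mat h = Matrix.diagonal (Sum.elim (fun _ => (1 : F))
      (fun s : Fin D.nroots => ((List.range D.rank).map fun i => c i ^ D.cartan i s).prod)) by
    obtain ⟨c, hc, e⟩ := this
    exact ⟨c, hc, e.trans (wordMat_hWords C F c _ fun i hi => ⟨List.mem_range.1 hi, hc i (List.mem_range.1 hi)⟩).symm⟩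
  refine closure_induction_symm ?hinv ?h1 ?hmul hh
  case hinv =>
    rintro _ ⟨i, c, hc, rfl⟩
    exact ⟨i, c⁻¹, inv_ne_zero hc, inv_eq_of_mul_eq_one_right
      (by rw [(chevRel C F).hmul' i i.2 hc (inv_ne_zero hc), mul_inv_cancel₀ hc, (chevRel C F).he_one])⟩
  case h1 =>
    refine ⟨fun _ => 1, fun _ _ => one_ne_zero, ?_⟩
    rw [(chevRel C F).mat_one, ← Matrix.diagonal_one]
    congr 1; funext x; cases x <;> simp
  case hmul =>
    intro x hx y ih
    obtain ⟨i, c, hc, rfl⟩ := hx
    obtain ⟨d, hd, e⟩ := ih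
    refine ⟨fun j => (if j = i then c else 1) * d j, fun j hj => mul_ne_zero (by split <;> simp [hc]) (hd j hj), ?_⟩
    rw [(chevRel C F).mat_mul, (chevRel C F).mat_he, C.hMat_simple i.2 hc, e, Matrix.diagonal_mul_diagonal]
    congr 1
    funext x
    cases x with
    | inl j => simp
    | inr s =>
      simp only [Sum.elim_inr, mul_zpow]
      rw [List.prod_map_mul, List.prod_map_eq_pow_single (i : ℕ) (f := fun j => (if j = (i : ℕ) then c else 1) ^ D.cartan j s)
        (fun j hj _ => by simp [hj])]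
      simp [List.count_eq_one_of_mem List.nodup_range (List.mem_range.2 i.2)]

theorem monomial_normal : ((D.diagonalSubgroup F).subgroupOf (D.monomialSubgroup F)).Normal := by
  refine Subgroup.normal_subgroupOf_of_le_normalizer ?_
  rw [diagonalSubgroup_eq C F, monomialSubgroup_eq C F]
  exact le_trans (Subgroup.map_mono (chevRel C F).NS_le_normalizer_HS) (Subgroup.le_normalizer_map _)

theorem borel_semidirect :
    D.diagonalSubgroup F ≤ Subgroup.normalizer (D.posUnipotent F : Set (GL D.Idx F)) ∧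
      D.posUnipotent F ⊓ D.diagonalSubgroup F = ⊥ := by
  rw [diagonalSubgroup_eq C F, posUnipotent_eq C F]
  refine ⟨le_trans (Subgroup.map_mono ((chevRel C F).HS_le_normalizer_US _)) (Subgroup.le_normalizer_map _), ?_⟩
  rw [← Subgroup.map_inf _ _ _ Subtype.val_injective, (chevRel C F).UP_inf_HS, Subgroup.map_bot]

theorem borel_inf_neg :
    D.borelSubgroup F ⊓ D.negUnipotent F = ⊥ ∧
      D.borelSubgroup F ⊓ (D.negUnipotent F ⊔ D.diagonalSubgroup F) = D.diagonalSubgroup F := by
  rw [diagonalSubgroup_eq C F, negUnipotent_eq C F, borelSubgroup_eq C F, ← Subgroup.map_sup,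
    ← Subgroup.map_inf _ _ _ Subtype.val_injective, ← Subgroup.map_inf _ _ _ Subtype.val_injective]
  refine ⟨?_, congrArg _ ?_⟩
  · rw [Subgroup.map_eq_bot_iff_of_injective _ Subtype.val_injective, Subgroup.eq_bot_iff_forall]
    intro g hg
    have hH := (chevRel C F).BS_inf_UN_HS (Subgroup.mem_inf.1 hg).1 (Subgroup.mem_sup_left (Subgroup.mem_inf.1 hg).2)
    obtain ⟨n, _, hn2⟩ := (chevRel C F).exists_opp
    have h1 := Subgroup.mem_inf.2 ⟨hn2 g (Subgroup.mem_inf.1 hg).2, (chevRel C F).HS_conj n.2 hH⟩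
    rw [(chevRel C F).UP_inf_HS, Subgroup.mem_bot, mul_inv_eq_one, mul_eq_left] at h1
    exact h1
  · exact le_antisymm (fun g hg => (chevRel C F).BS_inf_UN_HS (Subgroup.mem_inf.1 hg).1 (Subgroup.mem_inf.1 hg).2)
      (le_inf (chevRel C F).HS_le_BS le_sup_right)

theorem unipotent_inf_monomial :
    D.posUnipotent F ⊓ D.monomialSubgroup F = ⊥ ∧
      D.borelSubgroup F ⊓ D.monomialSubgroup F = D.diagonalSubgroup F := by
  rw [diagonalSubgroup_eq C F, posUnipotent_eq C F, borelSubgroup_eq C F, monomialSubgroup_eq C F,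
    ← Subgroup.map_inf _ _ _ Subtype.val_injective, ← Subgroup.map_inf _ _ _ Subtype.val_injective,
    (chevRel C F).BS_inf_NS]
  refine ⟨?_, rfl⟩
  rw [Subgroup.map_eq_bot_iff_of_injective _ Subtype.val_injective, eq_bot_iff, ← (chevRel C F).UP_inf_HS,
    ← (chevRel C F).BS_inf_NS]
  exact le_inf inf_le_left (inf_le_inf_right _ (chevRel C F).UP_le_BS)

theorem pos_sup_neg : D.posUnipotent F ⊔ D.negUnipotent F = D.group F := by
  rw [posUnipotent_eq C F, negUnipotent_eq C F, ← Subgroup.map_sup]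
  conv_rhs => rw [group_eq_map C F]
  congr 1
  rw [eq_top_iff, ← (chevRel C F).gen, Subgroup.closure_le]
  rintro _ ⟨r, t, rfl⟩
  by_cases hr : r < D.nroots
  · by_cases hp : half D ≤ r
    · exact Subgroup.mem_sup_left ((chevRel C F).xe_mem_US (S := posSet D) (r := ⟨r, hr⟩) hp t)
    · exact Subgroup.mem_sup_right ((chevRel C F).xe_mem_US (S := negSet D) (r := ⟨r, hr⟩) hp t)
  · rw [(chevRel C F).xe_oob r t hr]; exact one_mem _

theorem borel_monomial :
    D.borelSubgroup F ≤ D.group F ∧ D.monomialSubgroup F ≤ D.group F ∧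
      D.borelSubgroup F ⊔ D.monomialSubgroup F = D.group F := by
  refine ⟨borelSubgroup_le C F, monomialSubgroup_le C F, ?_⟩
  rw [borelSubgroup_eq C F, monomialSubgroup_eq C F, ← Subgroup.map_sup, (chevRel C F).BS_sup_NS,
    ← group_eq_map C F]

theorem SS_eq : (chevRel C F).SS =
    {n : ↥(D.group F) | ∃ i < D.rank, ((n : GL D.Idx F) : Matrix D.Idx D.Idx F) = D.nMat F (D.simple i) 1} := by
  ext n
  constructor
  · rintro ⟨i, rfl⟩; exact ⟨i, i.2, xG_neOf_val C F _ 1⟩
  · rintro ⟨i, hi, e⟩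
    exact ⟨⟨i, hi⟩, Subtype.ext (Units.ext (e.trans (xG_neOf_val C F _ 1).symm))⟩

theorem has_bnPair : ∃ P : Cfsg.BNPair ↥(D.group F),
    P.B = (D.borelSubgroup F).subgroupOf (D.group F) ∧ P.N = (D.monomialSubgroup F).subgroupOf (D.group F) ∧
    P.S = {n : ↥(D.group F) | ∃ i < D.rank, ((n : GL D.Idx F) : Matrix D.Idx D.Idx F) = D.nMat F (D.simple i) 1} :=
  ⟨(chevRel C F).bnPair, (borel_subgroupOf C F).symm, (monomial_subgroupOf C F).symm, SS_eq C F⟩

theorem core_trivial : ((D.borelSubgroup F).subgroupOf (D.group F)).normalCore = ⊥ := by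
  rw [borel_subgroupOf C F, (chevRel C F).core_eq_ker]
  exact (MonoidHom.ker_eq_bot_iff _).2 (chevRel_injective C F)

theorem isSimple (hc : Rel.Connected D) (hp : Rel.PerfectData D F) :
    IsSimpleGroup ↥(D.group F) ∧ ¬ IsMulCommutative ↥(D.group F) :=
  ⟨(chevRel C F).isSimpleGroup (chevRel_injective C F) hc hp, (chevRel C F).not_comm⟩

theorem hMat_mul (r : ℕ) (hr : r < D.nroots) (a b : F) (ha : a ≠ 0) (hb : b ≠ 0) :
    D.hMat F r a * D.hMat F r b = D.hMat F r (a * b) := by
  have h := congrArg (chevRel C F).mat ((chevRel C F).he_mul ⟨r, hr⟩ ha hb)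
  simpa [(chevRel C F).mat_mul, (chevRel C F).mat_he] using h

theorem nMat_conj_hMat (i j : ℕ) (hi : i < D.rank) (hj : j < D.rank) (t : F) (ht : t ≠ 0) :
    D.nMat F (D.simple i) 1 * D.hMat F (D.simple j) t =
      D.hMat F (D.reflectRoot i (D.simple j)) t * D.nMat F (D.simple i) 1 := by
  have h := (chevRel C F).he_conj_simple ((chevRel C F).isMon_ne_simple ⟨i, hi⟩ one_ne_zero) ⟨j, hj⟩ ht
  rw [mul_inv_eq_iff_eq_mul] at h
  have h' := congrArg (chevRel C F).mat h
  rw [(chevRel C F).mat_mul, (chevRel C F).mat_mul, (chevRel C F).mat_he, (chevRel C F).mat_he,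
    (chevRel C F).mat_ne] at h'
  rw [C.reflect_eq hi (C.simple_lt hj)]
  exact h'

theorem opposition : ∃ n ∈ D.monomialSubgroup F,
    (D.posUnipotent F).map (MulAut.conj n).toMonoidHom = D.negUnipotent F := by
  obtain ⟨n, hn⟩ := (chevRel C F).exists_opposite
  obtain ⟨a, ha⟩ := (chevRel C F).isMon_nsPerm n
  refine ⟨(n : ↥(D.group F)), by rw [monomialSubgroup_eq C F]; exact Subgroup.mem_map_of_mem _ n.2, ?_⟩
  rw [posUnipotent_eq C F, negUnipotent_eq C F]
  refine le_antisymm ?_ ?_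
  · rintro _ ⟨_, ⟨u, hu, rfl⟩, rfl⟩
    exact ⟨(n : ↥(D.group F)) * u * (n : ↥(D.group F))⁻¹,
      Rel.IsMon.conj_mem_US _ ha (T := negSet D) (fun r hr h => (hn r).1 h hr) hu, rfl⟩
  · rintro _ ⟨v, hv, rfl⟩
    have hu := Rel.IsMon.conj_mem_US _ ((chevRel C F).isMon_inv ha) (T := posSet D) (fun r hr => ?_) hv
    · exact ⟨_, ⟨_, hu, rfl⟩, by simp [mul_assoc]⟩
    · show half D ≤ _
      by_contra h
      exact hr (((Equiv.apply_symm_apply ((chevRel C F).nsPerm n) r) ▸ (hn (((chevRel C F).nsPerm n).symm r)).2) h)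

theorem parabolic_one (i : ℕ) (hi : i < D.rank) (n : GL D.Idx F)
    (hn : (n : Matrix D.Idx D.Idx F) = D.nMat F (D.simple i) 1) :
    ∃ P : Subgroup (GL D.Idx F), (P : Set (GL D.Idx F)) =
      (D.borelSubgroup F : Set (GL D.Idx F)) ∪
        DoubleCoset.doubleCoset n (D.borelSubgroup F : Set (GL D.Idx F)) (D.borelSubgroup F) := by
  set P := (chevRel C F).bnPair with hP
  let s : P.S := ⟨(chevRel C F).ne (D.simple i) 1, ⟨i, hi⟩, rfl⟩
  have hJ : ({(s : ↥(D.group F))} : Set _) ⊆ P.S := Set.singleton_subset_iff.2 s.2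
  have hn' : n = (D.group F).subtype s.1 := Units.ext (hn.trans (xG_neOf_val C F _ 1).symm)
  refine ⟨(P.parabolic {(s : ↥(D.group F))}).map (D.group F).subtype, ?_⟩
  have hidx : CfsgLib.Lie.BN.idxSet P {(s : ↥(D.group F))} = {s} := by
    ext t; exact ⟨fun h => Subtype.ext h, fun h => congrArg Subtype.val h⟩
  have hw : ∀ w, w ∈ CfsgLib.Lie.BN.wPar P {(s : ↥(D.group F))} ↔ w = 1 ∨ w = CfsgLib.Lie.BN.wgen P s := by
    intro w
    unfold CfsgLib.Lie.BN.wPar
    rw [hidx, Set.image_singleton, ← Subgroup.zpowers_eq_closure, Subgroup.mem_zpowers_iff]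
    have h2 : CfsgLib.Lie.BN.wgen P s ^ (2 : ℤ) = 1 := by
      rw [zpow_two]; exact (CfsgLib.Lie.BN.wgen_genInv P).sq s
    constructor
    · rintro ⟨k, rfl⟩
      rcases Int.even_or_odd' k with ⟨m, rfl | rfl⟩
      · left; rw [zpow_mul, h2, one_zpow]
      · right; rw [zpow_add, zpow_mul, h2, one_zpow, one_mul, zpow_one]
    · rintro (rfl | rfl)
      · exact ⟨0, zpow_zero _⟩
      · exact ⟨1, zpow_one _⟩
  rw [CfsgLib.Lie.BN.parabolic_eq_cellUnion P hJ]
  ext g
  rw [borelSubgroup_eq C F]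
  simp only [Set.mem_union, SetLike.mem_coe, DoubleCoset.mem_doubleCoset]
  constructor
  · rintro ⟨x, ⟨w, hw', hx⟩, rfl⟩
    rcases (hw w).1 hw' with rfl | rfl
    · exact Or.inl ⟨x, (CfsgLib.Lie.BN.mem_cell_one P).1 hx, rfl⟩
    · rw [show CfsgLib.Lie.BN.wgen P s = CfsgLib.Lie.BN.wmk P (CfsgLib.Lie.BN.sgen P s) from rfl,
        CfsgLib.Lie.BN.cell_eq_doubleCoset] at hx
      obtain ⟨b, hb, b', hb', rfl⟩ := DoubleCoset.mem_doubleCoset.1 hx
      exact Or.inr ⟨_, ⟨b, hb, rfl⟩, _, ⟨b', hb', rfl⟩, by rw [hn', map_mul, map_mul]; rfl⟩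
  · rintro (⟨b, hb, rfl⟩ | ⟨_, ⟨b, hb, rfl⟩, _, ⟨b', hb', rfl⟩, rfl⟩)
    · exact ⟨b, ⟨1, one_mem _, (CfsgLib.Lie.BN.mem_cell_one P).2 hb⟩, rfl⟩
    · refine ⟨b * s.1 * b', ⟨_, (hw _).2 (Or.inr rfl), ?_⟩, by rw [hn', map_mul, map_mul]⟩
      rw [show CfsgLib.Lie.BN.wgen P s = CfsgLib.Lie.BN.wmk P (CfsgLib.Lie.BN.sgen P s) from rfl,
        CfsgLib.Lie.BN.cell_eq_doubleCoset]
      exact DoubleCoset.mem_doubleCoset.2 ⟨b, hb, b', hb', rfl⟩

theorem simple_root_complement (i : ℕ) (hi : i < D.rank) :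
    D.rootSubgroup F (D.simple i) ⊔ D.rootSubgroup F (D.neg (D.simple i)) ≤
        Subgroup.normalizer (Subgroup.closure {g : GL D.Idx F | ∃ (s : ℕ) (t : F), D.IsPosRoot s ∧ s ≠ D.simple i ∧
          (g : Matrix D.Idx D.Idx F) = D.x F s t} : Set (GL D.Idx F)) ∧
      Subgroup.closure {g : GL D.Idx F | ∃ (s : ℕ) (t : F), D.IsPosRoot s ∧ s ≠ D.simple i ∧
          (g : Matrix D.Idx D.Idx F) = D.x F s t} ⊔ D.rootSubgroup F (D.simple i) = D.posUnipotent F := by
  obtain ⟨R, hR⟩ : ∃ R, R = chevRel C F := ⟨_, rfl⟩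
  have e : Subgroup.closure {g : GL D.Idx F | ∃ (s : ℕ) (t : F), D.IsPosRoot s ∧ s ≠ D.simple i ∧
      (g : Matrix D.Idx D.Idx F) = D.x F s t} = (R.US (R.restSet ⟨i, hi⟩)).map (D.group F).subtype := by
    subst hR
    rw [map_US C F ((chevRel C F).restSet ⟨i, hi⟩) (fun s => D.IsPosRoot s ∧ s ≠ D.simple i)]
    · simp only [and_assoc]
    · intro s
      constructor
      · rintro ⟨hp, hne⟩
        exact ⟨hp.1, (C.pos_iff hp.1).1 hp, fun e => hne (congrArg Fin.val e)⟩
      · rintro ⟨hs, hp, hne⟩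
        exact ⟨(C.pos_iff hs).2 hp, fun e => hne (Fin.ext e)⟩
  rw [e, rootSubgroup_eq C F (C.simple_lt hi), rootSubgroup_eq C F (C.neg_lt (C.simple_lt hi)),
    posUnipotent_eq C F, ← hR, ← Subgroup.map_sup, ← Subgroup.map_sup]
  refine ⟨le_trans (Subgroup.map_mono (sup_le ?_ ?_)) (Subgroup.le_normalizer_map _), congrArg _ ?_⟩
  · exact R.US_le fun r hr t => by rw [Set.mem_singleton_iff.1 hr]; exact (R.xe_simple_mem_normalizer ⟨i, hi⟩ t).1
  · exact R.US_le fun r hr t => by rw [Set.mem_singleton_iff.1 hr]; exact (R.xe_simple_mem_normalizer ⟨i, hi⟩ t).2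
  · refine le_antisymm (sup_le (R.US_mono (R.restSet_subset _)) (R.US_le fun r hr t => ?_)) fun g hg => ?_
    · rw [Set.mem_singleton_iff.1 hr]
      exact R.xe_mem_US (S := posSet D) (r := R.sroot ⟨i, hi⟩) (R.sroot_pos ⟨i, hi⟩) t
    · obtain ⟨v, hv, t, rfl⟩ := R.exists_UP_split ⟨i, hi⟩ hg
      exact Subgroup.mul_mem_sup hv (R.xe_mem_US (r := R.sroot ⟨i, hi⟩) (Set.mem_singleton _) t)

end CfsgLib.Lie.Chev
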