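/-
The order of the torus from a diagonalisation of the Cartan matrix.
-/
import Cfsg.Agent.Lib.Lie.Rel.Poincare
import Cfsg.Agent.Lib.Lie.Rel.Facts

set_option autoImplicit false

namespace CfsgLib.Lie.Chev

open Cfsg.Lie (ChevalleyDatum)

section Torsion

variable {A : Type*} [CommGroup A] {l : ℕ}

/-- the action of an integer matrix on tuples -/
def powMat (A : Type*) [CommGroup A] {l : ℕ} (M : Matrix (Fin l) (Fin l) ℤ) : (Fin l → A) →* (Fin l → A) where
  toFun c k := ∏ i, c i ^ M i k
  map_one' := by funext k; simp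
  map_mul' a b := by funext k; simp [mul_zpow, Finset.prod_mul_distrib]

theorem powMat_apply (M : Matrix (Fin l) (Fin l) ℤ) (c : Fin l → A) (k : Fin l) :
    powMat A M c k = ∏ i, c i ^ M i k := rfl

theorem zpow_finset_sum {ι : Type*} (a : A) (s : Finset ι) (f : ι → ℤ) :
    a ^ (∑ i ∈ s, f i) = ∏ i ∈ s, a ^ f i := by
  classical
  induction s using Finset.induction_on with
  | empty => simp
  | insert i s hi ih => rw [Finset.sum_insert hi, Finset.prod_insert hi, zpow_add, ih]

theorem powMat_mul (M N : Matrix (Fin l) (Fin l) ℤ) (c : Fin l → A) :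
    powMat A (M * N) c = powMat A N (powMat A M c) := by
  funext k
  simp only [powMat_apply, Matrix.mul_apply, zpow_finset_sum, ← Finset.prod_zpow, ← zpow_mul]
  rw [Finset.prod_comm]

theorem powMat_one (c : Fin l → A) : powMat A (1 : Matrix (Fin l) (Fin l) ℤ) c = c := by
  funext k
  rw [powMat_apply, Finset.prod_eq_single k]
  · simp
  · intro i _ hi; rw [Matrix.one_apply_ne hi, zpow_zero]
  · simp

theorem card_ker_powMat_congr {M U U' V V' : Matrix (Fin l) (Fin l) ℤ} (hU : U * U' = 1) (hU' : U' * U = 1)
    (hV : V * V' = 1) :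
    Nat.card (powMat A M).ker = Nat.card (powMat A (U * M * V)).ker := by
  refine Nat.card_congr
    { toFun := fun c => ⟨powMat A U' c, ?_⟩
      invFun := fun c => ⟨powMat A U c, ?_⟩
      left_inv := fun c => Subtype.ext (by
        show powMat A U (powMat A U' c) = c
        rw [← powMat_mul, hU', powMat_one])
      right_inv := fun c => Subtype.ext (by
        show powMat A U' (powMat A U c) = c
        rw [← powMat_mul, hU, powMat_one]) }
  · rw [MonoidHom.mem_ker, ← powMat_mul, ← mul_assoc, ← mul_assoc, hU', one_mul, powMat_mul,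
      MonoidHom.mem_ker.1 c.2, map_one]
  · have h := MonoidHom.mem_ker.1 c.2
    rw [powMat_mul, powMat_mul] at h
    rw [MonoidHom.mem_ker]
    have h2 := congrArg (powMat A V') h
    rwa [← powMat_mul, hV, powMat_one, map_one] at h2

theorem card_ker_diagonal [IsCyclic A] [Finite A] (d : Fin l → ℕ) :
    Nat.card (powMat A (Matrix.diagonal fun i => (d i : ℤ))).ker = ∏ i, Nat.gcd (Nat.card A) (d i) := by
  have h : ∀ c : Fin l → A, c ∈ (powMat A (Matrix.diagonal fun i => (d i : ℤ))).ker ↔
      ∀ i, c i ∈ (powMonoidHom (d i) : A →* A).ker := by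
    intro c
    rw [MonoidHom.mem_ker, funext_iff]
    refine forall_congr' fun k => ?_
    rw [powMat_apply, Pi.one_apply, MonoidHom.mem_ker, powMonoidHom_apply, Finset.prod_eq_single k]
    · rw [Matrix.diagonal_apply_eq, zpow_natCast]
    · intro i _ hi; rw [Matrix.diagonal_apply_ne _ hi, zpow_zero]
    · simp
  rw [Nat.card_congr ((Equiv.subtypeEquivRight h).trans Equiv.subtypePiEquivPi), Nat.card_pi]
  exact Finset.prod_congr rfl fun i _ => IsCyclic.card_powMonoidHom_ker A (d i)

end Torsion

/-- certificate diagonalising a matrix -/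
def chkSmith (l : ℕ) (M U U' V V' : List (List ℤ)) (d : List ℕ) : Bool :=
  let m : List (List ℤ) → Matrix (Fin l) (Fin l) ℤ := fun L => Matrix.of fun i j => (L.getD i []).getD j 0
  decide (m U * m U' = 1) && decide (m U' * m U = 1) && decide (m V * m V' = 1) &&
    decide (m U * m M * m V = Matrix.diagonal fun i : Fin l => (d.getD i 0 : ℤ))

variable {D : ChevalleyDatum} {X : Aux} (C : Cert D X) (F : Type*) [Field F]
include C

theorem torusHom_mat (c : Fin D.rank → Fˣ) :
    (chevRel C F).mat ((chevRel C F).torusHom c) =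
      Matrix.diagonal (Sum.elim (fun _ => (1 : F)) fun s : Fin D.nroots => ((∏ i : Fin D.rank, c i ^ D.cartan i s : Fˣ) : F)) := by
  classical
  let P : Submonoid (Fin D.rank → Fˣ) :=
    { carrier := {c | (chevRel C F).mat ((chevRel C F).torusHom c) =
        Matrix.diagonal (Sum.elim (fun _ => (1 : F)) fun s : Fin D.nroots => ((∏ i : Fin D.rank, c i ^ D.cartan i s : Fˣ) : F))}
      mul_mem' := fun {a b} ha hb => by
        show (chevRel C F).mat ((chevRel C F).torusHom (a * b)) = _
        rw [map_mul, Subgroup.coe_mul, (chevRel C F).mat_mul, show _ = _ from ha, show _ = _ from hb,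
          Matrix.diagonal_mul_diagonal]
        congr 1; funext x
        cases x with
        | inl i => simp
        | inr s => simp [mul_zpow, Finset.prod_mul_distrib]
      one_mem' := by
        show (chevRel C F).mat ((chevRel C F).torusHom 1) = _
        rw [map_one, OneMemClass.coe_one, (chevRel C F).mat_one, ← Matrix.diagonal_one]
        congr 1; funext x; cases x <;> simp }
  have hgen : ∀ i u, Pi.mulSingle i u ∈ P := by
    intro i u
    show (chevRel C F).mat ((chevRel C F).torusHom _) = _
    rw [(chevRel C F).torusHom_single, show (((chevRel C F).heHom i u : (chevRel C F).HS) : ↥(D.group F)) =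
      (chevRel C F).he (D.simple i) (u : F) from rfl, (chevRel C F).mat_he, C.hMat_simple i.2 u.ne_zero]
    congr 1; funext x
    cases x with
    | inl j => simp
    | inr s =>
      simp only [Sum.elim_inr]
      rw [Finset.prod_eq_single i]
      · rw [Pi.mulSingle_eq_same, Units.val_zpow_eq_zpow_val]
      · intro j _ hj; rw [Pi.mulSingle_eq_of_ne hj, one_zpow]
      · simp
  have : c ∈ P := by
    rw [← Finset.univ_prod_mulSingle c]
    exact Submonoid.prod_mem _ fun i _ => hgen i (c i)
  exact this

theorem mem_torusHom_ker (c : Fin D.rank → Fˣ) :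
    c ∈ (chevRel C F).torusHom.ker ↔
      c ∈ (powMat Fˣ (Matrix.of fun i k : Fin D.rank => ((cmat D).getD i []).getD k 0)).ker := by
  have hM : ∀ i k : Fin D.rank, ((cmat D).getD (i : ℕ) []).getD (k : ℕ) 0 = D.cartan i (D.simple k) := fun i k => by
    simp [cmat, List.getD_eq_getElem?_getD, i.2, k.2]
  rw [MonoidHom.mem_ker, MonoidHom.mem_ker, funext_iff]
  simp only [powMat_apply, Matrix.of_apply, hM, Pi.one_apply]
  constructor
  · intro h k
    have h1 := torusHom_mat C F c
    rw [h, OneMemClass.coe_one, (chevRel C F).mat_one] at h1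
    have h2 := congrFun (congrFun h1 (Sum.inr ⟨D.simple k, C.simple_lt k.2⟩)) (Sum.inr ⟨D.simple k, C.simple_lt k.2⟩)
    rw [Matrix.one_apply_eq, Matrix.diagonal_apply_eq] at h2
    exact Units.ext h2.symm
  · intro h
    refine Subtype.ext (chevRel_injective C F ((chevRel C F).θ_eq_of_mat ?_))
    rw [torusHom_mat C F c, OneMemClass.coe_one, (chevRel C F).mat_one, ← Matrix.diagonal_one]
    congr 1; funext x
    cases x with
    | inl i => rfl
    | inr s =>
      have : ∏ i, c i ^ D.cartan i s = 1 := by
        simp only [C.cartan_eq s.2 (Fin.is_lt _), Finset.sum_range, zpow_finset_sum]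
        rw [Finset.prod_comm]
        refine Finset.prod_eq_one fun k _ => ?_
        simp only [mul_comm (X.coef k (s : ℕ)), zpow_mul]
        rw [Finset.prod_zpow, h k, one_zpow]
      simp only [Sum.elim_inr]
      rw [this, Units.val_one]

theorem card_HS_mul [Fintype F] {M U U' V V' : List (List ℤ)} {d : List ℕ} (hM : cmat D = M)
    (hchk : chkSmith D.rank M U U' V V' d = true) :
    (∏ i : Fin D.rank, Nat.gcd (Fintype.card F - 1) (d.getD i 0)) * Nat.card ↥(chevRel C F).HS =
      (Fintype.card F - 1) ^ D.rank := by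
  classical
  simp only [chkSmith, Bool.and_eq_true, decide_eq_true_iff] at hchk
  obtain ⟨⟨⟨h1, h2⟩, h3⟩, h4⟩ := hchk
  have hu : Nat.card Fˣ = Fintype.card F - 1 := by rw [Nat.card_units, Nat.card_eq_fintype_card]
  have hk : Nat.card (chevRel C F).torusHom.ker = ∏ i : Fin D.rank, Nat.gcd (Fintype.card F - 1) (d.getD i 0) := by
    rw [Nat.card_congr (Equiv.subtypeEquivRight (mem_torusHom_ker C F)), hM, card_ker_powMat_congr h1 h2 h3, h4,
      card_ker_diagonal, hu]
  have := Subgroup.card_eq_card_quotient_mul_card_subgroup (chevRel C F).torusHom.ker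
  rw [Nat.card_congr (QuotientGroup.quotientKerEquivOfSurjective _ (chevRel C F).torusHom_surjective).toEquiv,
    Nat.card_fun, Nat.card_eq_fintype_card (α := Fin D.rank), Fintype.card_fin, hu, hk] at this
  rw [this, mul_comm]

end CfsgLib.Lie.Chev
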