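/-
Torus orders and length polynomials of the seven tabulated data.
-/
import Cfsg.Agent.Lib.Lie.Rel.Torus
import Cfsg.Agent.Lib.Lie.Rel.PolyCheck
import Cfsg.Agent.Lib.Lie.Chev.All

set_option autoImplicit false

namespace CfsgLib.Lie.Chev

open Cfsg.Lie

/-- Cartan matrix of type G2 -/
def cartG2 : List (List ℤ) := [[2, -3], [-1, 2]]

theorem cmat_G2 : cmat chevG2 = cartG2 := by decide +kernel

theorem smithG2 : chkSmith chevG2.rank cartG2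
    [[0, -1], [1, 2]]
    [[2, 1], [-1, 0]]
    [[1, 2], [0, 1]]
    [[1, -2], [0, 1]]
    [1, 1] = true := by decide +kernel

theorem polyG2 : chkPoly cartG2 chevG2.rank (half chevG2) [2, 6] = true := by decide +kernel

/-- Cartan matrix of type B2 -/
def cartB2 : List (List ℤ) := [[2, -2], [-1, 2]]

theorem cmat_B2 : cmat chevB2 = cartB2 := by decide +kernel

theorem smithB2 : chkSmith chevB2.rank cartB2
    [[0, -1], [1, 2]]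
    [[2, 1], [-1, 0]]
    [[1, 2], [0, 1]]
    [[1, -2], [0, 1]]
    [1, 2] = true := by decide +kernel

theorem polyB2 : chkPoly cartB2 chevB2.rank (half chevB2) [2, 4] = true := by decide +kernel

/-- Cartan matrix of type D4 -/
def cartD4 : List (List ℤ) := [[2, -1, 0, 0], [-1, 2, -1, -1], [0, -1, 2, 0], [0, -1, 0, 2]]

theorem cmat_D4 : cmat chevD4 = cartD4 := by decide +kernel

theorem smithD4 : chkSmith chevD4.rank cartD4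
    [[-1, 0, 0, 0], [-2, -1, 0, 0], [-3, -2, -1, 0], [2, 2, 1, 1]]
    [[-1, 0, 0, 0], [2, -1, 0, 0], [-1, 2, -1, 0], [-1, 0, 1, 1]]
    [[0, 0, 0, 1], [1, 0, 0, 2], [0, 1, -1, 1], [0, 0, 1, 2]]
    [[-2, 1, 0, 0], [-3, 0, 1, 1], [-2, 0, 0, 1], [1, 0, 0, 0]]
    [1, 1, 2, 2] = true := by decide +kernel

theorem polyD4 : chkPoly cartD4 chevD4.rank (half chevD4) [2, 4, 4, 6] = true := by decide +kernel

/-- Cartan matrix of type F4 -/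
def cartF4 : List (List ℤ) := [[2, -1, 0, 0], [-1, 2, -2, 0], [0, -1, 2, -1], [0, 0, -1, 2]]

theorem cmat_F4 : cmat chevF4 = cartF4 := by decide +kernel

theorem smithF4 : chkSmith chevF4.rank cartF4
    [[-1, 0, 0, 0], [1, 0, -1, 0], [-2, -1, 0, 0], [-2, -2, -2, -1]]
    [[-1, 0, 0, 0], [2, 0, -1, 0], [-1, -1, 0, 0], [0, 2, 2, -1]]
    [[0, 0, 1, -2], [1, 0, 2, -4], [0, 0, 2, -3], [0, 1, 2, -2]]
    [[-2, 1, 0, 0], [2, 0, -2, 1], [-3, 0, 2, 0], [-2, 0, 1, 0]]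
    [1, 1, 1, 1] = true := by decide +kernel

theorem polyF4 : chkPoly cartF4 chevF4.rank (half chevF4) [2, 6, 8, 12] = true := by decide +kernel

/-- Cartan matrix of type E6 -/
def cartE6 : List (List ℤ) := [[2, 0, -1, 0, 0, 0], [0, 2, 0, -1, 0, 0], [-1, 0, 2, -1, 0, 0], [0, -1, -1, 2, -1, 0], [0, 0, 0, -1, 2, -1], [0, 0, 0, 0, -1, 2]]

theorem cmat_E6 : cmat chevE6 = cartE6 := by decide +kernel

theorem smithE6 : chkSmith chevE6.rank cartE6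
    [[-1, 0, 0, 0, 0, 0], [0, -1, 0, 0, 0, 0], [1, -2, 0, -1, 0, 0], [2, -3, 0, -2, -1, 0], [-2, 1, -1, 0, 0, 0], [-5, 0, -4, -3, -2, -1]]
    [[-1, 0, 0, 0, 0, 0], [0, -1, 0, 0, 0, 0], [2, -1, 0, 0, -1, 0], [-1, 2, -1, 0, 0, 0], [0, -1, 2, -1, 0, 0], [0, 0, -1, 2, 4, -1]]
    [[0, 0, 0, 0, 1, -2], [0, 0, 0, 0, 2, -3], [1, 0, 0, 0, 2, -4], [0, 1, 0, 0, 4, -6], [0, 0, 1, 0, 4, -5], [0, 0, 0, 1, 4, -4]]
    [[-2, 0, 1, 0, 0, 0], [0, -2, 0, 1, 0, 0], [2, -3, 0, 0, 1, 0], [4, -4, 0, 0, 0, 1], [-3, 2, 0, 0, 0, 0], [-2, 1, 0, 0, 0, 0]]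
    [1, 1, 1, 1, 1, 3] = true := by decide +kernel

theorem polyE6 : chkPoly cartE6 chevE6.rank (half chevE6) [2, 5, 6, 8, 9, 12] = true := by decide +kernel

/-- Cartan matrix of type E7 -/
def cartE7 : List (List ℤ) := [[2, 0, -1, 0, 0, 0, 0], [0, 2, 0, -1, 0, 0, 0], [-1, 0, 2, -1, 0, 0, 0], [0, -1, -1, 2, -1, 0, 0], [0, 0, 0, -1, 2, -1, 0], [0, 0, 0, 0, -1, 2, -1], [0, 0, 0, 0, 0, -1, 2]]

theorem cmat_E7 : cmat chevE7 = cartE7 := by decide +kernel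

theorem smithE7 : chkSmith chevE7.rank cartE7
    [[-1, 0, 0, 0, 0, 0, 0], [0, -1, 0, 0, 0, 0, 0], [1, -2, 0, -1, 0, 0, 0], [2, -3, 0, -2, -1, 0, 0], [3, -4, 0, -3, -2, -1, 0], [-2, 1, -1, 0, 0, 0, 0], [-4, -1, -4, -4, -3, -2, -1]]
    [[-1, 0, 0, 0, 0, 0, 0], [0, -1, 0, 0, 0, 0, 0], [2, -1, 0, 0, 0, -1, 0], [-1, 2, -1, 0, 0, 0, 0], [0, -1, 2, -1, 0, 0, 0], [0, 0, -1, 2, -1, 0, 0], [0, 0, 0, -1, 2, 4, -1]]
    [[0, 0, 0, 0, 0, 1, -2], [0, 0, 0, 0, 0, 2, -3], [1, 0, 0, 0, 0, 2, -4], [0, 1, 0, 0, 0, 4, -6], [0, 0, 1, 0, 0, 4, -5], [0, 0, 0, 1, 0, 4, -4], [0, 0, 0, 0, 1, 4, -3]]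
    [[-2, 0, 1, 0, 0, 0, 0], [0, -2, 0, 1, 0, 0, 0], [2, -3, 0, 0, 1, 0, 0], [4, -4, 0, 0, 0, 1, 0], [6, -5, 0, 0, 0, 0, 1], [-3, 2, 0, 0, 0, 0, 0], [-2, 1, 0, 0, 0, 0, 0]]
    [1, 1, 1, 1, 1, 1, 2] = true := by decide +kernel

theorem polyE7 : chkPoly cartE7 chevE7.rank (half chevE7) [2, 6, 8, 10, 12, 14, 18] = true := by decide +kernel

/-- Cartan matrix of type E8 -/
def cartE8 : List (List ℤ) := [[2, 0, -1, 0, 0, 0, 0, 0], [0, 2, 0, -1, 0, 0, 0, 0], [-1, 0, 2, -1, 0, 0, 0, 0], [0, -1, -1, 2, -1, 0, 0, 0], [0, 0, 0, -1, 2, -1, 0, 0], [0, 0, 0, 0, -1, 2, -1, 0], [0, 0, 0, 0, 0, -1, 2, -1], [0, 0, 0, 0, 0, 0, -1, 2]]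

theorem cmat_E8 : cmat chevE8 = cartE8 := by decide +kernel

theorem smithE8 : chkSmith chevE8.rank cartE8
    [[-1, 0, 0, 0, 0, 0, 0, 0], [0, -1, 0, 0, 0, 0, 0, 0], [1, -2, 0, -1, 0, 0, 0, 0], [2, -3, 0, -2, -1, 0, 0, 0], [3, -4, 0, -3, -2, -1, 0, 0], [4, -5, 0, -4, -3, -2, -1, 0], [-2, 1, -1, 0, 0, 0, 0, 0], [-3, -2, -4, -5, -4, -3, -2, -1]]
    [[-1, 0, 0, 0, 0, 0, 0, 0], [0, -1, 0, 0, 0, 0, 0, 0], [2, -1, 0, 0, 0, 0, -1, 0], [-1, 2, -1, 0, 0, 0, 0, 0], [0, -1, 2, -1, 0, 0, 0, 0], [0, 0, -1, 2, -1, 0, 0, 0], [0, 0, 0, -1, 2, -1, 0, 0], [0, 0, 0, 0, -1, 2, 4, -1]]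
    [[0, 0, 0, 0, 0, 0, 1, -2], [0, 0, 0, 0, 0, 0, 2, -3], [1, 0, 0, 0, 0, 0, 2, -4], [0, 1, 0, 0, 0, 0, 4, -6], [0, 0, 1, 0, 0, 0, 4, -5], [0, 0, 0, 1, 0, 0, 4, -4], [0, 0, 0, 0, 1, 0, 4, -3], [0, 0, 0, 0, 0, 1, 4, -2]]
    [[-2, 0, 1, 0, 0, 0, 0, 0], [0, -2, 0, 1, 0, 0, 0, 0], [2, -3, 0, 0, 1, 0, 0, 0], [4, -4, 0, 0, 0, 1, 0, 0], [6, -5, 0, 0, 0, 0, 1, 0], [8, -6, 0, 0, 0, 0, 0, 1], [-3, 2, 0, 0, 0, 0, 0, 0], [-2, 1, 0, 0, 0, 0, 0, 0]]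
    [1, 1, 1, 1, 1, 1, 1, 1] = true := by decide +kernel

theorem polyE8 : chkPoly cartE8 chevE8.rank (half chevE8) [2, 8, 12, 14, 18, 20, 24, 30] = true := by decide +kernel

end CfsgLib.Lie.Chev
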