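/-
Orders of the Chevalley groups of the tabulated data.
-/
import Cfsg.Agent.Lib.Lie.Rel.OrderData

set_option autoImplicit false

namespace CfsgLib.Lie.Chev

open Cfsg.Lie (ChevalleyDatum)

variable {D : ChevalleyDatum} {X : Aux} (C : Cert D X) (F : Type*) [Field F] [Fintype F]
include C

theorem card_diagonal {M U U' V V' : List (List ℤ)} {d : List ℕ} (hM : cmat D = M)
    (hchk : chkSmith D.rank M U U' V V' d = true) {q : ℕ} (hq : Fintype.card F = q) :
    (∏ i : Fin D.rank, Nat.gcd (q - 1) (d.getD i 0)) * Nat.card ↥(D.diagonalSubgroup F) = (q - 1) ^ D.rank := by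
  subst hq
  rw [diagonalSubgroup_eq C F, Subgroup.card_map_of_injective Subtype.val_injective]
  exact card_HS_mul C F hM hchk

theorem card_group {M U U' V V' : List (List ℤ)} {d degs : List ℕ} (hM : cmat D = M)
    (hchk : chkSmith D.rank M U U' V V' d = true) (hp : chkPoly M D.rank (half D) degs = true)
    {q : ℕ} (hq : Fintype.card F = q) :
    (∏ i : Fin D.rank, Nat.gcd (q - 1) (d.getD i 0)) * Nat.card ↥(D.group F) =
      q ^ (D.nroots / 2) * (degs.map fun k => q ^ k - 1).prod := by
  have hq1 : 1 < q := hq ▸ Fintype.one_lt_card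
  have hfin := (chevRel C F).rootPerm.finite
  let _ : Fintype (chevRel C F).WQ := Fintype.ofFinite _
  have h1 := (chevRel C F).card_eq
  rw [(chevRel C F).card_BS, Nat.card_eq_fintype_card (α := F), hq] at h1
  have hU : Nat.card ↥(chevRel C F).UP = q ^ (D.nroots / 2) := by
    rw [← hq, ← card_posUnipotent C F, posUnipotent_eq C F, Subgroup.card_map_of_injective Subtype.val_injective]
  have h2 := card_HS_mul C F hM hchk
  rw [hq] at h2
  have h3 := length_poly_identity (chevRel C F) hM hp (q : ℤ)
  have hcast : (((degs.map fun k => q ^ k - 1).prod : ℕ) : ℤ) = (degs.map fun k : ℕ => (q : ℤ) ^ k - 1).prod := by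
    rw [Nat.cast_list_prod, List.map_map]
    refine congrArg _ (List.map_congr_left fun k _ => ?_)
    rw [Function.comp_apply, Nat.cast_sub (Nat.one_le_pow _ _ (by omega))]
    push_cast; ring
  have h4 : ((q : ℤ) - 1) = (((q - 1 : ℕ)) : ℤ) := by rw [Nat.cast_sub (by omega)]; simp
  rw [← hcast, h4] at h3
  have h5 : (q - 1) ^ D.rank * ∑ w, q ^ Nat.card (invSet ((chevRel C F).qact w)) =
      (degs.map fun k => q ^ k - 1).prod := by exact_mod_cast h3
  rw [h1, hU, ← h5, ← h2]
  ring

end CfsgLib.Lie.Chev
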