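/-
U is a Sylow subgroup of the Chevalley group in the defining characteristic.
-/
import Cfsg.Agent.Lib.Lie.Rel.Order

set_option autoImplicit false

namespace CfsgLib.Lie.Chev

open Cfsg.Lie (ChevalleyDatum)

variable {D : ChevalleyDatum} {X : Aux} (C : Cert D X) (F : Type*) [Field F] [Fintype F]
include C

theorem pos_unipotent_sylow (p : ℕ) [Fact p.Prime] [CharP F p] :
    ∃ P : Sylow p ↥(D.group F), (P : Subgroup ↥(D.group F)) = (D.posUnipotent F).subgroupOf (D.group F) := by
  classical
  obtain ⟨n, hp, hn⟩ := FiniteField.card F p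
  have hfin := (chevRel C F).rootPerm.finite
  let _ : Fintype (chevRel C F).WQ := Fintype.ofFinite _
  have : Finite ↥(D.group F) := (chevRel C F).Finite_of_field
  have he : (D.posUnipotent F).subgroupOf (D.group F) = (chevRel C F).UP := by
    rw [posUnipotent_eq C F, subgroupOf_map C F]
  rw [he]
  have hU : Nat.card ↥(chevRel C F).UP = p ^ ((n : ℕ) * (D.nroots / 2)) := by
    rw [← Nat.card_congr (UPEquiv C F), Nat.card_fun, Nat.card_eq_fintype_card, Nat.card_eq_fintype_card,
      Fintype.card_fin, hn, ← pow_mul]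
    rfl
  have hidx : (chevRel C F).UP.index = Nat.card ↥(chevRel C F).HS *
      ∑ w, Nat.card F ^ Nat.card (invSet ((chevRel C F).qact w)) := by
    have h1 := (chevRel C F).card_eq
    rw [(chevRel C F).card_BS, ← (chevRel C F).UP.card_mul_index, mul_assoc] at h1
    exact Nat.eq_of_mul_eq_mul_left Nat.card_pos h1
  refine ⟨(IsPGroup.of_card hU).toSylow ?_, IsPGroup.toSylow_coe _ _⟩
  rw [hidx, hp.dvd_mul, not_or]
  have hpq : p ∣ Fintype.card F := hn ▸ dvd_pow_self p n.ne_zero
  refine ⟨fun h => ?_, ?_⟩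
  · have h2 := h.trans (Subgroup.card_dvd_of_surjective _ (chevRel C F).torusHom_surjective)
    rw [Nat.card_fun, Nat.card_units, Nat.card_eq_fintype_card (α := F)] at h2
    have h3 : p ∣ Fintype.card F - 1 := hp.dvd_of_dvd_pow h2
    have h4 := Nat.dvd_sub hpq h3
    rw [Nat.sub_sub_self Fintype.card_pos] at h4
    exact hp.not_dvd_one h4
  · rw [Nat.card_eq_fintype_card (α := F), ← Finset.add_sum_erase _ _ (Finset.mem_univ (1 : (chevRel C F).WQ)),
      ← (chevRel C F).invN_eq, (chevRel C F).invN_one, pow_zero]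
    have hrest : p ∣ ∑ w ∈ Finset.univ.erase (1 : (chevRel C F).WQ),
        Fintype.card F ^ Nat.card (invSet ((chevRel C F).qact w)) := by
      refine Finset.dvd_sum fun w hw => ?_
      refine dvd_pow hpq fun h0 => ?_
      rw [← (chevRel C F).invN_eq] at h0
      obtain ⟨k, hk⟩ := (chevRel C F).exists_descent (Finset.mem_erase.1 hw).1
      have := (chevRel C F).invN_mul_simple hk
      omega
    exact fun h => hp.not_dvd_one ((Nat.dvd_add_left hrest).1 h)

end CfsgLib.Lie.Chev
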