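/-
The Steinberg character of a Chevalley group: values on `B`, degree, irreducibility, vanishing, unipotent count.
-/
import Cfsg.Prelude.Def_ParabolicCharacters
import Cfsg.Prelude.Def_Characters
import Cfsg.Agent.Lib.Lie.Rel.StChar
import Cfsg.Agent.Lib.Lie.Rel.ParabolicFacts
import Cfsg.Agent.Lib.Lie.Rel.Sylow
import Cfsg.Agent.Lib.Char.Perm
import Cfsg.Agent.Lib.Char.Virtual
import Cfsg.Agent.Lib.Char.DefectZero
import Cfsg.Agent.Lib.Char.Brauer

set_option autoImplicit false

namespace CfsgLib.Lie.Chev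

open Cfsg.Lie (ChevalleyDatum)

universe u

variable {D : ChevalleyDatum} {X : Aux} (C : Cert D X) (F : Type u) [Field F]
include C

theorem parabolicIn_eq (J : Finset ℕ) : D.parabolicIn F J = (chevRel C F).PJ (J : Set ℕ) := by
  rw [ChevalleyDatum.parabolicIn, parabolicSubgroup_eq C F, subgroupOf_map C F]

theorem steinberg_eq [Fintype F] (g : ↥(D.group F)) :
    D.steinbergCharacter F g = ((chevRel C F).stK (Finset.range D.rank) g : ℂ) := by
  have : Finite ↥(D.group F) := (chevRel C F).Finite_of_field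
  rw [ChevalleyDatum.steinbergCharacter, Rel.stK, Int.cast_sum]
  refine Finset.sum_congr rfl fun J _ => ?_
  rw [(chevRel C F).stFix_univ (fun i hi => Finset.mem_coe.2 (Finset.mem_range.2 hi)), parabolicIn_eq C F]
  push_cast
  rfl

theorem steinberg_one [Fintype F] :
    D.steinbergCharacter F 1 = (Fintype.card F : ℂ) ^ (D.nroots / 2) := by
  rw [steinberg_eq C F, (chevRel C F).stK_one (fun _ => Finset.mem_range.1),
    (chevRel C F).nSub_univ (fun i hi => Finset.mem_coe.2 (Finset.mem_range.2 hi)), Nat.card_eq_fintype_card]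
  push_cast
  rfl

theorem isIrr_steinberg [Fintype F] :
    Cfsg.IsIrrCharacter ↥(D.group F) (D.steinbergCharacter F) := by
  have : Finite ↥(D.group F) := (chevRel C F).Finite_of_field
  have := Fintype.ofFinite ↥(D.group F)
  refine CfsgLib.Char.IsGen.isIrr_of_norm_one ?_ ?_ ?_
  · have h : D.steinbergCharacter F = ∑ J ∈ (Finset.range D.rank).powerset,
        (((-1 : ℤ) ^ J.card : ℤ) : ℂ) • CfsgLib.Char.permChar ↥(D.group F) (↥(D.group F) ⧸ D.parabolicIn F J) := by
      funext g
      simp only [ChevalleyDatum.steinbergCharacter, Finset.sum_apply, Pi.smul_apply, smul_eq_mul]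
      exact Finset.sum_congr rfl fun J _ => by push_cast; rfl
    rw [h]
    exact CfsgLib.Char.IsGen.sum _ _ fun J _ => CfsgLib.Char.IsGen.intCast_smul _
      (CfsgLib.Char.IsGen.of_isCharacter CfsgLib.Char.isCharacter_permChar)
  · have h := (chevRel C F).sum_stK_sq (K := Finset.range D.rank) (fun _ => Finset.mem_range)
    simp only [Cfsg.classInner, steinberg_eq C F, map_intCast, ← Int.cast_mul, ← Int.cast_sum, h, Int.cast_natCast]
    exact inv_mul_cancel₀ (Nat.cast_ne_zero.2 Nat.card_pos.ne')
  · rw [steinberg_one C F, ← Nat.cast_pow, Complex.natCast_re]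
    exact Nat.cast_pos.2 (pow_pos Fintype.card_pos _)

theorem steinberg_borel [Fintype F] (b : ↥((D.borelSubgroup F).subgroupOf (D.group F))) :
    D.steinbergCharacter F ((((D.borelSubgroup F).subgroupOf (D.group F)).subtype) b) =
      Cfsg.fixedPointCharacter (((D.diagonalSubgroup F).subgroupOf (D.group F)).subgroupOf
        ((D.borelSubgroup F).subgroupOf (D.group F))) b := by
  have hH : (D.diagonalSubgroup F).subgroupOf (D.group F) = (chevRel C F).HS := by
    rw [diagonalSubgroup_eq C F, subgroupOf_map C F]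
  revert b
  rw [borel_subgroupOf C F, hH]
  intro b
  rw [Cfsg.fixedPointCharacter, Subgroup.coe_subtype, steinberg_eq C F,
    (chevRel C F).stK_BS_univ (fun _ => Finset.mem_range) b, Int.cast_natCast]

theorem exists_sylow_UP [Fintype F] (p : ℕ) [Fact p.Prime] [CharP F p] :
    ∃ P : Sylow p ↥(D.group F), (P : Subgroup ↥(D.group F)) = (chevRel C F).UP := by
  obtain ⟨P, hP⟩ := pos_unipotent_sylow C F p
  exact ⟨P, by rw [hP, posUnipotent_eq C F, subgroupOf_map C F]⟩

theorem card_unipotent [Fintype F] (hD : Desc D X) (p : ℕ) [Fact p.Prime] [CharP F p] :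
    Nat.card {g : ↥(D.group F) // ∃ k : ℕ, orderOf g = p ^ k} =
      Fintype.card F ^ (2 * (D.nroots / 2)) := by
  obtain ⟨P, hP⟩ := exists_sylow_UP C F p
  have hK : ∀ i < D.rank, i ∈ ((Finset.range D.rank : Finset ℕ) : Set ℕ) :=
    fun i hi => Finset.mem_coe.2 (Finset.mem_range.2 hi)
  have h := (chevRel C F).card_punip hD P hP (Finset.range D.rank) (fun _ => Finset.mem_range.1)
  rw [(chevRel C F).card_UP_eq hK, (chevRel C F).nSub_univ hK, Nat.card_eq_fintype_card (α := F), ← pow_add,
    ← two_mul] at h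
  rw [← h]
  exact Nat.card_congr (Equiv.subtypeEquivRight fun g => by
    rw [(chevRel C F).PJ_eq_top hK]; exact ⟨fun h => ⟨trivial, h⟩, And.right⟩)

theorem steinberg_p_singular [Fintype F] (p : ℕ) [Fact p.Prime] [CharP F p] (g : ↥(D.group F))
    (hg : p ∣ orderOf g) : D.steinbergCharacter F g = 0 := by
  have : Finite ↥(D.group F) := (chevRel C F).Finite_of_field
  have := Fintype.ofFinite ↥(D.group F)
  obtain ⟨d, ρ, hρ, hχ⟩ := isIrr_steinberg C F
  obtain ⟨P, hP⟩ := exists_sylow_UP C F p
  have hK : ∀ i < D.rank, i ∈ ((Finset.range D.rank : Finset ℕ) : Set ℕ) :=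
    fun i hi => Finset.mem_coe.2 (Finset.mem_range.2 hi)
  have hcard : p ^ (Nat.card ↥(D.group F)).factorization p = Fintype.card F ^ (D.nroots / 2) := by
    rw [← P.card_eq_multiplicity, hP, (chevRel C F).card_UP_eq hK, (chevRel C F).nSub_univ hK,
      Nat.card_eq_fintype_card]
  have hd : Module.finrank ℂ (Fin d → ℂ) = Fintype.card F ^ (D.nroots / 2) := by
    have e := congrFun hχ 1
    rw [Representation.char_one, steinberg_one C F] at e
    exact_mod_cast e
  rw [← hχ]
  exact CfsgLib.Char.character_eq_zero_of_defect_zero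
    (fun θ hθ hE => CfsgLib.Brauer.isGeneralizedCharacter_of_elementary hθ hE) ρ Fact.out
    (Nat.ordProj_dvd _ _) (Nat.pow_succ_factorization_not_dvd Nat.card_pos.ne' Fact.out)
    (by rw [hd, hcard]) hg

end CfsgLib.Lie.Chev
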