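/-
Witnesses that each simple root element is a product of conjugable root elements.
-/
import Cfsg.Agent.Lib.Lie.Rel.Graded

set_option autoImplicit false

namespace CfsgLib.Lie.Chev

open Cfsg.Lie (ChevalleyDatum)

/-- height with coefficients from a list -/
def hgtL (D : ChevalleyDatum) (X : Aux) (lam : List ℤ) (r : ℕ) : ℤ := hgt D X (fun k => lam.getD (k : ℕ) 0) r

/-- `r` is neither `p_i` nor `-p_i` and its reflection has positive height -/
def chkTerm (D : ChevalleyDatum) (X : Aux) (i : ℕ) (lam : List ℤ) (r : ℕ) : Bool :=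
  !Nat.beq r (D.simple i) && !Nat.beq r (D.neg (D.simple i)) && decide (1 ≤ hgtL D X lam (X.w i r))

/-- the witness `(a, b, n, lam)` for the simple root `i` -/
def chkWit (D : ChevalleyDatum) (X : Aux) (i : ℕ) : ℕ × ℕ × ℕ × List ℤ → Bool
  | (a, b, n, lam) =>
    Nat.blt a D.nroots && Nat.blt b D.nroots && !Nat.beq b a && !Nat.beq b (D.neg a) &&
    chkTerm D X i lam a && chkTerm D X i lam b && decide (1 ≤ hgtL D X lam (D.neg (D.simple i))) &&
    match (D.commTerms a b)[n]? with
    | none => false
    | some (u, C, k, l) =>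
      Nat.beq u (D.simple i) && decide (C = 1 ∨ C = -1) && (Nat.beq k 1 || Nat.beq l 1) &&
        ((D.commTerms a b).take n ++ (D.commTerms a b).drop (n + 1)).all fun c => chkTerm D X i lam c.1

/-- witnesses for all simple roots -/
def chkWits (D : ChevalleyDatum) (X : Aux) (L : List (ℕ × ℕ × ℕ × List ℤ)) : Bool :=
  Nat.beq L.length D.rank && L.zipIdx.all fun q => chkWit D X q.2 q.1

end CfsgLib.Lie.Chev
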