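/-
Witness data for the seven tabulated data.
-/
import Cfsg.Agent.Lib.Lie.Rel.StData
import Cfsg.Agent.Lib.Lie.Chev.All

set_option autoImplicit false

namespace CfsgLib.Lie.Chev

open Cfsg.Lie

theorem witG2 : chkWits chevG2 auxG2
    [(0, 9, 1, [-6, 8]), (0, 8, 2, [3, -12])] = true := by decide +kernel

theorem witB2 : chkWits chevB2 auxB2
    [(1, 7, 0, [-2, 1]), (0, 6, 1, [2, -6])] = true := by decide +kernel

theorem witD4 : chkWits chevD4 auxD4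
    [(6, 22, 0, [-6, 1, 1, 1]), (1, 23, 0, [3, -6, 3, 3]), (3, 22, 0, [1, 1, -6, 1]),  (2, 22, 0, [1, 1, 1, -6])] = true := by decide +kernel

theorem witF4 : chkWits chevF4 auxF4
    [(7, 44, 0, [-12, 3, 3, 3]), (3, 45, 0, [5, -10, 5, 5]), (0, 39, 1, [8, 8, -24, 8]),  (1, 47, 0, [3, 3, 3, -18])] = true := by decide +kernel

theorem witE6 : chkWits chevE6 auxE6
    [(16, 66, 0, [-14, 1, 1, 1, 1, 1]), (1, 71, 0, [3, -18, 3, 3, 3, 3]), (5, 69, 0, [3, 3, -14, 3, 3, 3]),  (2, 70, 0, [5, 5, 5, -14, 5, 5]), (3, 69, 0, [3, 3, 3, 3, -14, 3]), (4, 68, 0, [1, 1, 1, 1, 1, -14])] = true := by decide +kernel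

theorem witE7 : chkWits chevE7 auxE7
    [(1, 125, 0, [-30, 3, 3, 3, 3, 3, 3]), (7, 122, 0, [3, -24, 3, 3, 3, 3, 3]),  (2, 124, 0, [5, 5, -26, 5, 5, 5, 5]), (3, 123, 0, [7, 7, 7, -22, 7, 7, 7]),  (4, 122, 0, [5, 5, 5, 5, -22, 5, 5]), (5, 121, 0, [3, 3, 3, 3, 3, -22, 3]),  (6, 120, 0, [1, 1, 1, 1, 1, 1, -22])] = true := by decide +kernel

theorem witE8 : chkWits chevE8 auxE8
    [(14, 233, 0, [-42, 3, 3, 3, 3, 3, 3, 3]), (7, 234, 0, [5, -42, 5, 5, 5, 5, 5, 5]),  (6, 234, 0, [7, 7, -40, 7, 7, 7, 7, 7]), (5, 235, 0, [11, 11, 11, -38, 11, 11, 11, 11]),  (4, 236, 0, [9, 9, 9, 9, -42, 9, 9, 9]), (3, 237, 0, [7, 7, 7, 7, 7, -46, 7, 7]),  (2, 238, 0, [5, 5, 5, 5, 5, 5, -50, 5]), (1, 239, 0, [3, 3, 3, 3, 3, 3, 3, -54])] = true := by decide +kernel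

theorem exists_wit {D : ChevalleyDatum}
    (hD : D ∈ [chevG2, chevB2, chevD4, chevF4, chevE6, chevE7, chevE8]) :
    ∃ X, Cert D X ∧ ∃ L, chkWits D X L = true := by
  simp only [List.mem_cons, List.not_mem_nil, or_false] at hD
  rcases hD with rfl | rfl | rfl | rfl | rfl | rfl | rfl
  · exact ⟨_, certG2, _, witG2⟩
  · exact ⟨_, certB2, _, witB2⟩
  · exact ⟨_, certD4, _, witD4⟩
  · exact ⟨_, certF4, _, witF4⟩
  · exact ⟨_, certE6, _, witE6⟩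
  · exact ⟨_, certE7, _, witE7⟩
  · exact ⟨_, certE8, _, witE8⟩

end CfsgLib.Lie.Chev
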