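/-
Field automorphisms of Chevalley groups, as entrywise maps of matrices.
-/
import Cfsg.Prelude.Def_ChevStructure

set_option autoImplicit false

namespace CfsgLib.Lie.Chev

open Cfsg.Lie (ChevalleyDatum)

variable (D : ChevalleyDatum) {F K : Type*} [Field F] [Field K]

theorem xMat_map (f : F →+* K) (r : Fin D.nroots) (t : F) : (D.xMat F r t).map f = D.xMat K r (f t) := by
  ext row col
  simp only [Matrix.map_apply, ChevalleyDatum.xMat, Matrix.of_apply]
  rcases col with i | s <;> rcases row with i' | u <;> dsimp only <;> split_ifs <;>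
    simp [map_list_sum, List.map_map, Function.comp_def]

theorem x_map (f : F →+* K) (r : ℕ) (t : F) : (D.x F r t).map f = D.x K r (f t) := by
  unfold ChevalleyDatum.x
  split_ifs with h
  · exact xMat_map D f _ t
  · ext a b; simp [Matrix.one_apply, apply_ite f]

/-- entrywise image of an invertible matrix -/
def glMap (f : F →+* K) : GL D.Idx F →* GL D.Idx K := Units.map f.mapMatrix.toMonoidHom

theorem glMap_val (f : F →+* K) (g : GL D.Idx F) :
    ((glMap D f g : GL D.Idx K) : Matrix D.Idx D.Idx K) = (g : Matrix D.Idx D.Idx F).map f := rfl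

theorem map_group_le (f : F →+* K) : (D.group F).map (glMap D f) ≤ D.group K := by
  rw [Subgroup.map_le_iff_le_comap]
  refine (Subgroup.closure_le _).2 ?_
  rintro g ⟨r, t, e⟩
  exact Subgroup.subset_closure ⟨r, f t, by rw [glMap_val, e, xMat_map]⟩

/-- the automorphism induced by a field automorphism -/
def fieldAut (f : F ≃+* F) : ↥(D.group F) ≃* ↥(D.group F) where
  toFun g := ⟨glMap D f.toRingHom g, map_group_le D f.toRingHom ⟨g, g.2, rfl⟩⟩
  invFun g := ⟨glMap D f.symm.toRingHom g, map_group_le D f.symm.toRingHom ⟨g, g.2, rfl⟩⟩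
  left_inv g := Subtype.ext (Units.ext (by ext a b; simp [glMap_val]))
  right_inv g := Subtype.ext (Units.ext (by ext a b; simp [glMap_val]))
  map_mul' a b := Subtype.ext (map_mul (glMap D f.toRingHom) (a : GL D.Idx F) b)

theorem fieldAut_spec (f : F ≃+* F) (g : ↥(D.group F)) (r : ℕ) (t : F)
    (e : ((g : GL D.Idx F) : Matrix D.Idx D.Idx F) = D.x F r t) :
    ((fieldAut D f g : GL D.Idx F) : Matrix D.Idx D.Idx F) = D.x F r (f t) := by
  show ((g : GL D.Idx F) : Matrix D.Idx D.Idx F).map f.toRingHom = _
  rw [e, x_map]; rfl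

end CfsgLib.Lie.Chev
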