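/-
Conjugation by `n_i(c)` follows from the commutator formula and the positive-height injectivity.
-/
import Cfsg.Agent.Lib.Lie.Rel.StData

set_option autoImplicit false

namespace CfsgLib.Lie.Chev

open Cfsg.Lie (ChevalleyDatum)

namespace RawRel

variable {D : ChevalleyDatum} {X : Aux} {F : Type*} [Field F] {G : Type*} [Group G] (R : RawRel D X F G)
include R

theorem xe_mem_normalizer_zero (lam : Fin D.rank → ℤ) {s : Fin D.nroots} (hs : hgt D X lam s = 0) (u : F) :
    R.xe s u ∈ Subgroup.normalizer (R.RS (hSet D X lam 1) : Set G) := by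
  refine R.xe_mem_normalizer (fun r hr t v => ?_) u
  have hr' : (1 : ℤ) ≤ hgt D X lam r := hr
  have hne : s ≠ r := fun e => by subst e; omega
  have h := R.comm_word_mem hne (fun e => by
      have h1 := R.hgt_neg lam r.2
      rw [← e] at h1; omega)
    (T := hSet D X lam 1) (fun c hc hlt => ?_) t v
  · have := mul_mem (R.xe_mem_RS hr t) h
    rwa [mul_inv_cancel_left] at this
  · show (1 : ℤ) ≤ hgt D X lam c.1
    obtain ⟨_, h1, _, _, _⟩ := R.cert.commTerms_props r.2 s.2 c hc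
    rw [R.hgt_comm lam hc, hs, mul_zero, add_zero]
    nlinarith [show (1 : ℤ) ≤ c.2.2.1 by exact_mod_cast h1]

theorem conj_eq_of_mem (lam : Fin D.rank → ℤ) {g v w : G} (hv : g * v * g⁻¹ ∈ R.RS (hSet D X lam 1))
    (hw : w ∈ R.RS (hSet D X lam 1)) (e : R.θ (g * v) = R.θ (w * g)) : g * v = w * g := by
  have h := R.θ_injOn_hSet lam hv hw (by rw [map_mul (f := R.θ) (g * v), e, ← map_mul, mul_inv_cancel_right])
  rw [← h, inv_mul_cancel_right]

theorem θ_neOf (r : ℕ) (c : F) : ((R.θ (neOf D R.xe r c) : GL D.Idx F) : Matrix D.Idx D.Idx F) = D.nMat F r c := by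
  simp [neOf, R.θ_xe, ChevalleyDatum.nMat, ChevalleyDatum.wordMat, ChevalleyDatum.nWord, mul_assoc]

theorem θ_nconj {i r : ℕ} (hi : i < D.rank) (hr : r < D.nroots) {c : F} (hc : c ≠ 0) (t : F) :
    R.θ (neOf D R.xe (D.simple i) c * R.xe r t) =
      R.θ (R.xe (X.w i r) ((X.eta i r : F) * c ^ (-(D.cartan i r)) * t) * neOf D R.xe (D.simple i) c) := by
  refine Units.ext ?_
  rw [map_mul, map_mul, Units.val_mul, Units.val_mul, R.θ_neOf, R.θ_xe, R.θ_xe]
  exact R.cert.nMat_mul_x hi hr hc t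

theorem nconj_generic {i r : ℕ} (hi : i < D.rank) (hr : r < D.nroots) (h1 : r ≠ D.simple i)
    (h2 : r ≠ D.neg (D.simple i)) {c : F} (hc : c ≠ 0) (t : F) :
    neOf D R.xe (D.simple i) c * R.xe r t =
      R.xe (X.w i r) ((X.eta i r : F) * c ^ (-(D.cartan i r)) * t) * neOf D R.xe (D.simple i) c := by
  classical
  have C := R.cert
  obtain ⟨j, hj, hji, hne⟩ : ∃ j < D.rank, j ≠ i ∧ X.coef j r ≠ 0 :=
    ((C.coef_supp hr hi).resolve_left h1).resolve_left h2
  let lam : Fin D.rank → ℤ := fun k => if (k : ℕ) = j then (X.coef j r).sign else 0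
  have hh : ∀ u, hgt D X lam u = (X.coef j r).sign * X.coef j u := by
    intro u
    rw [hgt, Finset.sum_eq_single (⟨j, hj⟩ : Fin D.rank)]
    · simp [lam]
    · intro k _ hk
      rw [show lam k = 0 from if_neg fun e => hk (Fin.ext e), zero_mul]
    · simp
  have hr1 : (1 : ℤ) ≤ hgt D X lam r := by rw [hh, Int.sign_mul_self_eq_abs]; exact Int.one_le_abs hne
  have hw : (1 : ℤ) ≤ hgt D X lam (X.w i r) := by
    rw [hh, C.coef_w hi hr hj, if_neg hji]; rw [hh] at hr1; exact hr1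
  have hp : hgt D X lam (D.simple i) = 0 := by rw [hh, C.coef_simple hi hj, if_neg hji, mul_zero]
  have hn : neOf D R.xe (D.simple i) c ∈ Subgroup.normalizer (R.RS (hSet D X lam 1) : Set G) := by
    have ha := fun u => R.xe_mem_normalizer_zero lam (s := ⟨D.simple i, C.simple_lt hi⟩) hp u
    have hb := fun u => R.xe_mem_normalizer_zero lam (s := ⟨D.neg (D.simple i), C.neg_lt (C.simple_lt hi)⟩)
      (show hgt D X lam (D.neg (D.simple i)) = 0 by rw [R.hgt_neg lam (C.simple_lt hi), hp, neg_zero]) u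
    exact mul_mem (mul_mem (ha c) (hb _)) (ha c)
  exact R.conj_eq_of_mem lam
    ((Subgroup.mem_normalizer_iff.1 hn _).1 (R.xe_mem_RS (r := ⟨r, hr⟩) hr1 t))
    (R.xe_mem_RS (r := ⟨X.w i r, C.w_lt hi hr⟩) hw _) (R.θ_nconj hi hr hc t)

theorem conj_xe_mem {i : ℕ} (hi : i < D.rank) {L : List ℤ} {r : ℕ} (hr : r < D.nroots)
    (hchk : chkTerm D X i L r = true) {c : F} (hc : c ≠ 0) (t : F) :
    MulAut.conj (neOf D R.xe (D.simple i) c) (R.xe r t) ∈ R.RS (hSet D X (fun k => L.getD (k : ℕ) 0) 1) := by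
  simp only [chkTerm, Bool.and_eq_true, Bool.not_eq_true', decide_eq_true_iff] at hchk
  obtain ⟨⟨h1, h2⟩, h3⟩ := hchk
  rw [← Bool.not_eq_true, nat_beq_iff] at h1 h2
  rw [MulAut.conj_apply, R.nconj_generic hi hr h1 h2 hc, mul_inv_cancel_right]
  exact R.xe_mem_RS (r := ⟨X.w i r, R.cert.w_lt hi hr⟩) h3 _

theorem nconj_simple {i : ℕ} (hi : i < D.rank) {w : ℕ × ℕ × ℕ × List ℤ} (hw : chkWit D X i w = true)
    {c : F} (hc : c ≠ 0) (τ : F) :
    neOf D R.xe (D.simple i) c * R.xe (D.simple i) τ =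
      R.xe (X.w i (D.simple i)) ((X.eta i (D.simple i) : F) * c ^ (-(D.cartan i (D.simple i))) * τ) *
        neOf D R.xe (D.simple i) c := by
  obtain ⟨a, b, n, L⟩ := w
  simp only [chkWit, Bool.and_eq_true, Bool.not_eq_true', decide_eq_true_iff, nat_blt_iff] at hw
  obtain ⟨⟨⟨⟨⟨⟨⟨ha, hb⟩, hab⟩, hab'⟩, hta⟩, htb⟩, hp⟩, hterm⟩ := hw
  rw [← Bool.not_eq_true, nat_beq_iff] at hab hab'
  split at hterm
  · simp at hterm
  next u C k l hget =>
  simp only [Bool.and_eq_true, Bool.or_eq_true, nat_beq_iff, decide_eq_true_iff, List.all_eq_true] at hterm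
  obtain ⟨⟨⟨rfl, hC⟩, hkl⟩, hrest⟩ := hterm
  have hlt : n < (D.commTerms a b).length := (List.getElem?_eq_some_iff.1 hget).1
  have hsplit : D.commTerms a b =
      (D.commTerms a b).take n ++ (D.simple i, C, k, l) :: (D.commTerms a b).drop (n + 1) := by
    conv_lhs => rw [← List.take_append_drop n (D.commTerms a b), List.drop_eq_getElem_cons hlt]
    rw [(List.getElem?_eq_some_iff.1 hget).2]
  obtain ⟨t, v, htv⟩ : ∃ t v : F, (C : F) * (-t) ^ k * v ^ l = τ := by
    have hCF : (C : F) * (C : F) = 1 := by rcases hC with rfl | rfl <;> simp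
    rcases hkl with rfl | rfl
    · exact ⟨-((C : F) * τ), 1, by rw [pow_one, one_pow, mul_one, neg_neg, ← mul_assoc, hCF, one_mul]⟩
    · exact ⟨-1, (C : F) * τ, by rw [pow_one, neg_neg, one_pow, mul_one, ← mul_assoc, hCF, one_mul]⟩
  let T := R.RS (hSet D X (fun k => L.getD (k : ℕ) 0) 1)
  let φ : G →* G := (MulAut.conj (neOf D R.xe (D.simple i) c)).toMonoidHom
  have hA : φ (R.xe a t) ∈ T := R.conj_xe_mem hi ha hta hc t
  have hB : φ (R.xe b v) ∈ T := R.conj_xe_mem hi hb htb hc v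
  have hR : ∀ cs : List (ℕ × ℤ × ℕ × ℕ), (∀ c' ∈ cs, c' ∈ D.commTerms a b ∧ chkTerm D X i L c'.1 = true) →
      φ ((cs.map fun c' => R.xe c'.1 ((c'.2.1 : F) * (-t) ^ c'.2.2.1 * v ^ c'.2.2.2)).prod) ∈ T := by
    intro cs hcs
    rw [map_list_prod, List.map_map]
    refine list_prod_mem fun x hx => ?_
    obtain ⟨c', hc', rfl⟩ := List.mem_map.1 hx
    exact R.conj_xe_mem hi (R.cert.commTerms_props ha hb c' (hcs c' hc').1).1 (hcs c' hc').2 hc _
  have h := R.xe_comm a b t v ha hb hab hab'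
  rw [ChevalleyDatum.commWord, hsplit, List.map_append, List.map_append, List.map_cons, List.map_cons,
    List.prod_append, List.prod_cons, List.map_map, List.map_map, htv] at h
  have hT1 := hR ((D.commTerms a b).take n)
    (fun c' hc' => ⟨List.mem_of_mem_take hc', hrest c' (List.mem_append_left _ hc')⟩)
  have hT2 := hR ((D.commTerms a b).drop (n + 1))
    (fun c' hc' => ⟨List.mem_of_mem_drop hc', hrest c' (List.mem_append_right _ hc')⟩)
  have key : φ (R.xe (D.simple i) τ) ∈ T := by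
    have e := congrArg φ h
    simp only [map_mul, Function.comp_def] at e
    have hI : φ (R.xe b v) * φ (R.xe a t) ∈ T := mul_mem hB hA
    rw [e] at hI
    exact (Subgroup.mul_mem_cancel_right _ hT2).1 ((Subgroup.mul_mem_cancel_left _ hT1).1
      ((Subgroup.mul_mem_cancel_left _ (mul_mem hA hB)).1 hI))
  exact R.conj_eq_of_mem _ key
    (R.xe_mem_RS (r := ⟨X.w i (D.simple i), R.cert.w_lt hi (R.cert.simple_lt hi)⟩)
      (show (1 : ℤ) ≤ hgt D X _ (X.w i (D.simple i)) by rw [R.cert.w_simple hi]; exact hp) _)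
    (R.θ_nconj hi (R.cert.simple_lt hi) hc τ)

theorem neOf_neg (r : Fin D.nroots) (c : F) : neOf D R.xe r (-c) = (neOf D R.xe r c)⁻¹ := by
  have hn := fun t => R.xe_neg ⟨D.neg r, R.cert.neg_lt r.2⟩ t
  simp only [neOf, mul_inv_rev, inv_neg, R.xe_neg r, hn, inv_inv, mul_assoc]

theorem nconj_all {L : List (ℕ × ℕ × ℕ × List ℤ)} (hL : chkWits D X L = true) {i r : ℕ} (hi : i < D.rank)
    (hr : r < D.nroots) {c : F} (hc : c ≠ 0) (t : F) :
    neOf D R.xe (D.simple i) c * R.xe r t =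
      R.xe (X.w i r) ((X.eta i r : F) * c ^ (-(D.cartan i r)) * t) * neOf D R.xe (D.simple i) c := by
  simp only [chkWits, Bool.and_eq_true, nat_beq_iff, List.all_eq_true] at hL
  have hw : chkWit D X i L[i] = true := hL.2 (L[i]'(hL.1 ▸ hi), i) (by
    rw [List.mk_mem_zipIdx_iff_getElem?]; exact List.getElem?_eq_getElem _)
  by_cases h1 : r = D.simple i
  · subst h1; exact R.nconj_simple hi hw hc t
  by_cases h2 : r = D.neg (D.simple i)
  · subst h2
    have C := R.cert
    have hs := C.simple_lt hi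
    have h := R.nconj_simple hi hw (neg_ne_zero.2 hc) (-(c ^ 2) * t)
    rw [show neOf D R.xe (D.simple i) (-c) = (neOf D R.xe (D.simple i) c)⁻¹ from R.neOf_neg ⟨_, hs⟩ c,
      C.w_simple hi, C.eta_simple hi, C.cartan_simple hi,
      show ((-1 : ℤ) : F) * (-c) ^ (-(2 : ℤ)) * (-(c ^ 2) * t) = t by
        push_cast; rw [zpow_neg, zpow_two]; field_simp] at h
    rw [C.w_neg hi hs, C.w_simple hi, C.neg_neg hs, C.eta_neg hi hs, C.eta_simple hi, C.cartan_neg hs hi,
      C.cartan_simple hi, show ((-1 : ℤ) : F) * c ^ (-(-(2 : ℤ))) * t = -(c ^ 2) * t by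
        rw [show (-(-(2 : ℤ))) = ((2 : ℕ) : ℤ) by norm_num, zpow_natCast]; push_cast; ring]
    have h' := congrArg (fun g => neOf D R.xe (D.simple i) c * g * neOf D R.xe (D.simple i) c) h
    simp only [mul_assoc] at h'
    rw [mul_inv_cancel_left, inv_mul_cancel, mul_one] at h'
    exact h'.symm
  exact R.nconj_generic hi hr h1 h2 hc t

end RawRel

end CfsgLib.Lie.Chev
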