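/-
The group presented by Steinberg's relators as a relation system over the Chevalley group.
-/
import Cfsg.Prelude.Def_Steinberg
import Cfsg.Agent.Lib.Lie.Rel.StConj
import Cfsg.Agent.Lib.Lie.Rel.StWitness
import Cfsg.Agent.Lib.Lie.Rel.Torus
import Cfsg.Agent.Lib.Lie.Rel.Checks

set_option autoImplicit false

namespace CfsgLib.Lie.Chev

open Cfsg.Lie (ChevalleyDatum)

section

variable {D : ChevalleyDatum} {X : Aux} (C : Cert D X) (K : Type*) [Field K]

theorem lift_stX (r : ℕ) (t : K) :
    FreeGroup.lift (fun p : Fin D.nroots × K => xG C K p.1 p.2) (D.stX r t) = xG C K r t := by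
  unfold ChevalleyDatum.stX
  split_ifs with h
  · exact FreeGroup.lift_apply_of
  · rw [map_one]; exact Subtype.ext (Units.ext (x_oob K h t).symm)

theorem lift_stWord (w : List (ℕ × K)) :
    FreeGroup.lift (fun p : Fin D.nroots × K => xG C K p.1 p.2) (D.stWord w) =
      (w.map fun p => xG C K p.1 p.2).prod := by
  rw [ChevalleyDatum.stWord, map_list_prod, List.map_map]
  exact congrArg List.prod (List.map_congr_left fun p _ => lift_stX C K p.1 p.2)

theorem lift_stH (r : ℕ) (t : K) :
    FreeGroup.lift (fun p : Fin D.nroots × K => xG C K p.1 p.2) (D.stH r t) = heOf D (xG C K) r t := by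
  rw [ChevalleyDatum.stH, lift_stWord]
  simp [heOf, neOf, ChevalleyDatum.hWord, ChevalleyDatum.nWord, mul_assoc]

theorem rels_lift : ∀ g ∈ D.steinbergRels K,
    FreeGroup.lift (fun p : Fin D.nroots × K => xG C K p.1 p.2) g = 1 := by
  rintro g ((⟨r, t, u, hr, rfl⟩ | ⟨r, s, t, u, hr, hs, h1, h2, rfl⟩) | ⟨r, t, u, hr, ht, hu, rfl⟩)
  · simp only [map_mul, map_inv, lift_stX, mul_inv_eq_one]
    exact (chevRel C K).xe_add r t u hr
  · simp only [map_mul, map_inv, lift_stX, lift_stWord, mul_inv_eq_one]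
    have h : xG C K s u * xG C K r t =
        xG C K r t * xG C K s u * ((D.commWord K r s t u).map fun p => xG C K p.1 p.2).prod :=
      (chevRel C K).xe_comm r s t u hr hs h1 h2
    rw [mul_assoc _ (xG C K s u), h]; group
  · simp only [map_mul, map_inv, lift_stH, mul_inv_eq_one]
    exact (chevRel C K).he_mul ⟨r, hr⟩ ht hu

/-- Steinberg's group maps onto the Chevalley group -/
def stTheta : D.SteinbergGroup K →* ↥(D.group K) := PresentedGroup.toGroup (rels_lift C K)

theorem stTheta_gen (r : ℕ) (t : K) : stTheta C K (D.stGen K r t) = xG C K r t := by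
  show PresentedGroup.toGroup (rels_lift C K) (PresentedGroup.mk _ (D.stX r t)) = _
  rw [← lift_stX C K r t]
  rfl

theorem mk_stH (r : ℕ) (t : K) :
    PresentedGroup.mk (D.steinbergRels K) (D.stH r t) = heOf D (D.stGen K) r t := by
  simp [ChevalleyDatum.stH, ChevalleyDatum.stWord, heOf, neOf, ChevalleyDatum.hWord, ChevalleyDatum.nWord,
    ChevalleyDatum.stGen, mul_assoc]

theorem stGen_add (r : ℕ) (t u : K) (hr : r < D.nroots) :
    D.stGen K r t * D.stGen K r u = D.stGen K r (t + u) := by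
  have h := PresentedGroup.one_of_mem (rels := D.steinbergRels K) (Or.inl (Or.inl ⟨r, t, u, hr, rfl⟩))
  simp only [map_mul, map_inv, mul_inv_eq_one] at h
  exact h

theorem stGen_comm (r s : ℕ) (t u : K) (hr : r < D.nroots) (hs : s < D.nroots) (h1 : s ≠ r) (h2 : s ≠ D.neg r) :
    D.stGen K s u * D.stGen K r t =
      D.stGen K r t * D.stGen K s u * ((D.commWord K r s t u).map fun p => D.stGen K p.1 p.2).prod := by
  have h := PresentedGroup.one_of_mem (rels := D.steinbergRels K)
    (Or.inl (Or.inr ⟨r, s, t, u, hr, hs, h1, h2, rfl⟩))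
  simp only [map_mul, map_inv, mul_inv_eq_one, ChevalleyDatum.stWord, map_list_prod, List.map_map] at h
  rw [show ((D.commWord K r s t u).map fun p => D.stGen K p.1 p.2).prod =
    (D.stGen K s u)⁻¹ * (D.stGen K r t)⁻¹ * D.stGen K s u * D.stGen K r t from h.symm]
  group

/-- Steinberg's group with its root elements -/
def stRaw : RawRel D X K (D.SteinbergGroup K) where
  cert := C
  xe := D.stGen K
  θ := (D.group K).subtype.comp (stTheta C K)
  θ_xe r t := by rw [MonoidHom.comp_apply, stTheta_gen]; rfl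
  xe_add := stGen_add K
  xe_comm := stGen_comm K

/-- Steinberg's group as a relation system -/
def stRel {L : List (ℕ × ℕ × ℕ × List ℤ)} (hL : chkWits D X L = true) : Rel D X K (D.SteinbergGroup K) where
  cert := C
  xe := D.stGen K
  θ := (stRaw C K).θ
  θ_xe := (stRaw C K).θ_xe
  xe_oob r t hr := by rw [ChevalleyDatum.stGen, ChevalleyDatum.stX, dif_neg hr, map_one]
  gen := by
    refine top_unique (le_of_eq_of_le (PresentedGroup.closure_range_of _).symm (Subgroup.closure_mono ?_))
    rintro _ ⟨⟨r, t⟩, rfl⟩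
    exact ⟨r, t, by rw [ChevalleyDatum.stGen, ChevalleyDatum.stX, dif_pos r.2]; rfl⟩
  xe_add := stGen_add K
  xe_comm := stGen_comm K
  nconj i r c t hi hr hc := (stRaw C K).nconj_all hL hi hr hc t
  hmul i a b hi ha hb := by
    rw [← mk_stH, ← mk_stH, ← mk_stH, ← map_mul, ← mul_inv_eq_one, ← map_inv, ← map_mul]
    exact PresentedGroup.one_of_mem (Or.inr ⟨D.simple i, a, b, C.simple_lt hi, ha, hb, rfl⟩)

theorem stTheta_surjective : Function.Surjective (stTheta C K) := by
  rw [← MonoidHom.range_eq_top, ← top_le_iff, ← (chevRel C K).gen, Subgroup.closure_le]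
  rintro _ ⟨r, t, rfl⟩
  exact ⟨D.stGen K r t, stTheta_gen C K r t⟩

theorem eq_stTheta {θ : D.SteinbergGroup K →* ↥(D.group K)}
    (hθ : ∀ (r : ℕ) (t : K), r < D.nroots → ((θ (D.stGen K r t) : GL D.Idx K) : Matrix D.Idx D.Idx K) = D.x K r t) :
    θ = stTheta C K := by
  refine PresentedGroup.ext fun p => ?_
  have e : (PresentedGroup.of p : D.SteinbergGroup K) = D.stGen K p.1 p.2 := by
    rw [ChevalleyDatum.stGen, ChevalleyDatum.stX, dif_pos p.1.2]; rfl
  rw [e, stTheta_gen]
  exact Subtype.ext (Units.ext (hθ _ _ p.1.2))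

theorem ker_stRel {L : List (ℕ × ℕ × ℕ × List ℤ)} (hL : chkWits D X L = true) :
    (stRel C K hL).θ.ker = (stTheta C K).ker := by
  ext g; simp [stRel, stRaw, MonoidHom.mem_ker]

theorem stTheta_ker_le {L : List (ℕ × ℕ × ℕ × List ℤ)} (hL : chkWits D X L = true) :
    (stTheta C K).ker ≤ Subgroup.closure {h | ∃ (i : ℕ) (t : K), i < D.rank ∧ t ≠ 0 ∧
      h = PresentedGroup.mk (D.steinbergRels K) (D.stH (D.simple i) t)} := by
  intro g hg
  rw [← ker_stRel C K hL] at hg
  refine Subgroup.closure_mono ?_ ((stRel C K hL).ker_le_HS hg)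
  rintro _ ⟨i, c, hc, rfl⟩
  exact ⟨i, c, i.2, hc, (mk_stH K _ _).symm⟩

theorem center_stGroup {L : List (ℕ × ℕ × ℕ × List ℤ)} (hL : chkWits D X L = true) (hc : Rel.Connected D) :
    Subgroup.center (D.SteinbergGroup K) = (stTheta C K).ker := by
  rw [(stRel C K hL).center_eq_ker hc, ker_stRel]

theorem stTheta_torusHom {L : List (ℕ × ℕ × ℕ × List ℤ)} (hL : chkWits D X L = true) (c : Fin D.rank → Kˣ) :
    stTheta C K ((stRel C K hL).torusHom c : D.SteinbergGroup K) =
      ((chevRel C K).torusHom c : ↥(D.group K)) := by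
  classical
  have key : ((stTheta C K).comp ((stRel C K hL).HS.subtype.comp (stRel C K hL).torusHom)) =
      (chevRel C K).HS.subtype.comp (chevRel C K).torusHom := by
    refine MonoidHom.pi_ext fun i u => ?_
    simp only [MonoidHom.comp_apply, Rel.torusHom_single]
    show stTheta C K (heOf D (D.stGen K) (D.simple i) (u : K)) = heOf D (xG C K) (D.simple i) (u : K)
    simp [heOf, neOf, stTheta_gen]
  exact DFunLike.congr_fun key c

theorem stTheta_ker_bot {L : List (ℕ × ℕ × ℕ × List ℤ)} (hL : chkWits D X L = true)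
    {M U U' V V' : List (List ℤ)} {d : List ℕ} (hM : cmat D = M) (hS : chkSmith D.rank M U U' V V' d = true)
    (hd : ∀ i : Fin D.rank, d.getD i 0 = 1) : (stTheta C K).ker = ⊥ := by
  rw [eq_bot_iff]
  intro g hg
  obtain ⟨c, hc⟩ := (stRel C K hL).torusHom_surjective
    ⟨g, (stRel C K hL).ker_le_HS (MonoidHom.mem_ker.1 (by rw [ker_stRel]; exact hg))⟩
  have hgc : ((stRel C K hL).torusHom c : D.SteinbergGroup K) = g := congrArg Subtype.val hc
  have h1 : c ∈ (chevRel C K).torusHom.ker :=
    MonoidHom.mem_ker.2 (Subtype.ext (by rw [← stTheta_torusHom C K hL c, hgc]; exact hg))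
  rw [mem_torusHom_ker, MonoidHom.mem_ker, hM] at h1
  simp only [chkSmith, Bool.and_eq_true, decide_eq_true_iff] at hS
  obtain ⟨⟨⟨h2, h3⟩, h4⟩, h5⟩ := hS
  have hdiag : (Matrix.diagonal fun i : Fin D.rank => ((d.getD i 0 : ℕ) : ℤ)) = 1 := by
    rw [← Matrix.diagonal_one]; congr 1; funext i; rw [hd i]; rfl
  rw [hdiag] at h5
  have hinv : ∀ A U V : Matrix (Fin D.rank) (Fin D.rank) ℤ, U * A * V = 1 → A * (V * U) = 1 := by
    intro A U V h
    rw [← mul_assoc]
    rw [mul_assoc] at h
    exact mul_eq_one_comm.1 h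
  have hc1 : c = 1 := by
    rw [← powMat_one c, ← hinv _ _ _ h5, powMat_mul, h1, map_one]
  rw [Subgroup.mem_bot, ← hgc, hc1, map_one]
  rfl

end

end CfsgLib.Lie.Chev
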