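/-
Data of endomorphisms of Chevalley groups given by a permutation of the roots, signs and exponents.
-/
import Cfsg.Agent.Lib.Lie.Rel.Steinberg

set_option autoImplicit false

namespace CfsgLib.Lie.Chev

open Cfsg.Lie (ChevalleyDatum)

/-- image of the root `r`: (root, sign, exponent) -/
def twAt (D : ChevalleyDatum) (T : List (ℕ × ℤ × ℕ)) (r : ℕ) : ℕ × ℤ × ℕ := T.getD r (D.nroots, 1, 1)

/-- `x = (root, coefficient, exponent of -t, exponent of u)`: reduced modulo `p`, zero terms dropped -/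
def twNorm (p : ℕ) (L : List (ℕ × ℤ × ℕ × ℕ)) : List (ℕ × ℤ × ℕ × ℕ) :=
  (L.map fun x => (x.1, x.2.1 % (p : ℤ), x.2.2)).filter fun x => !decide (x.2.1 = 0)

/-- images of the terms of the commutator word of `(r, s)` -/
def twImg (D : ChevalleyDatum) (T : List (ℕ × ℤ × ℕ)) (r s : ℕ) : List (ℕ × ℤ × ℕ × ℕ) :=
  (D.commTerms r s).map fun c =>
    let a := twAt D T c.1
    (a.1, a.2.1 * c.2.1 ^ a.2.2, c.2.2.1 * a.2.2, c.2.2.2 * a.2.2)

/-- terms of the commutator word of the images of `(r, s)` -/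
def twTgt (D : ChevalleyDatum) (T : List (ℕ × ℤ × ℕ)) (r s : ℕ) : List (ℕ × ℤ × ℕ × ℕ) :=
  let a := twAt D T r
  let b := twAt D T s
  (D.commTerms a.1 b.1).map fun c =>
    (c.1, c.2.1 * a.2.1 ^ c.2.2.1 * b.2.1 ^ c.2.2.2, a.2.2 * c.2.2.1, b.2.2 * c.2.2.2)

/-- pairwise commuting roots modulo `p` -/
def twComm (D : ChevalleyDatum) (p : ℕ) (L : List ℕ) : Bool :=
  L.all fun a => L.all fun b => Nat.beq b a ||
    (Nat.blt a D.nroots && Nat.blt b D.nroots && !Nat.beq b (D.neg a) &&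
      (D.commTerms a b).all fun c => decide (c.2.1 % (p : ℤ) = 0))

/-- the relation for the pair `(r, s)` is preserved -/
def chkTwPair (D : ChevalleyDatum) (p : ℕ) (T : List (ℕ × ℤ × ℕ)) (r s : ℕ) : Bool :=
  let a := twAt D T r
  let b := twAt D T s
  !Nat.beq b.1 a.1 && !Nat.beq b.1 (D.neg a.1) &&
    (let A := twNorm p (twImg D T r s)
     let B := twNorm p (twTgt D T r s)
     decide (A = B) || (A.isPerm B && twComm D p (B.map Prod.fst)))

/-- the entry of `r` is well formed -/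
def chkTwRoot (D : ChevalleyDatum) (E : List ℕ) (T : List (ℕ × ℤ × ℕ)) (r : ℕ) : Bool :=
  let a := twAt D T r
  Nat.blt a.1 D.nroots && decide (a.2.1 = 1 ∨ a.2.1 = -1) && E.contains a.2.2 &&
    decide (twAt D T (D.neg r) = (D.neg a.1, a.2.1, a.2.2))

/-- the data defines an endomorphism -/
def chkTw (D : ChevalleyDatum) (p : ℕ) (E : List ℕ) (T : List (ℕ × ℤ × ℕ)) : Bool :=
  Nat.beq T.length D.nroots && E.all (fun e => Nat.blt 0 e) &&
  (List.range D.nroots).all fun r => chkTwRoot D E T r &&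
    (List.range D.nroots).all fun s => Nat.beq s r || Nat.beq s (D.neg r) || chkTwPair D p T r s

/-- one more step of iteration -/
def twStep (D : ChevalleyDatum) (T : List (ℕ × ℤ × ℕ)) (q : ℕ × ℤ × ℕ) : ℕ × ℤ × ℕ :=
  let a := twAt D T q.1
  (a.1, a.2.1 * q.2.1 ^ a.2.2, q.2.2 * a.2.2)

/-- iteration -/
def twIter (D : ChevalleyDatum) (T : List (ℕ × ℤ × ℕ)) : ℕ → ℕ → ℕ × ℤ × ℕ
  | 0, r => (r, 1, 1)
  | k + 1, r => twStep D T (twIter D T k r)

/-- the `k`-th power is `x_r(t) ↦ x_r(t^P)` -/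
def chkTwPeriod (D : ChevalleyDatum) (p : ℕ) (T : List (ℕ × ℤ × ℕ)) (k P : ℕ) : Bool :=
  (List.range D.nroots).all fun r =>
    Nat.beq (twIter D T k r).1 r && Nat.beq (twIter D T k r).2.2 P &&
      decide (((twIter D T k r).2.1 - 1) % (p : ℤ) = 0)

end CfsgLib.Lie.Chev
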