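/-
Automorphisms of Chevalley groups from root permutations with signs and exponents.
-/
import Cfsg.Agent.Lib.Lie.Rel.TwistData
import Cfsg.Agent.Lib.Lie.Rel.FieldAut

set_option autoImplicit false

namespace CfsgLib.Lie.Chev

open Cfsg.Lie (ChevalleyDatum)

/-- hypotheses on the field for exponents `E` modulo `p` -/
structure TwField (K : Type*) [Field K] (p : ℕ) (E : List ℕ) : Prop where
  cast_zero : ∀ z : ℤ, z % (p : ℤ) = 0 → (z : K) = 0
  add_pow : ∀ e ∈ E, ∀ t u : K, (t + u) ^ e = t ^ e + u ^ e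
  root : ∀ e ∈ E, ∀ y : K, ∃ x : K, x ^ e = y

variable {D : ChevalleyDatum} {X : Aux} (C : Cert D X) {K : Type*} [Field K] {p : ℕ} {E : List ℕ}
  (hK : TwField K p E) {T : List (ℕ × ℤ × ℕ)}

include hK

theorem TwField.cast_emod (z : ℤ) : ((z % (p : ℤ) : ℤ) : K) = (z : K) := by
  have h : z = z % (p : ℤ) + p * (z / p) := (Int.emod_add_mul_ediv z p).symm
  have h0 : ((p * (z / p) : ℤ) : K) = 0 := hK.cast_zero _ (Int.mul_emod_right _ _)
  conv_rhs => rw [h, Int.cast_add, h0, add_zero]

theorem TwField.neg_pow' {e : ℕ} (he : e ∈ E) (h0 : 0 < e) (t : K) : (-t) ^ e = -(t ^ e) := by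
  have h := hK.add_pow e he (-t) t
  rw [neg_add_cancel, zero_pow h0.ne'] at h
  exact eq_neg_of_add_eq_zero_left h.symm

omit hK

/-- image of the generator -/
def twX (T : List (ℕ × ℤ × ℕ)) (r : ℕ) (t : K) : ↥(D.group K) :=
  xG C K (twAt D T r).1 (((twAt D T r).2.1 : K) * t ^ (twAt D T r).2.2)

/-- product over a list of terms -/
def twProd (t u : K) (L : List (ℕ × ℤ × ℕ × ℕ)) : ↥(D.group K) :=
  (L.map fun x => xG C K x.1 ((x.2.1 : K) * (-t) ^ x.2.2.1 * u ^ x.2.2.2)).prod

include hK

theorem twProd_norm (t u : K) : ∀ L, twProd C t u (twNorm p L) = twProd C t u L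
  | [] => rfl
  | x :: L => by
    have h1 : ((x.2.1 % (p : ℤ) : ℤ) : K) = (x.2.1 : K) := hK.cast_emod x.2.1
    have ih := twProd_norm t u L
    by_cases hz : x.2.1 % (p : ℤ) = 0
    · have e : twNorm p (x :: L) = twNorm p L := by simp [twNorm, hz]
      have h2 : (x.2.1 : K) = 0 := by rw [← h1, hz, Int.cast_zero]
      rw [e, ih]
      simp only [twProd, List.map_cons, List.prod_cons, h2, zero_mul]
      rw [show xG C K x.1 (0 : K) = 1 from (chevRel C K).xe_zero _, one_mul]
    · have e : twNorm p (x :: L) = (x.1, x.2.1 % (p : ℤ), x.2.2) :: twNorm p L := by simp [twNorm, hz]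
      rw [e]
      simp only [twProd, List.map_cons, List.prod_cons, h1] at ih ⊢
      rw [ih]

theorem twComm_spec {L : List ℕ} (h : twComm D p L = true) {a b : ℕ} (ha : a ∈ L) (hb : b ∈ L) (t u : K) :
    Commute (xG C K a t) (xG C K b u) := by
  simp only [twComm, List.all_eq_true, Bool.or_eq_true, Bool.and_eq_true, nat_beq_iff, nat_blt_iff,
    Bool.not_eq_true', decide_eq_true_iff] at h
  by_cases hab : b = a
  · subst hab
    show xG C K b t * xG C K b u = xG C K b u * xG C K b t
    rw [show xG C K b t * xG C K b u = xG C K b (t + u) from (chevRel C K).xe_add' b t u,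
      show xG C K b u * xG C K b t = xG C K b (u + t) from (chevRel C K).xe_add' b u t, add_comm]
  · obtain ⟨⟨⟨h1, h2⟩, h3⟩, h4⟩ := (h a ha b hb).resolve_left hab
    rw [← Bool.not_eq_true, nat_beq_iff] at h3
    have e : xG C K b u * xG C K a t = xG C K a t * xG C K b u *
        ((D.commWord K a b t u).map fun q => xG C K q.1 q.2).prod := (chevRel C K).xe_comm a b t u h1 h2 hab h3
    rw [List.prod_eq_one (l := (D.commWord K a b t u).map fun q => xG C K q.1 q.2), mul_one] at e
    · exact e.symm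
    · intro g hg
      simp only [ChevalleyDatum.commWord, List.map_map, List.mem_map, Function.comp_apply] at hg
      obtain ⟨c, hc, rfl⟩ := hg
      rw [hK.cast_zero _ (h4 c hc), zero_mul, zero_mul]
      exact (chevRel C K).xe_zero _

variable (hT : chkTw D p E T = true)
include hT

omit hK in
theorem twAt_props {r : ℕ} (hr : r < D.nroots) :
    (twAt D T r).1 < D.nroots ∧ ((twAt D T r).2.1 = 1 ∨ (twAt D T r).2.1 = -1) ∧ (twAt D T r).2.2 ∈ E ∧
      0 < (twAt D T r).2.2 ∧ twAt D T (D.neg r) = (D.neg (twAt D T r).1, (twAt D T r).2.1, (twAt D T r).2.2) := by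
  simp only [chkTw, chkTwRoot, Bool.and_eq_true, List.all_eq_true, List.mem_range, nat_blt_iff,
    decide_eq_true_iff, List.contains_iff_mem] at hT
  obtain ⟨⟨⟨⟨h1, h2⟩, h3⟩, h4⟩, _⟩ := hT.2 r hr
  exact ⟨h1, h2, h3, hT.1.2 _ h3, h4⟩

omit hK in
theorem twX_oob {r : ℕ} (hr : ¬ r < D.nroots) (t : K) : twX C T r t = 1 := by
  simp only [chkTw, Bool.and_eq_true, nat_beq_iff] at hT
  have e : twAt D T r = (D.nroots, 1, 1) := List.getD_eq_default _ _ (by omega)
  rw [twX, e]
  exact (chevRel C K).xe_oob _ _ (lt_irrefl _)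

omit hK in
theorem tw_lift_stX (r : ℕ) (t : K) :
    FreeGroup.lift (fun q : Fin D.nroots × K => twX C T q.1 q.2) (D.stX r t) = twX C T r t := by
  unfold ChevalleyDatum.stX
  split_ifs with h
  · exact FreeGroup.lift_apply_of
  · rw [map_one, twX_oob C hT h]

omit hK in
theorem tw_lift_stWord (w : List (ℕ × K)) :
    FreeGroup.lift (fun q : Fin D.nroots × K => twX C T q.1 q.2) (D.stWord w) =
      (w.map fun q => twX C T q.1 q.2).prod := by
  rw [ChevalleyDatum.stWord, map_list_prod, List.map_map]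
  exact congrArg List.prod (List.map_congr_left fun q _ => tw_lift_stX C hT q.1 q.2)

theorem tw_lift_stH {r : ℕ} (hr : r < D.nroots) {t : K} (ht : t ≠ 0) :
    FreeGroup.lift (fun q : Fin D.nroots × K => twX C T q.1 q.2) (D.stH r t) =
      heOf D (xG C K) (twAt D T r).1 (t ^ (twAt D T r).2.2) := by
  obtain ⟨h1, h2, h3, h0, h4⟩ := twAt_props hT hr
  have hneg : ∀ c : K, twX C T (D.neg r) c =
      xG C K (D.neg (twAt D T r).1) (((twAt D T r).2.1 : K) * c ^ (twAt D T r).2.2) := by
    intro c; rw [twX, h4]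
  obtain ⟨ε, hε, hε2⟩ : ∃ ε : K, ((twAt D T r).2.1 : K) = ε ∧ (ε = 1 ∨ ε = -1) :=
    ⟨_, rfl, by rcases h2 with h | h <;> simp [h]⟩
  have hεne : ε ≠ 0 := by rcases hε2 with rfl | rfl <;> simp
  have hεinv : ε⁻¹ = ε := by rcases hε2 with rfl | rfl <;> simp
  have hn : ∀ c : K, FreeGroup.lift (fun q : Fin D.nroots × K => twX C T q.1 q.2) (D.stWord (D.nWord r c)) =
      neOf D (xG C K) (twAt D T r).1 (ε * c ^ (twAt D T r).2.2) := by
    intro c
    rw [tw_lift_stWord C hT]
    simp only [ChevalleyDatum.nWord, List.map_cons, List.map_nil, List.prod_cons, List.prod_nil, mul_one, h4,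
      twX, neOf, hε, hK.neg_pow' h3 h0, inv_pow, mul_inv, hεinv, mul_neg, mul_assoc]
  have hsplit : D.stH r t = D.stWord (D.nWord r t) * D.stWord (D.nWord r (-1)) := by
    simp [ChevalleyDatum.stH, ChevalleyDatum.stWord, ChevalleyDatum.hWord]
  rw [hsplit, map_mul, hn, hn, hK.neg_pow' h3 h0, one_pow, mul_neg, mul_one]
  have hmul : (chevRel C K).he (twAt D T r).1 (t ^ (twAt D T r).2.2) * (chevRel C K).he (twAt D T r).1 ε =
      (chevRel C K).he (twAt D T r).1 (t ^ (twAt D T r).2.2 * ε) :=
    (chevRel C K).he_mul ⟨_, h1⟩ (pow_ne_zero _ ht) hεne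
  show (chevRel C K).ne (twAt D T r).1 _ * (chevRel C K).ne (twAt D T r).1 _ =
    (chevRel C K).he (twAt D T r).1 (t ^ (twAt D T r).2.2)
  rw [← eq_mul_inv_iff_mul_eq] at hmul
  rw [hmul, mul_comm (t ^ _) ε]
  simp only [Rel.he, heOf, Rel.ne]
  rw [mul_inv_rev, ← mul_assoc, mul_assoc _ (neOf D (chevRel C K).xe _ (-1)),
    mul_inv_cancel, mul_one]
  exact congrArg _ ((chevRel C K).ne_neg _ _)

theorem tw_rels : ∀ g ∈ D.steinbergRels K,
    FreeGroup.lift (fun q : Fin D.nroots × K => twX C T q.1 q.2) g = 1 := by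
  rintro g ((⟨r, t, u, hr, rfl⟩ | ⟨r, s, t, u, hr, hs, hsr, hsn, rfl⟩) | ⟨r, t, u, hr, ht, hu, rfl⟩)
  · simp only [map_mul, map_inv, tw_lift_stX C hT, mul_inv_eq_one]
    obtain ⟨h1, _, h3, _, _⟩ := twAt_props hT hr
    simp only [twX]
    rw [hK.add_pow _ h3, mul_add]
    exact (chevRel C K).xe_add _ _ _ h1
  · simp only [map_mul, map_inv, tw_lift_stX C hT, tw_lift_stWord C hT, mul_inv_eq_one]
    obtain ⟨ha, haε, ha3, ha0, _⟩ := twAt_props hT hr
    obtain ⟨hb, hbε, hb3, hb0, _⟩ := twAt_props hT hs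
    have hp : chkTwPair D p T r s = true := by
      simp only [chkTw, Bool.and_eq_true, List.all_eq_true, List.mem_range, Bool.or_eq_true, nat_beq_iff] at hT
      have := (hT.2 r hr).2 s hs
      tauto
    simp only [chkTwPair, Bool.and_eq_true, Bool.not_eq_true', Bool.or_eq_true, decide_eq_true_iff,
      List.isPerm_iff] at hp
    obtain ⟨⟨h1, h2⟩, h3⟩ := hp
    rw [← Bool.not_eq_true, nat_beq_iff] at h1 h2
    have e : twX C T s u * twX C T r t = twX C T r t * twX C T s u *
        ((D.commWord K (twAt D T r).1 (twAt D T s).1 (((twAt D T r).2.1 : K) * t ^ (twAt D T r).2.2)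
          (((twAt D T s).2.1 : K) * u ^ (twAt D T s).2.2)).map fun q => xG C K q.1 q.2).prod :=
      (chevRel C K).xe_comm _ _ _ _ ha hb h1 h2
    have hI : ((D.commWord K r s t u).map fun q => twX C T q.1 q.2).prod = twProd C t u (twImg D T r s) := by
      simp only [twProd, twImg, ChevalleyDatum.commWord, List.map_map, Function.comp_def, twX]
      congr 1
      refine List.map_congr_left fun c _ => ?_
      congr 1
      push_cast
      rw [mul_pow, mul_pow, ← pow_mul, ← pow_mul]
      ring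
    have hB : ((D.commWord K (twAt D T r).1 (twAt D T s).1 (((twAt D T r).2.1 : K) * t ^ (twAt D T r).2.2)
          (((twAt D T s).2.1 : K) * u ^ (twAt D T s).2.2)).map fun q => xG C K q.1 q.2).prod =
        twProd C t u (twTgt D T r s) := by
      simp only [twProd, twTgt, ChevalleyDatum.commWord, List.map_map, Function.comp_def]
      congr 1
      refine List.map_congr_left fun c _ => ?_
      congr 1
      push_cast
      rw [show -(((twAt D T r).2.1 : K) * t ^ (twAt D T r).2.2) =
        ((twAt D T r).2.1 : K) * (-t) ^ (twAt D T r).2.2 by rw [hK.neg_pow' ha3 ha0, mul_neg],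
        mul_pow, mul_pow, ← pow_mul, ← pow_mul]
      ring
    have hAB : twProd C t u (twImg D T r s) = twProd C t u (twTgt D T r s) := by
      rw [← twProd_norm C hK, ← twProd_norm C hK t u (twTgt D T r s)]
      rcases h3 with h3 | ⟨h3, h4⟩
      · rw [h3]
      · symm
        refine List.Perm.prod_eq' (List.Perm.map _ h3.symm) ?_
        rw [List.pairwise_map]
        refine List.pairwise_of_forall_mem_list fun x hx y hy => ?_
        exact twComm_spec C hK h4 (List.mem_map.2 ⟨x, hx, rfl⟩) (List.mem_map.2 ⟨y, hy, rfl⟩) _ _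
    rw [hI, hAB, ← hB]
    rw [mul_assoc _ (twX C T s u), e]; group
  · rw [map_mul, map_mul, map_inv, tw_lift_stH C hK hT hr ht, tw_lift_stH C hK hT hr hu,
      tw_lift_stH C hK hT hr (mul_ne_zero ht hu), mul_inv_eq_one, mul_pow]
    exact (chevRel C K).he_mul ⟨_, (twAt_props hT hr).1⟩ (pow_ne_zero _ ht) (pow_ne_zero _ hu)

/-- the map on Steinberg's group -/
def twHom : D.SteinbergGroup K →* ↥(D.group K) := PresentedGroup.toGroup (tw_rels C hK hT)

theorem twHom_gen (r : ℕ) (t : K) : twHom C hK hT (D.stGen K r t) = twX C T r t := by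
  show PresentedGroup.toGroup (tw_rels C hK hT) (PresentedGroup.mk _ (D.stX r t)) = _
  rw [← tw_lift_stX C hT r t]
  rfl

omit hK in
theorem twIter_props (k : ℕ) {r : ℕ} (hr : r < D.nroots) : (twIter D T k r).1 < D.nroots := by
  induction k with
  | zero => exact hr
  | succ k ih => exact (twAt_props hT ih).1

variable {k P : ℕ} (hk : chkTwPeriod D p T (k + 1) P = true)
include hk

theorem twHom_surjective : Function.Surjective (twHom C hK hT) := by
  rw [← MonoidHom.range_eq_top, ← top_le_iff, ← (chevRel C K).gen, Subgroup.closure_le]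
  rintro _ ⟨u, c, rfl⟩
  by_cases hu : u < D.nroots
  · simp only [chkTwPeriod, Bool.and_eq_true, List.all_eq_true, List.mem_range, nat_beq_iff] at hk
    have hr := twIter_props hT k hu
    obtain ⟨_, hε, he, _, _⟩ := twAt_props hT hr
    obtain ⟨x, hx⟩ := hK.root _ he (((twAt D T (twIter D T k u).1).2.1 : K) * c)
    refine ⟨D.stGen K (twIter D T k u).1 x, ?_⟩
    rw [twHom_gen, twX, hx, show (twAt D T (twIter D T k u).1).1 = u from (hk u hu).1.1, ← mul_assoc]
    rcases hε with h | h <;> simp [h] <;> rfl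
  · exact ⟨1, by rw [map_one]; exact ((chevRel C K).xe_oob u c hu).symm⟩

variable {L : List (ℕ × ℕ × ℕ × List ℤ)} (hL : chkWits D X L = true) (hc : Rel.Connected D)
include hL hc

theorem twHom_ker : (stTheta C K).ker ≤ (twHom C hK hT).ker := by
  intro g hg
  rw [← center_stGroup C K hL hc] at hg
  have hz : twHom C hK hT g ∈ Subgroup.center ↥(D.group K) := by
    rw [Subgroup.mem_center_iff]
    intro y
    obtain ⟨x, rfl⟩ := twHom_surjective C hK hT hk y
    rw [← map_mul, ← map_mul, Subgroup.mem_center_iff.1 hg x]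
  rw [(chevRel C K).center_eq_ker hc, (MonoidHom.ker_eq_bot_iff _).2 (chevRel_injective C K)] at hz
  exact hz

/-- the endomorphism of the Chevalley group -/
noncomputable def twEnd : ↥(D.group K) →* ↥(D.group K) :=
  (stTheta C K).liftOfSurjective (stTheta_surjective C K) ⟨twHom C hK hT, twHom_ker C hK hT hk hL hc⟩

theorem twEnd_gen (r : ℕ) (t : K) : twEnd C hK hT hk hL hc (xG C K r t) = twX C T r t := by
  rw [← stTheta_gen C K r t, ← twHom_gen C hK hT]
  exact MonoidHom.liftOfRightInverse_comp_apply _ _ _ ⟨twHom C hK hT, twHom_ker C hK hT hk hL hc⟩ _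

theorem twEnd_surjective : Function.Surjective (twEnd C hK hT hk hL hc) := by
  intro y
  obtain ⟨x, rfl⟩ := twHom_surjective C hK hT hk y
  exact ⟨stTheta C K x,
    MonoidHom.liftOfRightInverse_comp_apply _ _ _ ⟨twHom C hK hT, twHom_ker C hK hT hk hL hc⟩ _⟩

theorem twEnd_iterate (n : ℕ) {r : ℕ} (hr : r < D.nroots) (t : K) :
    (⇑(twEnd C hK hT hk hL hc))^[n] (xG C K r t) =
      xG C K (twIter D T n r).1 (((twIter D T n r).2.1 : K) * t ^ (twIter D T n r).2.2) := by
  induction n with
  | zero => simp [twIter]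
  | succ n ih =>
    rw [Function.iterate_succ_apply', ih, twEnd_gen, twX]
    simp only [twIter, twStep, Int.cast_mul, Int.cast_pow]
    rw [mul_pow, ← pow_mul, mul_assoc]

theorem twEnd_injective (hP : P ∈ E) (hP0 : 0 < P) : Function.Injective (twEnd C hK hT hk hL hc) := by
  let f : K →+* K :=
    { toFun := fun x => x ^ P
      map_one' := one_pow P
      map_mul' := fun a b => mul_pow a b P
      map_zero' := zero_pow hP0.ne'
      map_add' := fun a b => hK.add_pow P hP a b }
  let φ : ↥(D.group K) →* ↥(D.group K) :=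
    { toFun := fun g => ⟨glMap D f g, map_group_le D f ⟨g, g.2, rfl⟩⟩
      map_one' := Subtype.ext (map_one _)
      map_mul' := fun a b => Subtype.ext (map_mul (glMap D f) (a : GL D.Idx K) b) }
  have hφ : Function.Injective φ := by
    intro a b e
    refine Subtype.ext (Units.ext (Matrix.map_injective f.injective ?_))
    exact congrArg (fun g : ↥(D.group K) => ((g : GL D.Idx K) : Matrix D.Idx D.Idx K)) e
  let it : ↥(D.group K) →* ↥(D.group K) :=
    { toFun := (⇑(twEnd C hK hT hk hL hc))^[k + 1]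
      map_one' := iterate_map_one _ _
      map_mul' := fun a b => iterate_map_mul _ _ a b }
  have key : it = φ := by
    refine MonoidHom.eq_of_eqOn_dense (chevRel C K).gen ?_
    rintro _ ⟨r, t, rfl⟩
    by_cases hr : r < D.nroots
    · have hk' := hk
      simp only [chkTwPeriod, Bool.and_eq_true, List.all_eq_true, List.mem_range, nat_beq_iff,
        decide_eq_true_iff] at hk'
      obtain ⟨⟨h1, h2⟩, h3⟩ := hk' r hr
      refine (twEnd_iterate C hK hT hk hL hc (k + 1) hr t).trans ?_
      have h4 : ((twIter D T (k + 1) r).2.1 : K) = 1 := by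
        have := hK.cast_zero _ h3
        push_cast at this
        linear_combination this
      rw [h1, h2, h4, one_mul]
      refine Subtype.ext (Units.ext ?_)
      show D.x K r (t ^ P) = (D.x K r t).map f
      rw [x_map]; rfl
    · rw [show (chevRel C K).xe r t = 1 from (chevRel C K).xe_oob r t hr, map_one, map_one]
  intro a b e
  apply hφ
  rw [← key]
  show (⇑(twEnd C hK hT hk hL hc))^[k + 1] a = (⇑(twEnd C hK hT hk hL hc))^[k + 1] b
  rw [Function.iterate_succ_apply, Function.iterate_succ_apply, e]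

include C in
theorem twEnd_spec (hP : P ∈ E) (hP0 : 0 < P) : ∃ α : ↥(D.group K) ≃* ↥(D.group K),
    ∀ (g : ↥(D.group K)) (r : ℕ) (t : K), ((g : GL D.Idx K) : Matrix D.Idx D.Idx K) = D.x K r t →
      ((α g : GL D.Idx K) : Matrix D.Idx D.Idx K) =
        D.x K (twAt D T r).1 (((twAt D T r).2.1 : K) * t ^ (twAt D T r).2.2) := by
  refine ⟨MulEquiv.ofBijective (twEnd C hK hT hk hL hc)
    ⟨twEnd_injective C hK hT hk hL hc hP hP0, twEnd_surjective C hK hT hk hL hc⟩, fun g r t e => ?_⟩
  have hg : g = xG C K r t := Subtype.ext (Units.ext e)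
  subst hg
  show (((twEnd C hK hT hk hL hc (xG C K r t) : ↥(D.group K)) : GL D.Idx K) : Matrix D.Idx D.Idx K) = _
  rw [twEnd_gen]
  rfl

end CfsgLib.Lie.Chev
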