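/-
Graph automorphism data of types E6, D4, and of B2, F4 in characteristic 2 and G2 in characteristic 3.
-/
import Cfsg.Agent.Lib.Lie.Rel.Twist
import Cfsg.Agent.Lib.Lie.Rel.StWitness
import Cfsg.Agent.Lib.Lie.Rel.Checks

set_option autoImplicit false

namespace CfsgLib.Lie.Chev

open Cfsg.Lie

/-- graph automorphism data E6 -/
def twTE6 : List (ℕ × ℤ × ℕ) :=
  [(0, 1, 1), (1, 1, 1), (2, 1, 1), (5, 1, 1), (16, -1, 1), (3, 1, 1), (6, 1, 1), (17, -1, 1),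
    (8, 1, 1), (19, -1, 1), (22, -1, 1), (11, 1, 1), (26, -1, 1), (30, 1, 1), (33, -1, 1), (35, 1, 1),
    (4, -1, 1), (7, -1, 1), (18, 1, 1), (9, -1, 1), (20, 1, 1), (23, 1, 1), (10, -1, 1), (21, 1, 1),
    (24, 1, 1), (25, 1, 1), (12, -1, 1), (27, 1, 1), (31, -1, 1), (34, 1, 1), (13, 1, 1), (28, -1, 1),
    (32, 1, 1), (14, -1, 1), (29, 1, 1), (15, 1, 1), (56, 1, 1), (42, 1, 1), (57, -1, 1), (39, 1, 1),
    (43, -1, 1), (58, 1, 1), (37, 1, 1), (40, -1, 1), (44, 1, 1), (59, -1, 1), (46, 1, 1), (47, 1, 1),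
    (50, 1, 1), (61, -1, 1), (48, 1, 1), (51, 1, 1), (62, -1, 1), (53, 1, 1), (64, -1, 1), (67, -1, 1),
    (36, 1, 1), (38, -1, 1), (41, 1, 1), (45, -1, 1), (60, 1, 1), (49, -1, 1), (52, -1, 1), (63, 1, 1),
    (54, -1, 1), (65, 1, 1), (68, 1, 1), (55, -1, 1), (66, 1, 1), (69, 1, 1), (70, 1, 1), (71, 1, 1)]

theorem twOkE6 : chkTw chevE6 0 [1] twTE6 = true := by decide +kernel

theorem twPerE6 : chkTwPeriod chevE6 0 twTE6 2 1 = true := by decide +kernel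

/-- graph automorphism data D4 -/
def twTD4 : List (ℕ × ℤ × ℕ) :=
  [(0, 1, 1), (1, 1, 1), (6, -1, 1), (2, 1, 1), (7, -1, 1), (10, 1, 1), (3, -1, 1), (8, 1, 1),
    (4, -1, 1), (9, 1, 1), (11, 1, 1), (5, 1, 1), (18, 1, 1), (12, 1, 1), (14, 1, 1), (19, -1, 1),
    (15, 1, 1), (20, -1, 1), (13, 1, 1), (16, -1, 1), (21, 1, 1), (17, -1, 1), (22, 1, 1), (23, 1, 1)]

theorem twOkD4 : chkTw chevD4 0 [1] twTD4 = true := by decide +kernel

theorem twPerD4 : chkTwPeriod chevD4 0 twTD4 3 1 = true := by decide +kernel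

/-- graph automorphism data D4b -/
def twTD4b : List (ℕ × ℤ × ℕ) :=
  [(0, 1, 1), (1, 1, 1), (3, 1, 1), (6, -1, 1), (8, -1, 1), (11, 1, 1), (2, -1, 1), (4, -1, 1),
    (7, 1, 1), (9, 1, 1), (5, 1, 1), (10, 1, 1), (13, 1, 1), (18, 1, 1), (14, 1, 1), (16, 1, 1),
    (19, -1, 1), (21, -1, 1), (12, 1, 1), (15, -1, 1), (17, -1, 1), (20, 1, 1), (22, 1, 1), (23, 1, 1)]

theorem twOkD4b : chkTw chevD4 0 [1] twTD4b = true := by decide +kernel

theorem twPerD4b : chkTwPeriod chevD4 0 twTD4b 3 1 = true := by decide +kernel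

/-- graph automorphism data B2 -/
def twTB2 : List (ℕ × ℤ × ℕ) :=
  [(1, 1, 1), (0, 1, 2), (3, 1, 2), (2, 1, 1), (5, 1, 1), (4, 1, 2), (7, 1, 2), (6, 1, 1)]

theorem twOkB2 : chkTw chevB2 2 [1, 2] twTB2 = true := by decide +kernel

theorem twPerB2 : chkTwPeriod chevB2 2 twTB2 2 2 = true := by decide +kernel

/-- graph automorphism data F4 -/
def twTF4 : List (ℕ × ℤ × ℕ) :=
  [(3, 1, 1), (7, 1, 1), (8, 1, 1), (0, 1, 2), (9, 1, 1), (11, 1, 1), (18, 1, 1), (1, 1, 2),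
    (2, 1, 2), (4, 1, 2), (15, 1, 2), (5, 1, 2), (16, 1, 2), (21, 1, 2), (23, 1, 2), (10, 1, 1),
    (12, 1, 1), (19, 1, 1), (6, 1, 2), (17, 1, 2), (22, 1, 2), (13, 1, 1), (20, 1, 1), (14, 1, 1),
    (33, 1, 1), (27, 1, 1), (34, 1, 1), (25, 1, 2), (30, 1, 2), (41, 1, 2), (28, 1, 1), (35, 1, 1),
    (37, 1, 1), (24, 1, 2), (26, 1, 2), (31, 1, 2), (42, 1, 2), (32, 1, 2), (43, 1, 2), (45, 1, 2),
    (46, 1, 2), (29, 1, 1), (36, 1, 1), (38, 1, 1), (47, 1, 2), (39, 1, 1), (40, 1, 1), (44, 1, 1)]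

theorem twOkF4 : chkTw chevF4 2 [1, 2] twTF4 = true := by decide +kernel

theorem twPerF4 : chkTwPeriod chevF4 2 twTF4 2 2 = true := by decide +kernel

/-- graph automorphism data G2 -/
def twTG2 : List (ℕ × ℤ × ℕ) :=
  [(2, 1, 1), (3, 1, 1), (0, 1, 3), (1, 1, 3), (5, 1, 3), (4, 1, 1), (7, 1, 1), (6, 1, 3),
    (10, 1, 3), (11, 1, 3), (8, 1, 1), (9, 1, 1)]

theorem twOkG2 : chkTw chevG2 3 [1, 3] twTG2 = true := by decide +kernel

theorem twPerG2 : chkTwPeriod chevG2 3 twTG2 2 3 = true := by decide +kernel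

theorem twField_one (K : Type*) [Field K] : TwField K 0 [1] where
  cast_zero z hz := by rw [Nat.cast_zero, Int.emod_zero] at hz; simp [hz]
  add_pow e he t u := by simp [List.mem_singleton.1 he]
  root e he y := ⟨y, by simp [List.mem_singleton.1 he]⟩

theorem twField_prime (K : Type*) [Field K] (p : ℕ) [Fact p.Prime] [CharP K p]
    (hperf : ∀ x : K, ∃ y : K, y ^ p = x) : TwField K p [1, p] where
  cast_zero z hz := (CharP.intCast_eq_zero_iff K p z).2 (Int.dvd_of_emod_eq_zero hz)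
  add_pow e he t u := by
    simp only [List.mem_cons, List.not_mem_nil, or_false] at he
    rcases he with rfl | rfl
    · simp
    · exact add_pow_char t u e
  root e he y := by
    simp only [List.mem_cons, List.not_mem_nil, or_false] at he
    rcases he with rfl | rfl
    · exact ⟨y, pow_one y⟩
    · exact hperf y

end CfsgLib.Lie.Chev
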