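/-
The Weyl group of a relation system as a Coxeter group, with kernel-checked product orders.
-/
import Cfsg.Agent.Lib.Lie.Rel.Weyl
import Cfsg.Agent.Lib.Lie.ExchangeGroup

set_option autoImplicit false

namespace CfsgLib.Lie.Chev

open Cfsg.Lie (ChevalleyDatum)

/-- apply a word of simple reflections to a root index -/
def wordAct (X : Aux) : List ℕ → ℕ → ℕ
  | [], s => s
  | i :: is, s => X.w i (wordAct X is s)

/-- `m`-fold iterate of a word -/
def wordPow (X : Aux) (w : List ℕ) : ℕ → ℕ → ℕ
  | 0, s => s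
  | m + 1, s => wordAct X w (wordPow X w m s)

/-- the word has order exactly `m` on the roots -/
def chkOrd (D : ChevalleyDatum) (X : Aux) (w : List ℕ) (m : ℕ) : Bool :=
  Nat.blt 0 m && ((List.range D.nroots).all fun s => Nat.beq (wordPow X w m s) s) &&
    (List.range m).all fun k => Nat.beq k 0 || (List.range D.nroots).any fun s => !Nat.beq (wordPow X w k s) s

/-- product orders of the simple reflections -/
def chkCox (D : ChevalleyDatum) (X : Aux) (M : Fin D.rank → Fin D.rank → ℕ) : Bool :=
  (List.finRange D.rank).all fun i => (List.finRange D.rank).all fun j => chkOrd D X [(i : ℕ), (j : ℕ)] (M i j)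

namespace Rel

variable {D : ChevalleyDatum} {X : Aux} {F : Type*} [Field F] {G : Type*} [Group G] (R : Rel D X F G)
include R

theorem qact_wprod_apply (l : List (Fin D.rank)) (s : Fin D.nroots) :
    (R.qact (CfsgLib.Lie.Exchange.wprod R.qgen l) s : ℕ) = wordAct X (l.map fun i : Fin D.rank => (i : ℕ)) s := by
  induction l generalizing s with
  | nil => rw [CfsgLib.Lie.Exchange.wprod_nil, map_one]; rfl
  | cons i l ih =>
    rw [CfsgLib.Lie.Exchange.wprod_cons, map_mul, Equiv.Perm.mul_apply, R.qact_qgen, R.wperm_apply, ih]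
    rfl

theorem qact_pow_apply (l : List (Fin D.rank)) (m : ℕ) (s : Fin D.nroots) :
    (R.qact (CfsgLib.Lie.Exchange.wprod R.qgen l ^ m) s : ℕ) =
      wordPow X (l.map fun i : Fin D.rank => (i : ℕ)) m s := by
  induction m with
  | zero => rw [pow_zero, map_one]; rfl
  | succ m ih => rw [pow_succ', map_mul, Equiv.Perm.mul_apply, R.qact_wprod_apply, ih]; rfl

theorem orderOf_word (l : List (Fin D.rank)) {m : ℕ} (h : chkOrd D X (l.map fun i : Fin D.rank => (i : ℕ)) m = true) :
    orderOf (CfsgLib.Lie.Exchange.wprod R.qgen l) = m := by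
  simp only [chkOrd, Bool.and_eq_true, nat_blt_iff, List.all_eq_true, List.mem_range, nat_beq_iff, Bool.or_eq_true,
    List.any_eq_true, Bool.not_eq_true'] at h
  obtain ⟨⟨h1, h2⟩, h3⟩ := h
  rw [orderOf_eq_iff h1]
  refine ⟨R.qact_injective (Equiv.ext fun s => Fin.ext ?_), fun k hk hk0 he => ?_⟩
  · rw [R.qact_pow_apply, h2 s s.2, map_one]; rfl
  · rcases h3 k hk with h | ⟨s, hs, hne⟩
    · omega
    · have h4 := R.qact_pow_apply l k ⟨s, hs⟩
      rw [he, map_one] at h4
      have h5 : wordPow X (l.map fun i : Fin D.rank => (i : ℕ)) k s = s := h4.symm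
      rw [nat_beq_iff.2 h5] at hne
      exact absurd hne (by simp)

theorem exists_coxeterSystem (M : CoxeterMatrix (Fin D.rank)) (h : chkCox D X M.M = true) :
    ∃ cs : CoxeterSystem M R.WQ, ∀ i, cs.simple i = R.qgen i := by
  obtain ⟨cs, hcs⟩ := R.rootPerm.exSys.exists_coxeterSystem
  have e : CfsgLib.Lie.Exchange.coxeterMatrixOf R.rootPerm.exSys = M := by
    ext i j
    have := R.orderOf_word [i, j] (List.all_eq_true.1 (List.all_eq_true.1 h i (List.mem_finRange i)) j (List.mem_finRange j))
    simpa [CfsgLib.Lie.Exchange.coxeterMatrixOf] using this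
  subst e
  exact ⟨cs, hcs⟩

end Rel

end CfsgLib.Lie.Chev
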