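/-
The Weyl groups of the tabulated data as the standard Coxeter groups, with their orders.
-/
import Cfsg.Agent.Lib.Lie.Rel.Coxeter
import Cfsg.Agent.Lib.Lie.Rel.OrderData

set_option autoImplicit false

namespace CfsgLib.Lie.Chev

open Cfsg.Lie

theorem coxG2 : chkCox chevG2 auxG2 CoxeterMatrix.G₂.M = true := by decide +kernel
theorem coxB2 : chkCox chevB2 auxB2 (CoxeterMatrix.B 2).M = true := by decide +kernel
theorem coxD4 : chkCox chevD4 auxD4 coxeterD4.M = true := by decide +kernel
theorem coxF4 : chkCox chevF4 auxF4 CoxeterMatrix.F₄.M = true := by decide +kernel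
theorem coxE6 : chkCox chevE6 auxE6 CoxeterMatrix.E₆.M = true := by decide +kernel
theorem coxE7 : chkCox chevE7 auxE7 CoxeterMatrix.E₇.M = true := by decide +kernel
theorem coxE8 : chkCox chevE8 auxE8 CoxeterMatrix.E₈.M = true := by decide +kernel

variable {D : ChevalleyDatum} {X : Aux}

/-- order of the Coxeter group -/
theorem card_coxeter (C : Cert D X) (M : CoxeterMatrix (Fin D.rank)) (h : chkCox D X M.M = true)
    {cm : List (List ℤ)} (hM : cmat D = cm) {n : ℕ}
    (hn : ((chainCounts cm D.rank (half D) [] (List.range D.rank).reverse).map List.sum).prod = n) :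
    Nat.card M.Group = n := by
  classical
  obtain ⟨cs, _⟩ := (chevRel C ℚ).exists_coxeterSystem M h
  have hfin := (chevRel C ℚ).rootPerm.finite
  let _ : Fintype (chevRel C ℚ).WQ := Fintype.ofFinite _
  rw [← Nat.card_congr cs.mulEquiv.toEquiv, ← hn]
  have h1 := (chevRel C ℚ).sum_pow_inv (1 : ℕ) (List.range D.rank).reverse
    (fun j hj => List.mem_range.1 (List.mem_reverse.1 hj)) (fun i hi => List.mem_reverse.2 (List.mem_range.2 hi))
  simp only [one_pow, Finset.sum_const, Finset.card_univ, smul_eq_mul, mul_one, hM] at h1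
  rw [Nat.card_eq_fintype_card, h1]
  refine congrArg List.prod (List.map_congr_left fun cs _ => ?_)
  simp only [polyVal, one_pow, mul_one, Nat.cast_id]
  exact congrArg List.sum (List.zipIdx_map_fst 0 cs)

/-- order of the Coxeter element -/
theorem orderOf_coxeter (C : Cert D X) (M : CoxeterMatrix (Fin D.rank)) (h : chkCox D X M.M = true) {n : ℕ}
    (hn : chkOrd D X ((List.finRange D.rank).map fun i : Fin D.rank => (i : ℕ)) n = true) :
    orderOf ((List.finRange D.rank).map M.simple).prod = n := by
  obtain ⟨cs, hcs⟩ := (chevRel C ℚ).exists_coxeterSystem M h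
  rw [← (chevRel C ℚ).orderOf_word (List.finRange D.rank) hn,
    ← orderOf_injective cs.mulEquiv.toMonoidHom cs.mulEquiv.injective]
  refine congrArg orderOf ?_
  rw [CfsgLib.Lie.Exchange.wprod, map_list_prod, List.map_map]
  refine congrArg List.prod (List.map_congr_left fun i _ => ?_)
  rw [Function.comp_apply, ← hcs i]
  exact (cs.mulEquiv.apply_symm_apply _).symm

/-- the monomial group modulo the torus -/
theorem monomial_to_coxeter (C : Cert D X) (M : CoxeterMatrix (Fin D.rank)) (h : chkCox D X M.M = true)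
    (F : Type*) [Field F] :
    ∃ φ : ↥(D.monomialSubgroup F) →* M.Group, Function.Surjective φ ∧
      φ.ker = (D.diagonalSubgroup F).subgroupOf (D.monomialSubgroup F) ∧
      ∀ (i : Fin D.rank) (g : ↥(D.monomialSubgroup F)),
        ((g : GL D.Idx F) : Matrix D.Idx D.Idx F) = D.nMat F (D.simple i) 1 → φ g = M.simple i := by
  obtain ⟨cs, hcs⟩ := (chevRel C F).exists_coxeterSystem M h
  let e : ↥(D.monomialSubgroup F) ≃* ↥(chevRel C F).NS :=
    (MulEquiv.subgroupCongr (monomialSubgroup_eq C F)).trans
      (Subgroup.equivMapOfInjective (chevRel C F).NS (D.group F).subtype Subtype.val_injective).symm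
  have he : ∀ g, (((e g : (chevRel C F).NS) : ↥(D.group F)) : GL D.Idx F) = (g : GL D.Idx F) := fun g => by
    have h1 := (Subgroup.equivMapOfInjective (chevRel C F).NS (D.group F).subtype Subtype.val_injective).apply_symm_apply
      (MulEquiv.subgroupCongr (monomialSubgroup_eq C F) g)
    exact (congrArg Subtype.val h1).trans rfl
  refine ⟨(cs.mulEquiv.toMonoidHom.comp (chevRel C F).qmk).comp e.toMonoidHom, ?_, ?_, ?_⟩
  · intro x
    obtain ⟨g, hg⟩ := (chevRel C F).qmk_surjective (cs.mulEquiv.symm x)
    refine ⟨e.symm g, ?_⟩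
    simp only [MonoidHom.comp_apply, MulEquiv.toMonoidHom_eq_coe, MonoidHom.coe_coe, MulEquiv.apply_symm_apply, hg]
  · ext g
    simp only [MonoidHom.mem_ker, MonoidHom.comp_apply, MulEquiv.toMonoidHom_eq_coe, MonoidHom.coe_coe,
      EmbeddingLike.map_eq_one_iff, (chevRel C F).qmk_eq_one, Subgroup.mem_subgroupOf, diagonalSubgroup_eq C F]
    constructor
    · intro hh; exact ⟨_, hh, he g⟩
    · rintro ⟨x, hx, hx'⟩
      rw [show ((e g : (chevRel C F).NS) : ↥(D.group F)) = x from Subtype.ext ((he g).trans hx'.symm)]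
      exact hx
  · intro i g hg
    have h1 : e g = (chevRel C F).nS i := by
      refine Subtype.ext (Subtype.ext (Units.ext ?_))
      rw [he g, hg]
      exact (xG_neOf_val C F _ 1).symm
    simp only [MonoidHom.comp_apply, MulEquiv.toMonoidHom_eq_coe, MonoidHom.coe_coe, h1]
    rw [show (chevRel C F).qmk ((chevRel C F).nS i) = (chevRel C F).qgen i from rfl, ← hcs i]
    exact cs.mulEquiv.apply_symm_apply _

end CfsgLib.Lie.Chev
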