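/-
The centre of the algebra of B-biinvariant functions: its dimension counts the irreducible constituents of the
permutation character on the cosets of B, and it is the centre of the Hecke operators at parameter q.
-/
import Cfsg.Agent.Lib.Lie.Rel.StCells
import Cfsg.Agent.Lib.Lie.HeckeDeform
import Cfsg.Agent.Lib.Blocks.GroupAlg

set_option autoImplicit false

namespace CfsgLib.Lie.Chev

open Cfsg.Lie (ChevalleyDatum)
open CfsgLib.Lie.Exchange CfsgLib.Blocks MonoidAlgebra
open scoped ComplexConjugate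

namespace Rel

variable {D : ChevalleyDatum} {X : Aux} {F : Type*} [Field F] {G : Type*} [Group G] (R : Rel D X F G)
include R

theorem invN_eq_wlen (w : R.WQ) : R.invN w = wlen R.qgen w := by
  induction hn : wlen R.qgen w using Nat.strong_induction_on generalizing w with
  | _ n ih =>
    subst hn
    obtain ⟨l, hl, hll⟩ := R.qgen_genInv.exists_reduced w
    cases l using List.reverseRecOn with
    | nil =>
      rw [wprod_nil] at hl
      subst hl
      rw [R.invN_one, wlen_one]
    | append_singleton l s =>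
      have hlt : wlen R.qgen (w * R.qgen s) < wlen R.qgen w := by
        rw [← hll, ← hl, wprod_append, wprod_cons, wprod_nil, mul_one, R.qgen_genInv.cancel_right]
        have := wlen_le R.qgen l
        simp only [List.length_append, List.length_cons, List.length_nil]; omega
      have h1 := R.invN_mul_simple ((R.rootPerm.wlen_mul_simple_lt_iff w s).1 hlt)
      have h2 := ih _ hlt _ rfl
      have h3 := R.qgen_genInv.wlen_mul_simple_le s (w * R.qgen s)
      rw [R.qgen_genInv.cancel_right] at h3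
      omega

variable [Fintype G]

open scoped _root_.Classical in
theorem card_cl [Finite F] (w : R.WQ) :
    (Finset.univ.filter fun g : G => g ∈ R.cl w).card = Nat.card R.BS * Nat.card F ^ wlen R.qgen w := by
  rw [← Fintype.card_subtype, ← Nat.card_eq_fintype_card, ← R.invN_eq_wlen, ← R.card_Cell, mul_comm, ← Nat.card_prod]
  refine (Nat.card_congr (Equiv.ofBijective (fun x : R.Cell w × ↥R.BS => (⟨x.1.1.out * x.2, ?_⟩ : {g : G // g ∈ R.cl w}))
    ⟨?_, ?_⟩)).symm
  · obtain ⟨c, g, hg, e⟩ := x.1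
    exact R.right_mem_cl x.2.2 (R.cl_of_mk_eq hg (e.trans (QuotientGroup.out_eq' c).symm))
  · rintro ⟨a, b⟩ ⟨a', b'⟩ e
    have e' : a.1.out * (b : G) = a'.1.out * (b' : G) := congrArg Subtype.val e
    have h := congrArg (fun z : G => (z : G ⧸ R.BS)) e'
    simp only [QuotientGroup.mk_mul_of_mem _ b.2, QuotientGroup.mk_mul_of_mem _ b'.2, QuotientGroup.out_eq'] at h
    obtain rfl : a = a' := Subtype.ext h
    rw [Subtype.ext (mul_left_cancel e')]
  · rintro ⟨g, hg⟩
    refine ⟨(⟨(g : G ⧸ R.BS), g, hg, rfl⟩, ⟨((g : G ⧸ R.BS)).out⁻¹ * g,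
      QuotientGroup.eq.1 (QuotientGroup.out_eq' _)⟩), Subtype.ext ?_⟩
    exact mul_inv_cancel_left _ g

/-- the normalised indicator of a cell -/
noncomputable def del (w : R.WQ) : MonoidAlgebra ℂ G :=
  ofFun (open Classical in fun g => if g ∈ R.cl w then ((Nat.card R.BS : ℂ))⁻¹ else 0)

/-- combinations of cells -/
noncomputable def cellSum [Fintype R.WQ] : (R.WQ → ℂ) →ₗ[ℂ] MonoidAlgebra ℂ G where
  toFun v := ∑ w, v w • R.del w
  map_add' a b := by simp [add_smul, Finset.sum_add_distrib]
  map_smul' c a := by simp [Finset.smul_sum, smul_smul]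

theorem coeff_cellSum [Fintype R.WQ] (v : R.WQ → ℂ) {g : G} {w : R.WQ} (hg : g ∈ R.cl w) :
    (R.cellSum v).coeff g = v w * ((Nat.card R.BS : ℂ))⁻¹ := by
  classical
  simp only [cellSum, LinearMap.coe_mk, AddHom.coe_mk, coeff_sum, Finsupp.coe_finsetSum, Finset.sum_apply,
    coeff_smul, Finsupp.smul_apply, del, coeff_ofFun, smul_eq_mul, mul_ite, mul_zero]
  rw [Finset.sum_eq_single w]
  · rw [if_pos hg]
  · intro x _ hx
    rw [if_neg fun h => hx (R.cl_inj h hg)]
  · simp

theorem cellSum_injective [Fintype R.WQ] : Function.Injective R.cellSum := fun a b e => by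
  funext w
  have h := congrArg (fun z : MonoidAlgebra ℂ G => z.coeff (R.rep w : G)) e
  simp only [R.coeff_cellSum _ (R.rep_mem_cl w)] at h
  exact mul_right_cancel₀ (inv_ne_zero (Nat.cast_ne_zero.2 Nat.card_pos.ne')) h

theorem coeff_del_mul (w v : R.WQ) (g : G) [DecidablePred fun x : G => x ∈ R.cl w ∧ x⁻¹ * g ∈ R.cl v] :
    (R.del w * R.del v).coeff g = ((Nat.card R.BS : ℂ))⁻¹ * ((Nat.card R.BS : ℂ))⁻¹ *
      ((Finset.univ.filter fun x : G => x ∈ R.cl w ∧ x⁻¹ * g ∈ R.cl v).card : ℂ) := by
  classical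
  rw [coeff_mul_eq_sum, mul_comm, ← nsmul_eq_mul, ← Finset.sum_const, Finset.sum_filter]
  refine Finset.sum_congr rfl fun x _ => ?_
  simp only [del, coeff_ofFun]
  by_cases h1 : x ∈ R.cl w <;> by_cases h2 : x⁻¹ * g ∈ R.cl v <;> simp [h1, h2]

theorem count_const {w v u : R.WQ} {g g' : G} (hg : g ∈ R.cl u) (hg' : g' ∈ R.cl u)
    [DecidablePred fun x : G => x ∈ R.cl w ∧ x⁻¹ * g ∈ R.cl v]
    [DecidablePred fun x : G => x ∈ R.cl w ∧ x⁻¹ * g' ∈ R.cl v] :
    (Finset.univ.filter fun x : G => x ∈ R.cl w ∧ x⁻¹ * g ∈ R.cl v).card =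
      (Finset.univ.filter fun x : G => x ∈ R.cl w ∧ x⁻¹ * g' ∈ R.cl v).card := by
  classical
  obtain ⟨n, hn, b₁, h₁, b₂, h₂, rfl⟩ := R.exists_of_mem_cl hg
  obtain ⟨m, hm, c₁, k₁, c₂, k₂, rfl⟩ := R.exists_of_mem_cl hg'
  have hH : (m : G)⁻¹ * n ∈ R.HS := R.qmk_eq_one (g := m⁻¹ * n) |>.1 (by
    rw [map_mul, map_inv, hn, hm, inv_mul_cancel])
  -- left and right translation inside the same cell
  refine Finset.card_equiv (Equiv.mulLeft (c₁ * b₁⁻¹)) fun x => ?_
  simp only [Finset.mem_filter, Finset.mem_univ, true_and, Equiv.coe_mulLeft]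
  have e : (c₁ * b₁⁻¹ * x)⁻¹ * (c₁ * m * c₂) =
      x⁻¹ * (b₁ * n * b₂) * (b₂⁻¹ * ((m : G)⁻¹ * n)⁻¹ * c₂) := by group
  rw [e]
  have hb : b₂⁻¹ * ((m : G)⁻¹ * n)⁻¹ * c₂ ∈ R.BS :=
    mul_mem (mul_mem (inv_mem h₂) (inv_mem (R.HS_le_BS hH))) k₂
  refine and_congr ⟨fun h => R.left_mem_cl (mul_mem k₁ (inv_mem h₁)) h, fun h => ?_⟩
    ⟨fun h => R.right_mem_cl hb h, fun h => ?_⟩
  · have := R.left_mem_cl (inv_mem (mul_mem k₁ (inv_mem h₁))) h
    rwa [inv_mul_cancel_left] at this
  · have := R.right_mem_cl (inv_mem hb) h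
    rwa [mul_inv_cancel_right] at this

variable [Fintype F]

/-- products of cells with adding lengths -/
theorem del_mul {w v : R.WQ} (hwv : ∀ r ∈ invSet (R.qact v⁻¹), half D ≤ (R.qact w r : ℕ))
    (hlen : wlen R.qgen (w * v) = wlen R.qgen w + wlen R.qgen v) : R.del w * R.del v = R.del (w * v) := by
  classical
  ext g
  rw [R.coeff_del_mul]
  simp only [del, coeff_ofFun]
  by_cases hg : g ∈ R.cl (w * v)
  · rw [if_pos hg]
    -- count pairs
    set c := (Finset.univ.filter fun x : G => x ∈ R.cl w ∧ x⁻¹ * g ∈ R.cl v).card with hc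
    have h1 : (Finset.univ.filter fun g' : G => g' ∈ R.cl (w * v)).card * c =
        (Finset.univ.filter fun x : G => x ∈ R.cl w).card * (Finset.univ.filter fun x : G => x ∈ R.cl v).card := by
      rw [← smul_eq_mul, ← Finset.sum_const, ← Finset.card_product]
      rw [Finset.sum_congr rfl fun g' hg' => R.count_const (w := w) (v := v) hg (Finset.mem_filter.1 hg').2]
      rw [← Finset.card_sigma]
      refine Finset.card_nbij' (fun z => (z.2, z.2⁻¹ * z.1)) (fun z => ⟨z.1 * z.2, z.1⟩) ?_ ?_ ?_ ?_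
      · rintro ⟨g', x⟩ hz
        simp only [Finset.coe_sigma, Set.mem_sigma_iff, Finset.coe_filter, Finset.mem_univ, true_and,
          Set.mem_setOf_eq] at hz
        simp [hz.2.1, hz.2.2]
      · rintro ⟨x, y⟩ hz
        simp only [Finset.coe_product, Set.mem_prod, Finset.coe_filter, Finset.mem_univ, true_and,
          Set.mem_setOf_eq] at hz
        simp [hz.1, hz.2, R.mul_cl hwv hz.1 hz.2]
      · rintro ⟨g', x⟩ _; simp
      · rintro ⟨x, y⟩ _; simp
    rw [R.card_cl, R.card_cl, R.card_cl, hlen, pow_add] at h1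
    have hc' : c = Nat.card R.BS := by
      refine Nat.eq_of_mul_eq_mul_left
        (show 0 < Nat.card R.BS * (Nat.card F ^ wlen R.qgen w * Nat.card F ^ wlen R.qgen v) from ?_) (h1.trans ?_)
      · exact Nat.mul_pos Nat.card_pos (Nat.mul_pos (pow_pos Nat.card_pos _) (pow_pos Nat.card_pos _))
      · ring
    rw [hc']
    have hB : (Nat.card R.BS : ℂ) ≠ 0 := Nat.cast_ne_zero.2 Nat.card_pos.ne'
    field_simp
  · rw [if_neg hg, Finset.filter_false_of_mem, Finset.card_empty, Nat.cast_zero, mul_zero]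
    intro x _ hx
    have h2 := R.mul_cl hwv hx.1 hx.2
    rw [mul_inv_cancel_left] at h2
    exact hg h2

theorem del_up_left {s : Fin D.rank} {w : R.WQ} (hw : wlen R.qgen (R.qgen s * w) = wlen R.qgen w + 1) :
    R.del (R.qgen s) * R.del w = R.del (R.qgen s * w) := by
  refine R.del_mul (fun r hr => ?_) ?_
  · rw [R.qact_qgen]
    refine R.wperm_pos s r hr.1 fun e => hr.2 ?_
    have h1 : ¬ wlen R.qgen (R.qgen s * w) < wlen R.qgen w := by omega
    rw [R.rootPerm.wlen_simple_mul_lt_iff, not_not] at h1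
    exact e ▸ h1
  · rw [hw, R.rootPerm.exSys.wlen_simple]; omega

theorem del_up_right {s : Fin D.rank} {w : R.WQ} (hw : wlen R.qgen (w * R.qgen s) = wlen R.qgen w + 1) :
    R.del w * R.del (R.qgen s) = R.del (w * R.qgen s) := by
  refine R.del_mul (fun r hr => ?_) ?_
  · have h1 : ¬ wlen R.qgen (w * R.qgen s) < wlen R.qgen w := by omega
    rw [R.rootPerm.wlen_mul_simple_lt_iff, not_not] at h1
    rw [R.qgen_genInv.inv, R.qact_qgen] at hr
    obtain rfl : r = R.sroot s := by
      by_contra hne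
      exact hr.2 (R.wperm_pos s r hr.1 hne)
    exact h1
  · rw [hw, R.rootPerm.exSys.wlen_simple]

theorem del_one_mul (w : R.WQ) : R.del 1 * R.del w = R.del w := by
  rw [R.del_mul (fun r hr => by rw [map_one, Equiv.Perm.one_apply]; exact hr.1) (by rw [one_mul, wlen_one, zero_add]),
    one_mul]

theorem del_mul_one (w : R.WQ) : R.del w * R.del 1 = R.del w := by
  rw [R.del_mul (fun r hr => absurd hr.1 (by
    have h := hr.2
    rw [inv_one, map_one, Equiv.Perm.one_apply] at h
    exact h)) (by rw [mul_one, wlen_one, add_zero]), mul_one]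

theorem mem_wJ_singleton {s : Fin D.rank} {v : R.WQ} (hv : v ∈ R.wJ {(s : ℕ)}) : v = 1 ∨ v = R.qgen s := by
  obtain ⟨l, hl, rfl, hr⟩ := R.rootPerm.exSys.exists_reduced_of_mem_closure hv
  match l, hl, hr with
  | [], _, _ => exact Or.inl rfl
  | [a], hl, _ =>
    have : a = s := Fin.ext (hl a (by simp))
    exact Or.inr (by simp [this])
  | a :: b :: l, hl, hr =>
    exfalso
    have ha : a = s := Fin.ext (hl a (by simp))
    have hb : b = s := Fin.ext (hl b (by simp))
    subst ha hb
    have h1 : wprod R.qgen (b :: b :: l) = wprod R.qgen l := by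
      rw [wprod_cons, wprod_cons, R.qgen_genInv.cancel]
    have h2 := wlen_le R.qgen l
    unfold WReduced at hr
    rw [h1] at hr
    simp only [List.length_cons] at hr
    omega

theorem del_sq (s : Fin D.rank) :
    R.del (R.qgen s) * R.del (R.qgen s) =
      ((Nat.card F : ℂ) - 1) • R.del (R.qgen s) + (Nat.card F : ℂ) • R.del 1 := by
  classical
  have hs1 : R.qgen s ≠ 1 := R.rootPerm.exSys.ne_one s
  set B := Nat.card R.BS with hBdef
  set q := Nat.card F with hqdef
  have hB : (B : ℂ) ≠ 0 := Nat.cast_ne_zero.2 Nat.card_pos.ne'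
  have hcs : (Finset.univ.filter fun x : G => x ∈ R.cl (R.qgen s)).card = B * q := by
    rw [R.card_cl, R.rootPerm.exSys.wlen_simple, pow_one]
  have hmem : ∀ x y, x ∈ R.cl (R.qgen s) → y ∈ R.cl (R.qgen s) → x * y ∈ R.cl 1 ∨ x * y ∈ R.cl (R.qgen s) := by
    intro x y hx hy
    have hJ : R.qgen s ∈ R.wJ {(s : ℕ)} := R.qgen_mem_wJ rfl
    obtain ⟨v, hv, hxy⟩ := R.exists_mem_cl_of_PJ (mul_mem (R.cl_subset_PJ hJ hx) (R.cl_subset_PJ hJ hy))
    rcases R.mem_wJ_singleton hv with rfl | rfl
    · exact Or.inl hxy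
    · exact Or.inr hxy
  have hinv : ∀ x, x⁻¹ ∈ R.cl (R.qgen s) ↔ x ∈ R.cl (R.qgen s) := fun x => by
    constructor <;> intro h <;> have := R.inv_mem_cl h <;> rw [R.qgen_genInv.inv] at this
    · rwa [inv_inv] at this
    · exact this
  have hcount1 : ∀ g ∈ R.cl 1,
      (Finset.univ.filter fun x : G => x ∈ R.cl (R.qgen s) ∧ x⁻¹ * g ∈ R.cl (R.qgen s)).card = B * q := by
    intro g hg
    rw [← hcs]
    refine congrArg Finset.card (Finset.filter_congr fun x _ => ⟨And.left, fun h => ⟨h, ?_⟩⟩)
    exact R.right_mem_cl (R.mem_cl_one.1 hg) ((hinv x).2 h)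
  ext g
  rw [R.coeff_del_mul]
  simp only [coeff_add, Finsupp.coe_add, Pi.add_apply, coeff_smul, Finsupp.smul_apply, smul_eq_mul, del, coeff_ofFun]
  by_cases h1 : g ∈ R.cl 1
  · rw [if_pos h1, if_neg (fun h => hs1 (R.cl_inj h h1)), hcount1 g h1, ← hBdef]
    push_cast
    field_simp
    ring
  by_cases h2 : g ∈ R.cl (R.qgen s)
  · rw [if_pos h2, if_neg h1]
    set c := (Finset.univ.filter fun x : G => x ∈ R.cl (R.qgen s) ∧ x⁻¹ * g ∈ R.cl (R.qgen s)).card with hc
    have h3 : B * (B * q) + (B * q) * c = (B * q) * (B * q) := by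
      have e : ((Finset.univ.filter fun g' : G => g' ∈ R.cl 1).sigma fun g' =>
            Finset.univ.filter fun x : G => x ∈ R.cl (R.qgen s) ∧ x⁻¹ * g' ∈ R.cl (R.qgen s)).card +
          ((Finset.univ.filter fun g' : G => g' ∈ R.cl (R.qgen s)).sigma fun g' =>
            Finset.univ.filter fun x : G => x ∈ R.cl (R.qgen s) ∧ x⁻¹ * g' ∈ R.cl (R.qgen s)).card =
          (B * q) * (B * q) := by
        rw [← hcs, ← Finset.card_product, ← Finset.card_union_of_disjoint]
        · refine Finset.card_nbij' (fun z => (z.2, z.2⁻¹ * z.1)) (fun z => ⟨z.1 * z.2, z.1⟩) ?_ ?_ ?_ ?_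
          · rintro ⟨g', x⟩ hz
            simp only [Finset.mem_coe, Finset.mem_union, Finset.mem_sigma, Finset.mem_filter, Finset.mem_univ,
              true_and] at hz
            simp only [Finset.mem_coe, Finset.mem_product, Finset.mem_filter, Finset.mem_univ, true_and]
            rcases hz with ⟨-, ha, hb⟩ | ⟨-, ha, hb⟩ <;> exact ⟨ha, hb⟩
          · rintro ⟨x, y⟩ hz
            simp only [Finset.mem_coe, Finset.mem_product, Finset.mem_filter, Finset.mem_univ, true_and] at hz
            simp only [Finset.mem_coe, Finset.mem_union, Finset.mem_sigma, Finset.mem_filter, Finset.mem_univ,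
              true_and, inv_mul_cancel_left]
            rcases hmem x y hz.1 hz.2 with h | h
            · exact Or.inl ⟨h, hz.1, hz.2⟩
            · exact Or.inr ⟨h, hz.1, hz.2⟩
          · rintro ⟨g', x⟩ _; simp
          · rintro ⟨x, y⟩ _; simp
        · rw [Finset.disjoint_left]
          rintro ⟨g', x⟩ ha hb
          simp only [Finset.mem_sigma, Finset.mem_filter, Finset.mem_univ, true_and] at ha hb
          exact hs1 (R.cl_inj hb.1 ha.1)
      rw [Finset.card_sigma, Finset.card_sigma,
        Finset.sum_congr rfl fun g' hg' => hcount1 g' (Finset.mem_filter.1 hg').2,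
        Finset.sum_congr rfl fun g' hg' => R.count_const (w := R.qgen s) (v := R.qgen s) (Finset.mem_filter.1 hg').2 h2,
        Finset.sum_const, Finset.sum_const, smul_eq_mul, smul_eq_mul, hcs, R.card_cl, wlen_one, pow_zero, mul_one,
        ← hBdef] at e
      exact e
    have h4 : (B : ℂ) * ((B : ℂ) * q) + ((B : ℂ) * q) * c = ((B : ℂ) * q) * ((B : ℂ) * q) := by exact_mod_cast h3
    have hq : (q : ℂ) ≠ 0 := Nat.cast_ne_zero.2 Nat.card_pos.ne'
    have h5 : (c : ℂ) = (B : ℂ) * ((q : ℂ) - 1) := mul_left_cancel₀ (mul_ne_zero hB hq) (by linear_combination h4)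
    rw [h5]
    field_simp
    ring
  · rw [if_neg h1, if_neg h2, Finset.filter_false_of_mem, Finset.card_empty, Nat.cast_zero]
    · ring
    intro x _ hx
    have h := hmem x (x⁻¹ * g) hx.1 hx.2
    rw [mul_inv_cancel_left] at h
    exact h.elim h1 h2

theorem cellSum_opL [Fintype R.WQ] (s : Fin D.rank) (v : R.WQ → ℂ) :
    R.del (R.qgen s) * R.cellSum v = R.cellSum (Hecke.opL R.qgen (Nat.card F) s v) := by
  classical
  have hb : ∀ w, R.del (R.qgen s) * R.del w = R.cellSum (Hecke.opL R.qgen (Nat.card F) s (Hecke.bas w)) := by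
    have hbas : ∀ w, R.cellSum (Hecke.bas w) = R.del w := fun w => by
      simp [cellSum, Hecke.bas, ite_smul]
    intro w
    rcases Hecke.len_left R.rootPerm.exSys s w with h | h
    · rw [Hecke.opL_bas_up R.rootPerm.exSys _ h, hbas, R.del_up_left h]
    · rw [Hecke.opL_bas_down R.rootPerm.exSys _ h, map_add, map_smul, map_smul, hbas, hbas]
      have e := R.del_up_left (s := s) (w := R.qgen s * w) (by rw [R.qgen_genInv.cancel]; omega)
      rw [R.qgen_genInv.cancel] at e
      rw [← e, ← mul_assoc, R.del_sq, add_mul, smul_mul_assoc, smul_mul_assoc, R.del_one_mul, e]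
      push_cast
      rfl
  have e : v = ∑ w, v w • Hecke.bas w := by
    funext x
    rw [Finset.sum_apply]
    simp [Hecke.bas]
  conv_rhs => rw [e]
  simp only [map_sum, map_smul, ← hb]
  simp [cellSum, Finset.mul_sum, mul_smul_comm]

theorem cellSum_opR [Fintype R.WQ] (s : Fin D.rank) (v : R.WQ → ℂ) :
    R.cellSum v * R.del (R.qgen s) = R.cellSum (Hecke.opR R.qgen (Nat.card F) s v) := by
  classical
  have hb : ∀ w, R.del w * R.del (R.qgen s) = R.cellSum (Hecke.opR R.qgen (Nat.card F) s (Hecke.bas w)) := by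
    have hbas : ∀ w, R.cellSum (Hecke.bas w) = R.del w := fun w => by
      simp [cellSum, Hecke.bas, ite_smul]
    intro w
    rcases Hecke.len_right R.rootPerm.exSys s w with h | h
    · rw [Hecke.opR_bas_up R.rootPerm.exSys _ h, hbas, R.del_up_right h]
    · rw [Hecke.opR_bas_down R.rootPerm.exSys _ h, map_add, map_smul, map_smul, hbas, hbas]
      have e := R.del_up_right (s := s) (w := w * R.qgen s) (by rw [R.qgen_genInv.cancel_right]; omega)
      rw [R.qgen_genInv.cancel_right] at e
      rw [← e, mul_assoc, R.del_sq, mul_add, mul_smul_comm, mul_smul_comm, R.del_mul_one, e]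
      push_cast
      rfl
  have e : v = ∑ w, v w • Hecke.bas w := by
    funext x
    rw [Finset.sum_apply]
    simp [Hecke.bas]
  conv_rhs => rw [e]
  simp only [map_sum, map_smul, ← hb]
  simp [cellSum, Finset.sum_mul, smul_mul_assoc]

open scoped _root_.Classical in
theorem coeff_del_one (g : G) : (R.del 1).coeff g = if g ∈ R.BS then ((Nat.card R.BS : ℂ))⁻¹ else 0 := by
  simp only [del, coeff_ofFun, R.mem_cl_one]

/-- conjugate transpose -/
noncomputable def star' (_R : Rel D X F G) (a : MonoidAlgebra ℂ G) : MonoidAlgebra ℂ G :=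
  ofFun fun g => conj (a.coeff g⁻¹)

theorem coeff_star' (a : MonoidAlgebra ℂ G) (g : G) : (R.star' a).coeff g = conj (a.coeff g⁻¹) := coeff_ofFun _ _

theorem star'_mul (a b : MonoidAlgebra ℂ G) : R.star' (a * b) = R.star' b * R.star' a := by
  ext g
  rw [coeff_star', coeff_mul_eq_sum, coeff_mul_eq_sum, map_sum]
  refine Fintype.sum_equiv (Equiv.mulLeft g) _ _ fun x => ?_
  simp [coeff_star', mul_comm]

theorem coeff_one_comm (a b : MonoidAlgebra ℂ G) : (a * b).coeff 1 = (b * a).coeff 1 := by
  rw [coeff_mul_eq_sum, coeff_mul_eq_sum]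
  refine Fintype.sum_equiv (Equiv.inv G) _ _ fun x => ?_
  simp [mul_comm]

theorem star'_del_one : R.star' (R.del 1) = R.del 1 := by
  classical
  ext g
  simp only [coeff_star', coeff_del_one, inv_mem_iff]
  split_ifs <;> simp

theorem eq_zero_of_star' {a : MonoidAlgebra ℂ G} (h : (R.star' a * a).coeff 1 = 0) : a = 0 := by
  rw [coeff_mul_eq_sum] at h
  simp only [coeff_star', mul_one] at h
  have h2 : ∑ x : G, ((Complex.normSq (a.coeff x⁻¹) : ℝ) : ℂ) = 0 := by
    rw [← h]
    exact Finset.sum_congr rfl fun x _ => Complex.normSq_eq_conj_mul_self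
  rw [← Complex.ofReal_sum, Complex.ofReal_eq_zero,
    Finset.sum_eq_zero_iff_of_nonneg fun x _ => Complex.normSq_nonneg _] at h2
  ext g
  have := h2 g⁻¹ (Finset.mem_univ _)
  rw [Complex.normSq_eq_zero, inv_inv] at this
  simpa using this

/-- the biinvariant elements commuting with all biinvariant elements -/
def bicentre : Submodule ℂ (MonoidAlgebra ℂ G) where
  carrier := {z | R.del 1 * z * R.del 1 = z ∧
    ∀ a, z * (R.del 1 * a * R.del 1) = (R.del 1 * a * R.del 1) * z}
  add_mem' := fun {a b} ha hb => ⟨by rw [mul_add, add_mul, ha.1, hb.1], fun c => by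
    rw [add_mul, mul_add, ha.2 c, hb.2 c]⟩
  zero_mem' := ⟨by simp, fun c => by simp⟩
  smul_mem' := fun c a ha => ⟨by rw [mul_smul_comm, smul_mul_assoc, ha.1], fun d => by
    rw [smul_mul_assoc, mul_smul_comm, ha.2 d]⟩

theorem del_one_sq : R.del 1 * R.del 1 = R.del 1 := R.del_one_mul 1

theorem exists_cellSum [Fintype R.WQ] (a : MonoidAlgebra ℂ G) :
    ∃ v, R.cellSum v = R.del 1 * a * R.del 1 := by
  classical
  have hB : (Nat.card R.BS : ℂ) ≠ 0 := Nat.cast_ne_zero.2 Nat.card_pos.ne'
  have hl : ∀ (x : MonoidAlgebra ℂ G) (b g : G), b ∈ R.BS → (R.del 1 * x).coeff (b * g) = (R.del 1 * x).coeff g := by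
    intro x b g hb
    rw [coeff_mul_eq_sum, coeff_mul_eq_sum]
    refine Fintype.sum_equiv (Equiv.mulLeft b⁻¹) _ _ fun y => ?_
    simp only [Equiv.coe_mulLeft, mul_inv_rev, inv_inv, mul_assoc, coeff_del_one,
      Subgroup.mul_mem_cancel_left _ (inv_mem hb)]
  have hr : ∀ (x : MonoidAlgebra ℂ G) (b g : G), b ∈ R.BS → (x * R.del 1).coeff (g * b) = (x * R.del 1).coeff g := by
    intro x b g hb
    rw [coeff_mul_eq_sum, coeff_mul_eq_sum]
    refine Finset.sum_congr rfl fun y _ => ?_
    simp only [coeff_del_one, ← mul_assoc, Subgroup.mul_mem_cancel_right _ hb]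
  refine ⟨fun w => (Nat.card R.BS : ℂ) * (R.del 1 * a * R.del 1).coeff (R.rep w : G), ?_⟩
  ext g
  obtain ⟨w, hw⟩ := R.exists_cl g
  rw [R.coeff_cellSum _ hw]
  obtain ⟨b, hb, b', hb', e⟩ := DoubleCoset.mem_doubleCoset.1 hw
  rw [e, mul_comm, ← mul_assoc, inv_mul_cancel₀ hB, one_mul, hr (R.del 1 * a) b' _ hb', mul_assoc, hl _ b _ hb]

theorem cellSum_biinv [Fintype R.WQ] (v : R.WQ → ℂ) : R.del 1 * R.cellSum v * R.del 1 = R.cellSum v := by
  simp [cellSum, Finset.mul_sum, Finset.sum_mul, R.del_one_mul, R.del_mul_one]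

theorem commute_del [Fintype R.WQ] {z : MonoidAlgebra ℂ G} (hz : R.del 1 * z * R.del 1 = z)
    (hs : ∀ s, z * R.del (R.qgen s) = R.del (R.qgen s) * z) (w : R.WQ) : z * R.del w = R.del w * z := by
  induction hn : wlen R.qgen w using Nat.strong_induction_on generalizing w with
  | _ n ih =>
    subst hn
    obtain ⟨l, hl, hll⟩ := R.qgen_genInv.exists_reduced w
    cases l with
    | nil =>
      obtain rfl : (1 : R.WQ) = w := hl
      conv_lhs => rw [← hz, mul_assoc, R.del_one_sq, hz]
      conv_rhs => rw [← hz, ← mul_assoc, ← mul_assoc, R.del_one_sq, hz]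
    | cons s l =>
      have hw' : R.qgen s * w = wprod R.qgen l := by rw [← hl, wprod_cons, R.qgen_genInv.cancel]
      have hl1 := wlen_le R.qgen l
      have hlt : wlen R.qgen (R.qgen s * w) < wlen R.qgen w := by
        rw [← hll, hw', List.length_cons]; omega
      have hup : wlen R.qgen (R.qgen s * (R.qgen s * w)) = wlen R.qgen (R.qgen s * w) + 1 := by
        rw [R.qgen_genInv.cancel]
        have := R.qgen_genInv.wlen_le_simple_mul s w
        omega
      have e := R.del_up_left hup
      rw [R.qgen_genInv.cancel] at e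
      rw [← e, ← mul_assoc, hs s, mul_assoc, ih _ hlt _ rfl, ← mul_assoc]

/-- the centre of the Hecke operators is the biinvariant centre -/
noncomputable def centreEquiv [Fintype R.WQ] :
    LinearMap.ker (Hecke.commMap R.qgen (Nat.card F)) ≃ₗ[ℂ] R.bicentre :=
  LinearEquiv.ofBijective
    ((R.cellSum.comp (LinearMap.ker (Hecke.commMap R.qgen (Nat.card F))).subtype).codRestrict R.bicentre (fun v => by
      refine ⟨R.cellSum_biinv _, fun a => ?_⟩
      obtain ⟨u, hu⟩ := R.exists_cellSum a
      have hs : ∀ s, R.cellSum v.1 * R.del (R.qgen s) = R.del (R.qgen s) * R.cellSum v.1 := fun s => by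
        rw [R.cellSum_opL, R.cellSum_opR]
        have := congrFun (LinearMap.mem_ker.1 v.2) s
        simp only [Hecke.commMap, LinearMap.pi_apply, LinearMap.sub_apply, Pi.zero_apply, sub_eq_zero] at this
        rw [this]
      have hw := R.commute_del (R.cellSum_biinv v.1) hs
      rw [← hu]
      show R.cellSum v.1 * (∑ w, u w • R.del w) = (∑ w, u w • R.del w) * R.cellSum v.1
      rw [Finset.mul_sum, Finset.sum_mul]
      exact Finset.sum_congr rfl fun w _ => by rw [mul_smul_comm, smul_mul_assoc, hw]))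
    ⟨fun a b e => Subtype.ext (R.cellSum_injective (congrArg Subtype.val e)), fun z => by
      obtain ⟨v, hv⟩ := R.exists_cellSum z.1
      rw [z.2.1] at hv
      refine ⟨⟨v, LinearMap.mem_ker.2 (funext fun s => sub_eq_zero.2 (R.cellSum_injective ?_))⟩, Subtype.ext hv⟩
      rw [← R.cellSum_opL, ← R.cellSum_opR, hv]
      have h := z.2.2 (R.del (R.qgen s))
      rw [R.del_one_mul, R.del_mul_one] at h
      exact h.symm⟩

theorem finrank_bicentre [Fintype R.WQ] :
    Module.finrank ℂ R.bicentre = Nat.card (ConjClasses R.WQ) := by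
  rw [← R.centreEquiv.finrank_eq]
  exact Hecke.finrank_centre R.rootPerm.exSys (Nat.cast_pos.2 Nat.card_pos)

open scoped _root_.Classical in
theorem coeff_one_del_idem (χ : Cfsg.IrrCharacter G) :
    (R.del 1 * blockIdem {χ}).coeff 1 = (Nat.card R.BS : ℂ)⁻¹ * ((Nat.card G : ℂ)⁻¹ *
      ((χ : G → ℂ) 1 * ∑ b : ↥R.BS, (χ : G → ℂ) b)) := by
  classical
  have := Fintype.ofFinite (Cfsg.IrrCharacter G)
  rw [coeff_mul_eq_sum]
  simp only [coeff_del_one, coeff_blockIdem, ite_mul, zero_mul, mul_one]
  rw [← Finset.sum_filter, Finset.sum_subtype (p := fun g => g ∈ R.BS) _ (fun g => by simp), ← Finset.mul_sum]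
  congr 1
  simp only [blockCoeff_eq_sum]
  rw [← Finset.mul_sum, Finset.mul_sum _ _ ((χ : G → ℂ) 1)]
  congr 1
  refine Finset.sum_congr rfl fun b _ => ?_
  rw [Finset.sum_eq_single χ]
  · rw [inv_inv]
  · intro y hy hne
    exact absurd (Set.mem_singleton_iff.1 (Finset.mem_filter.1 hy).2) hne
  · intro h
    exact absurd (Finset.mem_filter.2 ⟨Finset.mem_univ _, Set.mem_singleton χ⟩) h

open scoped _root_.Classical in
theorem del_idem_eq_zero_iff (χ : Cfsg.IrrCharacter G) :
    R.del 1 * blockIdem {χ} = 0 ↔ ∑ b : ↥R.BS, (χ : G → ℂ) b = 0 := by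
  classical
  have := Fintype.ofFinite (Cfsg.IrrCharacter G)
  have hc := isCentralElt_blockIdem ({χ} : Set (Cfsg.IrrCharacter G))
  constructor
  · intro h
    have h1 := R.coeff_one_del_idem χ
    rw [h] at h1
    simp only [coeff_zero, Finsupp.coe_zero, Pi.zero_apply] at h1
    have h2 : (χ : G → ℂ) 1 ≠ 0 := CfsgLib.Char.IsIrr.apply_one_ne_zero χ.2
    have hB : (Nat.card R.BS : ℂ) ≠ 0 := Nat.cast_ne_zero.2 Nat.card_pos.ne'
    have hG : (Nat.card G : ℂ) ≠ 0 := Nat.cast_ne_zero.2 Nat.card_pos.ne'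
    simpa [h2, hB, hG] using h1.symm
  · intro h
    refine R.eq_zero_of_star' ?_
    have hst : R.star' (blockIdem {χ}) = blockIdem {χ} := by
      ext g
      simp only [coeff_star', coeff_blockIdem, blockCoeff_eq_sum, map_mul, map_inv₀, map_natCast, map_sum, inv_inv]
      congr 1
      refine Finset.sum_congr rfl fun y _ => ?_
      rw [← CfsgLib.Char.IsIrr.map_inv y.2, ← CfsgLib.Char.IsIrr.map_inv y.2, inv_one]
    rw [R.star'_mul, R.star'_del_one, hst, mul_assoc, ← mul_assoc (R.del 1) (R.del 1), R.del_one_sq,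
      ← mul_assoc, R.coeff_one_comm, ← mul_assoc, blockIdem_mul_self, (hc.commute (R.del 1)).eq,
      R.coeff_one_del_idem, h, mul_zero, mul_zero, mul_zero]

open scoped _root_.Classical in
/-- the centre is spanned by the images of the central idempotents -/
theorem finrank_bicentre_eq :
    Module.finrank ℂ R.bicentre =
      Nat.card {χ : Cfsg.IrrCharacter G // ∑ b : ↥R.BS, (χ : G → ℂ) b ≠ 0} := by
  classical
  have := Fintype.ofFinite (Cfsg.IrrCharacter G)
  let ε : {χ : Cfsg.IrrCharacter G // ∑ b : ↥R.BS, (χ : G → ℂ) b ≠ 0} → MonoidAlgebra ℂ G :=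
    fun χ => R.del 1 * blockIdem {χ.1}
  set e := R.del 1 with he
  have hee : e * e = e := R.del_one_sq
  have hli : LinearIndependent ℂ ε := by
    rw [Fintype.linearIndependent_iff]
    intro c hc ψ
    have h := congrArg (fun z => z * blockIdem {ψ.1}) hc
    simp only [Finset.sum_mul, smul_mul_assoc, zero_mul, ε, mul_assoc, blockIdem_mul] at h
    rw [Finset.sum_eq_single ψ] at h
    · rw [Set.inter_self, smul_eq_zero] at h
      exact h.resolve_right fun h0 => ψ.2 ((R.del_idem_eq_zero_iff ψ.1).1 h0)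
    · intro y _ hy
      rw [Set.singleton_inter_eq_empty.2 (fun hm => hy (Subtype.ext (Set.mem_singleton_iff.1 hm))), blockIdem_empty,
        mul_zero, smul_zero]
    · simp
  have hmem : ∀ y, ε y ∈ R.bicentre := fun y => by
    have hy : ε y * e = ε y := by
      show e * blockIdem {y.1} * e = e * blockIdem {y.1}
      rw [mul_assoc, ((isCentralElt_blockIdem _).commute e).eq, ← mul_assoc, hee]
    refine ⟨by show e * (e * blockIdem {y.1}) * e = e * blockIdem {y.1}; rw [← mul_assoc e e, hee]; exact hy, fun a => ?_⟩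
    show e * blockIdem {y.1} * (e * a * e) = (e * a * e) * (e * blockIdem {y.1})
    rw [mul_assoc e (blockIdem {y.1}), ((isCentralElt_blockIdem ({y.1} : Set _)).commute (e * a * e)).eq]
    simp only [← mul_assoc, hee]
    rw [mul_assoc (e * a) e e, hee]
  have hspan : R.bicentre ≤ Submodule.span ℂ (Set.range ε) := by
    let S : MonoidAlgebra ℂ G → MonoidAlgebra ℂ G := fun z => ∑ g : G, single g 1 * z * single g⁻¹ 1
    let Φ : MonoidAlgebra ℂ G →ₗ[ℂ] MonoidAlgebra ℂ G :=
      { toFun := fun z => e * S z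
        map_add' := fun a b => by simp [S, mul_add, add_mul, Finset.sum_add_distrib]
        map_smul' := fun c a => by simp [S, Finset.smul_sum, Finset.mul_sum] }
    have hcent : ∀ z, IsCentralElt (S z) := by
      intro z g h
      have hconj : ∀ (a x : G), (single a 1 * z * single a⁻¹ 1).coeff x = z.coeff (a⁻¹ * x * a) := by
        intro a x
        rw [coeff_mul_eq_sum, Finset.sum_eq_single (x * a)]
        · rw [coeff_mul_eq_sum, Finset.sum_eq_single a]
          · simp [mul_assoc]
          · intro y _ hy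
            simp [Finsupp.single_apply, Ne.symm hy]
          · simp
        · intro y _ hy
          have : ¬ a⁻¹ = y⁻¹ * x := fun h => hy (by rw [← mul_inv_cancel_left y x, ← h]; simp)
          simp [Finsupp.single_apply, this]
        · simp
      simp only [S, coeff_sum, Finsupp.coe_finsetSum, Finset.sum_apply, hconj]
      refine Fintype.sum_equiv (Equiv.mulLeft h⁻¹) _ _ fun x => ?_
      simp [mul_assoc]
    have himg : ∀ z, Φ z ∈ Submodule.span ℂ (Set.range ε) := by
      intro z
      have hexp : S z = ∑ y : Cfsg.IrrCharacter G, omega (y : G → ℂ) (S z) • blockIdem {y} := by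
        refine eq_of_omega_eq (hcent z) (IsCentralElt.sum _ fun y _ => (isCentralElt_blockIdem _).smul _) fun χ => ?_
        symm
        rw [map_sum, Finset.sum_eq_single χ]
        · rw [map_smul, omega_blockIdem, if_pos (Set.mem_singleton χ), smul_eq_mul, mul_one]
        · intro y _ hy
          rw [map_smul, omega_blockIdem, if_neg (fun h => hy (Set.mem_singleton_iff.1 h).symm), smul_zero]
        · simp
      show e * S z ∈ _
      rw [hexp, Finset.mul_sum]
      refine Submodule.sum_mem _ fun y _ => ?_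
      rw [mul_smul_comm]
      refine Submodule.smul_mem _ _ ?_
      by_cases hy : ∑ b : ↥R.BS, (y : G → ℂ) b = 0
      · rw [(R.del_idem_eq_zero_iff y).2 hy]; exact zero_mem _
      · exact Submodule.subset_span ⟨⟨y, hy⟩, rfl⟩
    have hmapsto : ∀ z ∈ R.bicentre, Φ z ∈ R.bicentre := fun z _ => by
      refine (Submodule.span_le.2 ?_) (himg z)
      rintro _ ⟨y, rfl⟩
      exact hmem y
    have hinj : Function.Injective (Φ.restrict hmapsto) := by
      rw [← LinearMap.ker_eq_bot, LinearMap.ker_eq_bot']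
      rintro ⟨z, hz⟩ h0
      refine Subtype.ext (?_ : z = 0)
      have h0' : e * S z = 0 := congrArg Subtype.val h0
      let w : G → MonoidAlgebra ℂ G := fun g => e * single g 1 * e
      have hwst : ∀ g, R.star' (w g) = w g⁻¹ := fun g => by
        have hsing : R.star' (single g 1) = single g⁻¹ 1 := by
          ext x
          simp [coeff_star', Finsupp.single_apply, apply_ite, inv_eq_iff_eq_inv, eq_comm]
          split_ifs with hx
          · rw [hx, inv_inv]
          · exact fun e => hx (by rw [e, inv_inv])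
        simp only [w, he, R.star'_mul, R.star'_del_one, hsing, mul_assoc]
      have hterm : ∀ g, (R.star' z * (e * (single g 1 * z * single g⁻¹ 1) * e)).coeff 1 =
          (R.star' (z * w g) * (z * w g)).coeff 1 := fun g => by
        have e1 : e * (single g 1 * z * single g⁻¹ 1) * e = z * (w g * w g⁻¹) := by
          have e2 : e * (single g 1 * z * single g⁻¹ 1) * e = w g * z * w g⁻¹ := by
            conv_lhs => rw [← hz.1]
            simp only [w, mul_assoc]
            rfl
          rw [e2, ← hz.2, mul_assoc]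
        rw [e1, R.star'_mul, ← hwst]
        rw [show R.star' z * (z * (w g * R.star' (w g))) = (R.star' z * z * w g) * R.star' (w g) by
          simp only [mul_assoc]]
        rw [R.coeff_one_comm]
        simp only [mul_assoc]
      have hsum : ∑ g : G, (R.star' (z * w g) * (z * w g)).coeff 1 = 0 := by
        simp only [← hterm]
        rw [← Finsupp.finsetSum_apply, ← coeff_sum, ← Finset.mul_sum, ← Finset.sum_mul, ← Finset.mul_sum]
        rw [show e * (∑ g : G, single g 1 * z * single g⁻¹ 1) = e * S z from rfl, h0']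
        simp
      have hnn : ∀ g, (R.star' (z * w g) * (z * w g)).coeff 1 =
          ((∑ x, Complex.normSq ((z * w g).coeff x⁻¹) : ℝ) : ℂ) := fun g => by
        rw [coeff_mul_eq_sum]
        push_cast
        refine Finset.sum_congr rfl fun x _ => ?_
        rw [coeff_star', mul_one, Complex.normSq_eq_conj_mul_self]
      simp only [hnn] at hsum
      rw [← Complex.ofReal_sum, Complex.ofReal_eq_zero] at hsum
      have h1 := (Finset.sum_eq_zero_iff_of_nonneg fun g _ => Finset.sum_nonneg fun x _ => Complex.normSq_nonneg _).1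
        hsum 1 (Finset.mem_univ _)
      have hz1 : z * w 1 = z := by
        simp only [w, ← one_def, mul_one, hee]
        conv_lhs => rw [← hz.1]
        rw [mul_assoc, hee, hz.1]
      rw [hz1] at h1
      refine R.eq_zero_of_star' ?_
      rw [coeff_mul_eq_sum]
      refine Finset.sum_eq_zero fun x _ => ?_
      rw [coeff_star', mul_one, ← Complex.normSq_eq_conj_mul_self,
        (Finset.sum_eq_zero_iff_of_nonneg fun x _ => Complex.normSq_nonneg _).1 h1 x (Finset.mem_univ _)]
      simp
    have : FiniteDimensional ℂ R.bicentre := inferInstance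
    intro z hz
    obtain ⟨u, hu⟩ := (LinearMap.injective_iff_surjective.1 hinj) ⟨z, hz⟩
    have h := himg u.1
    rwa [show Φ u.1 = z from congrArg Subtype.val hu] at h
  rw [le_antisymm hspan (Submodule.span_le.2 (Set.range_subset_iff.2 hmem)), finrank_span_eq_card hli,
    Nat.card_eq_fintype_card]

open scoped _root_.Classical in
theorem card_constituents [Fintype R.WQ] :
    Nat.card {χ : Cfsg.IrrCharacter G // ∑ b : ↥R.BS, (χ : G → ℂ) b ≠ 0} = Nat.card (ConjClasses R.WQ) := by
  classical
  rw [← R.finrank_bicentre, R.finrank_bicentre_eq]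

end Rel

end CfsgLib.Lie.Chev
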