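/-
The homomorphism from SL₂ onto the subgroup generated by a root and its negative.
-/
import Cfsg.Agent.Lib.Lie.Rel.Basic

set_option autoImplicit false
set_option maxHeartbeats 800000

namespace CfsgLib.Lie.Chev

open Cfsg.Lie (ChevalleyDatum)
open scoped MatrixGroups

namespace Rel

variable {D : ChevalleyDatum} {X : Aux} {F : Type*} [Field F] {G : Type*} [Group G] (R : Rel D X F G)
  (r : Fin D.nroots)
include R

theorem ne_conj_xe {c : F} (hc : c ≠ 0) (t : F) :
    R.ne r c * R.xe r t * (R.ne r c)⁻¹ = R.xe (R.negF r) (-(t / c ^ 2)) := by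
  obtain ⟨g, _, i, rfl⟩ := R.exists_conj_simple r
  obtain ⟨a, ha⟩ := R.exists_isMon g
  obtain ⟨ha0, hneg, hσ, hact⟩ := ha (R.sroot i)
  have hc' : (a (R.sroot i))⁻¹ * c ≠ 0 := mul_ne_zero (inv_ne_zero ha0) hc
  have h1 := IsMon.conj_ne R ha (R.sroot i) ((a (R.sroot i))⁻¹ * c)
  have h2 := hact ((a (R.sroot i))⁻¹ * t)
  rw [mul_inv_cancel_left₀ ha0] at h1 h2
  have h3 := (ha (R.negF (R.sroot i))).2.2.2 (-((a (R.sroot i))⁻¹ * t / ((a (R.sroot i))⁻¹ * c) ^ 2))
  rw [hneg, hσ] at h3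
  have h4 := (R.isMon_ne_simple i hc' (R.sroot i)).2.2.2 ((a (R.sroot i))⁻¹ * t)
  dsimp only at h4
  rw [R.wperm_sroot, show ((X.eta i (R.sroot i : ℕ) : F)) = -1 by
    rw [show (R.sroot i : ℕ) = D.simple i from rfl, R.cert.eta_simple i.2]; simp,
    show D.cartan i (R.sroot i : ℕ) = 2 from R.cert.cartan_simple i.2] at h4
  rw [← h1, ← h2]
  have e : ∀ x y : G, (g : G) * x * (g : G)⁻¹ * ((g : G) * y * (g : G)⁻¹) * ((g : G) * x * (g : G)⁻¹)⁻¹ =
      (g : G) * (x * y * x⁻¹) * (g : G)⁻¹ := fun x y => by group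
  rw [e]
  erw [h4]
  rw [show (-1 : F) * ((a (R.sroot i))⁻¹ * c) ^ (-(2 : ℤ)) * ((a (R.sroot i))⁻¹ * t) =
    -((a (R.sroot i))⁻¹ * t / ((a (R.sroot i))⁻¹ * c) ^ 2) by rw [zpow_neg, zpow_two, sq]; ring]
  refine h3.trans (congrArg _ ?_)
  field_simp

theorem ne_conj_xe_neg {c : F} (hc : c ≠ 0) (v : F) :
    R.ne r c * R.xe (R.negF r) v * (R.ne r c)⁻¹ = R.xe r (-(c ^ 2 * v)) := by
  have h := R.ne_conj_xe r (neg_ne_zero.2 hc) (-(c ^ 2 * v))
  rw [show -(-(c ^ 2 * v) / (-c) ^ 2) = v by field_simp, R.ne_neg, inv_inv] at h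
  rw [← h]; group

theorem he_conj_xe {a : F} (ha : a ≠ 0) (u : F) : R.he r a * R.xe r u = R.xe r (a ^ 2 * u) * R.he r a := by
  have h1 : R.ne r (-1) * R.xe r u * (R.ne r (-1))⁻¹ = R.xe (R.negF r) (-u) := by
    rw [R.ne_conj_xe r (by norm_num)]; norm_num
  have h2 := R.ne_conj_xe_neg r ha (-u)
  rw [← h1, mul_neg, _root_.neg_neg] at h2
  rw [← h2]
  show R.ne r a * R.ne r (-1) * R.xe r u = _ * (R.ne r a * R.ne r (-1))
  group

theorem ne_sq : R.ne r (1 : F) * R.ne r 1 = R.he r (-1) := by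
  have h : (R.he r (-1 : F))⁻¹ = R.ne r 1 * R.ne r 1 := by
    show (R.ne r (-1) * R.ne r (-1))⁻¹ = _
    rw [R.ne_neg, mul_inv_rev, inv_inv]
  rw [← h]
  have h2 : R.he r (-1 : F) * R.he r (-1) = 1 := by
    rw [R.he_mul r (by norm_num) (by norm_num), show (-1 : F) * -1 = 1 by norm_num, R.he_one]
  exact inv_eq_of_mul_eq_one_right h2

theorem ne_one_mul_he {a : F} (ha : a ≠ 0) : R.ne r 1 * R.he r a = R.he r a⁻¹ * R.ne r 1 := by
  have h1 : R.ne r 1 * R.ne r a * (R.ne r 1)⁻¹ = R.ne (R.negF r) (-a) := by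
    show R.ne r 1 * (R.xe r a * R.xe (R.negF r) (-a⁻¹) * R.xe r a) * (R.ne r 1)⁻¹ = _
    have h := R.ne_conj_xe r (one_ne_zero (α := F)) a
    have h' := R.ne_conj_xe_neg r (one_ne_zero (α := F)) (-a⁻¹)
    simp only [one_pow, div_one, one_mul, _root_.neg_neg] at h h'
    show _ = R.xe (R.negF r : ℕ) (-a) * R.xe (D.neg (R.negF r : ℕ)) (-(-a)⁻¹) * R.xe (R.negF r : ℕ) (-a)
    rw [show D.neg (R.negF r : ℕ) = (r : ℕ) from R.cert.neg_neg r.2, inv_neg, _root_.neg_neg, ← h, ← h']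
    group
  have h2 : R.ne (R.negF r) (-a) = R.ne r a⁻¹ := by
    show R.xe (R.negF r : ℕ) (-a) * R.xe (D.neg (R.negF r : ℕ)) (-(-a)⁻¹) * R.xe (R.negF r : ℕ) (-a) = _
    rw [show D.neg (R.negF r : ℕ) = (r : ℕ) from R.cert.neg_neg r.2, inv_neg, _root_.neg_neg]
    have h5 : R.xe (R.negF r : ℕ) (-a) * R.xe r a⁻¹ = R.xe r (-a⁻¹) * R.ne r a⁻¹ := by
      rw [show (R.negF r : ℕ) = D.neg r from rfl, R.xe_neg_eq r ha, mul_assoc, R.xe_add', neg_add_cancel, R.xe_zero,
        mul_one]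
    have h6 : R.ne r a⁻¹ * R.xe (R.negF r) (-a) = R.xe r a⁻¹ * R.ne r a⁻¹ := by
      have h7 := R.ne_conj_xe_neg r (inv_ne_zero ha) (-a)
      rw [show -(a⁻¹ ^ 2 * -a) = a⁻¹ by field_simp] at h7
      rw [← h7]; group
    rw [h5, mul_assoc, h6, ← mul_assoc, R.xe_add', neg_add_cancel, R.xe_zero, one_mul]
  have h3 : R.ne r 1 * R.ne r a = R.ne r a⁻¹ * R.ne r 1 := by rw [← h2, ← h1]; group
  show R.ne r 1 * (R.ne r a * R.ne r (-1)) = R.ne r a⁻¹ * R.ne r (-1) * R.ne r 1
  rw [← mul_assoc, h3, R.ne_neg]; group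

/-- the Bruhat form of an element of `SL₂` -/
noncomputable def slEval (a b c d : F) : G :=
  open Classical in
  if c = 0 then R.he r a * R.xe r (b / a) else R.xe r (a / c) * R.ne r (-c⁻¹) * R.xe r (d / c)

/-- the map on `SL₂` -/
noncomputable def slMap (g : SL(2, F)) : G := R.slEval r (g.1 0 0) (g.1 0 1) (g.1 1 0) (g.1 1 1)

theorem slEval_upper (t a b c d : F) (hdet : a * d - b * c = 1) :
    R.slEval r (a + t * c) (b + t * d) c d = R.xe r t * R.slEval r a b c d := by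
  by_cases hc : c = 0
  · subst hc
    have ha : a ≠ 0 := fun h => by rw [h] at hdet; simp at hdet
    simp only [slEval, if_true, mul_zero, add_zero]
    have hd : d = a⁻¹ := eq_inv_of_mul_eq_one_right (by linear_combination hdet)
    have key := R.he_conj_xe r ha (t / a ^ 2)
    rw [show a ^ 2 * (t / a ^ 2) = t by field_simp] at key
    rw [hd, ← mul_assoc, ← key, mul_assoc, R.xe_add']
    congr 2
    field_simp
    ring
  · simp only [slEval, if_neg hc]
    rw [← mul_assoc, ← mul_assoc, R.xe_add']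
    congr 3
    field_simp
    ring

theorem slEval_weyl (a b c d : F) (hdet : a * d - b * c = 1) :
    R.slEval r (-c) (-d) a b = R.ne r (-1) * R.slEval r a b c d := by
  have hn : ∀ s : F, R.ne r s = R.he r s * R.ne r 1 := R.ne_eq_he_mul r
  by_cases hc : c = 0
  · subst hc
    have ha : a ≠ 0 := fun h => by rw [h] at hdet; simp at hdet
    simp only [slEval, if_true, if_neg ha, neg_zero, zero_div, R.xe_zero, one_mul]
    have k : R.ne r (-1) * R.he r a = R.he r (-a⁻¹) * R.ne r 1 := by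
      rw [hn (-1), mul_assoc, R.ne_one_mul_he r ha, ← mul_assoc, R.he_mul r (by norm_num) (inv_ne_zero ha),
        neg_one_mul]
    rw [hn (-a⁻¹), ← mul_assoc (R.ne r (-1)), k]
  · by_cases ha : a = 0
    · subst ha
      simp only [slEval, if_true, if_neg hc, zero_div, R.xe_zero, one_mul]
      have hm1 : (-1 : F) ≠ 0 := by norm_num
      have hci : -c⁻¹ ≠ 0 := neg_ne_zero.2 (inv_ne_zero hc)
      rw [← mul_assoc, hn (-c⁻¹), hn (-1), mul_assoc (R.he r (-1)), ← mul_assoc (R.ne r 1),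
        R.ne_one_mul_he r hci, mul_assoc (R.he r (-c⁻¹)⁻¹), R.ne_sq, ← mul_assoc,
        R.he_mul r hm1 (inv_ne_zero hci), R.he_mul r (mul_ne_zero hm1 (inv_ne_zero hci)) hm1]
      congr 2
      · rw [inv_neg, inv_inv]; ring
      · field_simp
    · simp only [slEval, if_neg ha, if_neg hc]
      have hu : a / c ≠ 0 := div_ne_zero ha hc
      have hm1 : (-1 : F) ≠ 0 := by norm_num
      have hci : -c⁻¹ ≠ 0 := neg_ne_zero.2 (inv_ne_zero hc)
      have h1 : R.ne r (-1) * R.xe r (a / c) * (R.ne r (-1))⁻¹ = R.xe (R.negF r) (-(a / c)) := by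
        rw [R.ne_conj_xe r hm1]; norm_num
      have h2 : R.ne r (-1) * R.ne r (-c⁻¹) = R.he r (-c) := by
        rw [hn (-c⁻¹), hn (-1), mul_assoc (R.he r (-1)), ← mul_assoc (R.ne r 1), R.ne_one_mul_he r hci,
          mul_assoc (R.he r (-c⁻¹)⁻¹), R.ne_sq, ← mul_assoc, R.he_mul r hm1 (inv_ne_zero hci),
          R.he_mul r (mul_ne_zero hm1 (inv_ne_zero hci)) hm1]
        congr 1
        rw [inv_neg, inv_inv]; ring
      have h3 : R.xe r (-(a / c)⁻¹) * R.he r (-c) = R.he r (-c) * R.xe r (-(1 / (a * c))) := by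
        rw [R.he_conj_xe r (neg_ne_zero.2 hc)]; congr 2; field_simp
      have h4 : R.ne r (a / c)⁻¹ * R.he r (-c) = R.ne r (-a⁻¹) := by
        rw [hn ((a / c)⁻¹), hn (-a⁻¹), mul_assoc, R.ne_one_mul_he r (neg_ne_zero.2 hc), ← mul_assoc,
          R.he_mul r (inv_ne_zero hu) (inv_ne_zero (neg_ne_zero.2 hc))]
        congr 2; field_simp
      calc R.xe r (-c / a) * R.ne r (-a⁻¹) * R.xe r (b / a)
          = R.xe r (-(a / c)⁻¹) * (R.ne r (a / c)⁻¹ * R.he r (-c)) * (R.xe r (-(1 / (a * c))) * R.xe r (d / c)) := by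
            rw [h4, R.xe_add']
            congr 3 <;> field_simp
            linear_combination -hdet
        _ = R.xe r (-(a / c)⁻¹) * R.ne r (a / c)⁻¹ * (R.xe r (-(a / c)⁻¹) * R.he r (-c)) * R.xe r (d / c) := by
            rw [h3]; group
        _ = R.xe (D.neg r) (-(a / c)) * R.he r (-c) * R.xe r (d / c) := by rw [R.xe_neg_eq r hu]; group
        _ = R.ne r (-1) * R.xe r (a / c) * (R.ne r (-1))⁻¹ * R.he r (-c) * R.xe r (d / c) := by
            rw [h1]; rfl
        _ = R.ne r (-1) * (R.xe r (a / c) * R.ne r (-c⁻¹) * R.xe r (d / c)) := by rw [← h2]; group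

omit R in
theorem sl_mul_val (g h : SL(2, F)) : (g * h).1 = g.1 * h.1 := rfl

theorem slMap_one : R.slMap r 1 = 1 := by simp [slMap, slEval, R.he_one, R.xe_zero]

theorem sl_det (g : SL(2, F)) : g.1 0 0 * g.1 1 1 - g.1 0 1 * g.1 1 0 = 1 := by
  rw [← Matrix.det_fin_two]; exact g.2

omit R in
/-- upper unitriangular element of `SL₂` -/
def slX (t : F) : SL(2, F) := ⟨!![1, t; 0, 1], by simp [Matrix.det_fin_two]⟩

omit R in
/-- the Weyl element of `SL₂` -/
def slW : SL(2, F) := ⟨!![0, -1; 1, 0], by simp [Matrix.det_fin_two]⟩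

omit R in
theorem slX_val (t : F) : (slX t).1 = !![1, t; 0, 1] := rfl

omit R in
theorem slW_val : (slW (F := F)).1 = !![0, -1; 1, 0] := rfl

theorem slMap_slX (t : F) : R.slMap r (slX t) = R.xe r t := by
  simp [slMap, slEval, slX, R.he_one]

theorem slMap_slW : R.slMap r (slW (F := F)) = R.ne r (-1) := by
  simp [slMap, slEval, slW, R.xe_zero]

theorem slMap_slX_mul (t : F) (h : SL(2, F)) : R.slMap r (slX t * h) = R.slMap r (slX t) * R.slMap r h := by
  rw [R.slMap_slX, show R.slMap r h = R.slEval r (h.1 0 0) (h.1 0 1) (h.1 1 0) (h.1 1 1) from rfl, ← R.slEval_upper r t _ _ _ _ (R.sl_det h)]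
  simp [slMap, slX_val, sl_mul_val, Matrix.mul_apply, Fin.sum_univ_two]

theorem slMap_slW_mul (h : SL(2, F)) : R.slMap r (slW * h) = R.slMap r slW * R.slMap r h := by
  rw [R.slMap_slW, show R.slMap r h = R.slEval r (h.1 0 0) (h.1 0 1) (h.1 1 0) (h.1 1 1) from rfl, ← R.slEval_weyl r _ _ _ _ (R.sl_det h)]
  simp [slMap, slW_val, sl_mul_val, Matrix.mul_apply, Fin.sum_univ_two]

/-- elements at which `slMap` is multiplicative -/
noncomputable def slMulSet : Submonoid SL(2, F) where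
  carrier := {g | ∀ h, R.slMap r (g * h) = R.slMap r g * R.slMap r h}
  one_mem' := fun h => by rw [one_mul, R.slMap_one, one_mul]
  mul_mem' := by
    intro x y hx hy h
    rw [mul_assoc, hx, hy, hx, mul_assoc]

theorem slMulSet_eq_top : R.slMulSet r = ⊤ := by
  refine top_unique fun g _ => ?_
  have hX : ∀ t, slX t ∈ R.slMulSet r := R.slMap_slX_mul r
  have hW : slW ∈ R.slMulSet r := R.slMap_slW_mul r
  have hY : ∀ t, slW * slX (-t) * (slW * slW * slW) ∈ R.slMulSet r := fun t =>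
    mul_mem (mul_mem hW (hX _)) (mul_mem (mul_mem hW hW) hW)
  by_cases hc : g.1 1 0 = 0
  · have ha : g.1 0 0 ≠ 0 := fun h => by
      have := R.sl_det g
      rw [h, hc] at this; simp at this
    have e : g = slX (g.1 0 0) * (slW * slX (-(-(g.1 0 0)⁻¹)) * (slW * slW * slW)) * slX (g.1 0 0) *
        slW * slX (g.1 0 1 / g.1 0 0) := by
      have hdet := R.sl_det g
      apply Subtype.ext
      ext i j
      fin_cases i <;> fin_cases j <;>
        simp [slX_val, slW_val, sl_mul_val, Matrix.mul_apply, Fin.sum_univ_two, hc, ha]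
      · field_simp
      · rw [hc] at hdet
        field_simp
        linear_combination hdet
    rw [e]
    exact mul_mem (mul_mem (mul_mem (mul_mem (hX _) (hY _)) (hX _)) hW) (hX _)
  · have e : g = slX (g.1 0 0 / g.1 1 0) * (slX (-(g.1 1 0)⁻¹) *
        (slW * slX (-(g.1 1 0)) * (slW * slW * slW)) * slX (-(g.1 1 0)⁻¹)) * slX (g.1 1 1 / g.1 1 0) := by
      have hdet := R.sl_det g
      apply Subtype.ext
      ext i j
      fin_cases i <;> fin_cases j <;>
        simp [slX_val, slW_val, sl_mul_val, Matrix.mul_apply, Fin.sum_univ_two, hc]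
      · field_simp
        linear_combination -hdet
      · field_simp
    rw [e]
    exact mul_mem (mul_mem (hX _) (mul_mem (mul_mem (hX _) (hY _)) (hX _))) (hX _)

/-- the homomorphism on `SL₂` -/
noncomputable def slHom : SL(2, F) →* G where
  toFun := R.slMap r
  map_one' := R.slMap_one r
  map_mul' g h := (show g ∈ R.slMulSet r from R.slMulSet_eq_top r ▸ Submonoid.mem_top g) h

theorem slHom_lower (t : F) (g : SL(2, F)) (e : g.1 = !![1, 0; t, 1]) : R.slHom r g = R.xe (R.negF r) t := by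
  show R.slMap r g = _
  by_cases ht : t = 0
  · subst ht; simp [slMap, slEval, e, R.he_one, R.xe_zero]
  · simp only [slMap, slEval, e]
    simp only [Matrix.cons_val', Matrix.cons_val_zero, Matrix.cons_val_one, Matrix.empty_val', Matrix.of_apply,
      Matrix.cons_val_fin_one, if_neg ht, one_div]
    have h := R.xe_neg_eq r (neg_ne_zero.2 ht)
    rw [_root_.neg_neg, inv_neg, _root_.neg_neg] at h
    rw [if_neg (show g.1 1 0 ≠ 0 by rw [e]; simpa using ht)]
    exact h.symm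

theorem slHom_range : (R.slHom r).range = Subgroup.closure {g | ∃ t, g = R.xe r t} ⊔
    Subgroup.closure {g | ∃ t, g = R.xe (R.negF r) t} := by
  refine le_antisymm ?_ (sup_le ?_ ?_)
  · rintro _ ⟨g, rfl⟩
    show R.slMap r g ∈ _
    have hX : ∀ t, R.xe r t ∈ Subgroup.closure {g | ∃ t, g = R.xe r t} ⊔
        Subgroup.closure {g | ∃ t, g = R.xe (R.negF r) t} :=
      fun t => Subgroup.mem_sup_left (Subgroup.subset_closure ⟨t, rfl⟩)
    have hne : ∀ s, R.ne r s ∈ Subgroup.closure {g | ∃ t, g = R.xe r t} ⊔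
        Subgroup.closure {g | ∃ t, g = R.xe (R.negF r) t} := fun s =>
      mul_mem (mul_mem (hX _) (Subgroup.mem_sup_right (Subgroup.subset_closure ⟨_, rfl⟩))) (hX _)
    unfold slMap slEval
    split_ifs
    · exact mul_mem (mul_mem (hne _) (hne _)) (hX _)
    · exact mul_mem (mul_mem (hX _) (hne _)) (hX _)
  · refine (Subgroup.closure_le _).2 ?_
    rintro _ ⟨t, rfl⟩
    exact ⟨slX t, R.slMap_slX r t⟩
  · refine (Subgroup.closure_le _).2 ?_
    rintro _ ⟨t, rfl⟩
    exact ⟨⟨!![1, 0; t, 1], by simp [Matrix.det_fin_two]⟩, R.slHom_lower r t _ rfl⟩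

end Rel

end CfsgLib.Lie.Chev
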