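/-
The theorem of Borel and Tits for groups with Chevalley relations: an optimal dominant weight of a
unipotent subgroup is unique, so the normaliser lies in its parabolic subgroup.
-/
import Cfsg.Agent.Lib.Lie.Rel.StCells
import Cfsg.Agent.Lib.Lie.Rel.Parabolic
import Mathlib.Analysis.Normed.Group.Basic
import Mathlib.Topology.Order.Compact
import Mathlib.Topology.Order.Lattice
import Mathlib.Analysis.Real.Sqrt
import Mathlib.Topology.MetricSpace.Bounded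

set_option autoImplicit false

namespace CfsgLib.Lie.Chev

open Cfsg.Lie (ChevalleyDatum)

/-- a real linear height -/
def rhgt (D : ChevalleyDatum) (X : Aux) (lam : Fin D.rank → ℝ) (r : ℕ) : ℝ := ∑ k, lam k * (X.coef k r : ℝ)

/-- positive roots of real height at least `m` -/
def rSet (D : ChevalleyDatum) (X : Aux) (lam : Fin D.rank → ℝ) (m : ℝ) : Set (Fin D.nroots) :=
  {r | half D ≤ (r : ℕ) ∧ m ≤ rhgt D X lam r}

/-- the squared norm of a real height -/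
def rNorm (D : ChevalleyDatum) (X : Aux) (lam : Fin D.rank → ℝ) : ℝ :=
  ∑ r : Fin D.nroots, rhgt D X lam r ^ 2

/-- sets of positive roots closed under the commutator terms -/
def PosClosed (D : ChevalleyDatum) (S : Set (Fin D.nroots)) : Prop :=
  S ⊆ posSet D ∧ ∀ r ∈ S, ∀ s ∈ S, ∀ c ∈ D.commTerms (r : ℕ) (s : ℕ), ∀ h : c.1 < D.nroots,
    (⟨c.1, h⟩ : Fin D.nroots) ∈ S

namespace Rel

variable {D : ChevalleyDatum} {X : Aux} {F : Type*} [Field F] {G : Type*} [Group G] (R : Rel D X F G)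
include R

/-- membership with coordinates supported on `A` -/
theorem exists_oprod_closed {A : Set (Fin D.nroots)} (hA : PosClosed D A) {g : G} (hg : g ∈ R.US A) :
    ∃ t : ℕ → F, (∀ r : ℕ, (∀ h : r < D.nroots, (⟨r, h⟩ : Fin D.nroots) ∉ A) → t r = 0) ∧
      g = R.oprod (half D) (half D) t := by
  classical
  let Sup : ℕ → ℕ → Set G := fun k n => {g | ∃ t : ℕ → F,
    (∀ r : ℕ, (∀ h : r < D.nroots, (⟨r, h⟩ : Fin D.nroots) ∉ A) → t r = 0) ∧ g = R.oprod k n t}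
  have key : ∀ n k, half D ≤ k → k + n = D.nroots → ∀ r ∈ A, k ≤ (r : ℕ) → ∀ (s : F), ∀ g ∈ Sup k n,
      R.xe (r : ℕ) s * g ∈ Sup k n := by
    intro n
    induction n with
    | zero => intro k _ hkn r _ hr; exact absurd r.2 (by omega)
    | succ n ih =>
      intro k hk hkn r hr hkr s g hg
      obtain ⟨t, ht, rfl⟩ := hg
      have hrest : R.oprod (k + 1) n t ∈ Sup (k + 1) n := ⟨t, ht, rfl⟩
      have hpre : ∀ (a : F), (a = 0 ∨ ∃ h : k < D.nroots, (⟨k, h⟩ : Fin D.nroots) ∈ A) →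
          ∀ g ∈ Sup (k + 1) n, R.xe k a * g ∈ Sup k (n + 1) := by
        rintro a ha g ⟨t', ht', rfl⟩
        refine ⟨Function.update t' k a, fun r' hr' => ?_, ?_⟩
        · by_cases e : r' = k
          · subst e
            rw [Function.update_self]
            rcases ha with ha | ⟨h, ha⟩
            · exact ha
            · exact absurd ha (hr' h)
          · rw [Function.update_of_ne e]; exact ht' r' hr'
        · rw [R.oprod_succ, Function.update_self]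
          congr 1
          exact R.oprod_congr fun r' h1 _ => (Function.update_of_ne (by omega) _ _).symm
      rw [R.oprod_succ]
      rcases hkr.lt_or_eq with hlt | heq
      · by_cases htk : t k = 0
        · rw [htk, R.xe_zero, one_mul]
          have := hpre 0 (Or.inl rfl) _ (ih (k + 1) (by omega) (by omega) r hr hlt s _ hrest)
          rwa [R.xe_zero, one_mul] at this
        · have hkA : ∃ h : k < D.nroots, (⟨k, h⟩ : Fin D.nroots) ∈ A := by
            by_contra hc; push Not at hc; exact htk (ht k hc)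
          obtain ⟨hkn', hkA'⟩ := hkA
          have hrp : half D ≤ (r : ℕ) := hA.1 hr
          have hcomm := R.xe_comm k r (t k) s hkn' r.2 (by omega) (fun e => by
            rw [e] at hrp; exact ((R.cert.half_le_neg_iff hkn').1 hrp).not_ge hk)
          rw [← mul_assoc, hcomm, mul_assoc, mul_assoc]
          refine hpre (t k) (Or.inr ⟨hkn', hkA'⟩) _ (ih (k + 1) (by omega) (by omega) r hr hlt s _ ?_)
          have hW : ∀ (L : List (ℕ × F)), (∀ p ∈ L, ∃ h : p.1 < D.nroots, (⟨p.1, h⟩ : Fin D.nroots) ∈ A ∧ k < p.1) →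
              (L.map fun p => R.xe p.1 p.2).prod * R.oprod (k + 1) n t ∈ Sup (k + 1) n := by
            intro L
            induction L with
            | nil => intro _; simpa using hrest
            | cons p L ihL =>
              intro hL
              obtain ⟨h, hp, hkp⟩ := hL p (by simp)
              rw [List.map_cons, List.prod_cons, mul_assoc]
              exact ih (k + 1) (by omega) (by omega) ⟨p.1, h⟩ hp hkp p.2 _ (ihL fun q hq => hL q (by simp [hq]))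
          refine hW _ fun p hp => ?_
          simp only [ChevalleyDatum.commWord, List.mem_map] at hp
          obtain ⟨c, hc, rfl⟩ := hp
          obtain ⟨h1, -, -, h4, -⟩ := R.cert.commTerms_props hkn' r.2 c hc
          exact ⟨h1, hA.2 _ hkA' r hr c hc h1, (h4 hk hrp).1⟩
      · subst heq
        rw [← mul_assoc, R.xe_add']
        exact hpre _ (Or.inr ⟨r.2, by simpa using hr⟩) _ hrest
  show g ∈ Sup (half D) (half D)
  refine closure_induction_symm R.gens_symm ?h1 ?hmul hg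
  case h1 => exact ⟨0, fun _ _ => rfl, by simp [oprod, R.xe_zero]⟩
  case hmul =>
    intro x hx y ih
    obtain ⟨r, hr, s, rfl⟩ := hx
    exact key _ _ le_rfl (by have := R.cert.nroots_eq; omega) r hr (hA.1 hr) s y ih

theorem US_inf_closed {A B : Set (Fin D.nroots)} (hA : PosClosed D A) (hB : PosClosed D B) {g : G}
    (h1 : g ∈ R.US A) (h2 : g ∈ R.US B) : g ∈ R.US (A ∩ B) := by
  classical
  obtain ⟨t, ht, rfl⟩ := R.exists_oprod_closed hA h1
  obtain ⟨t', ht', e⟩ := R.exists_oprod_closed hB h2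
  have heq := R.oprod_inj (half D) (half D) t t' le_rfl (by have := R.cert.nroots_eq; omega) (by rw [e])
  refine list_prod_mem fun x hx => ?_
  simp only [List.mem_map, List.mem_range'_1] at hx
  obtain ⟨r, ⟨hr1, hr2⟩, rfl⟩ := hx
  have hrn : r < D.nroots := by have := R.cert.nroots_eq; omega
  by_cases hr : (⟨r, hrn⟩ : Fin D.nroots) ∈ A ∩ B
  · exact R.xe_mem_US hr _
  · have : t r = 0 := by
      by_cases hrA : (⟨r, hrn⟩ : Fin D.nroots) ∈ A
      · rw [heq r hr1 hr2]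
        exact ht' r fun _ hc => hr ⟨hrA, hc⟩
      · exact ht r fun _ hc => hrA hc
    rw [this, R.xe_zero]; exact one_mem _

theorem pos_closed : PosClosed D (posSet D) :=
  ⟨subset_rfl, fun r hr s hs c hc _ => ((R.cert.commTerms_props r.2 s.2 c hc).2.2.2.1 hr hs).2.2⟩

theorem rhgt_comm (lam : Fin D.rank → ℝ) {r s : Fin D.nroots} {c : ℕ × ℤ × ℕ × ℕ}
    (hc : c ∈ D.commTerms r s) :
    rhgt D X lam c.1 = (c.2.2.1 : ℝ) * rhgt D X lam r + (c.2.2.2 : ℝ) * rhgt D X lam s := by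
  rw [rhgt, rhgt, rhgt, Finset.mul_sum, Finset.mul_sum, ← Finset.sum_add_distrib]
  refine Finset.sum_congr rfl fun k _ => ?_
  rw [(R.cert.commTerms_props r.2 s.2 c hc).2.2.2.2 k k.2]
  push_cast
  ring

theorem rSet_closed (lam : Fin D.rank → ℝ) {m : ℝ} (hm : 0 ≤ m) : PosClosed D (rSet D X lam m) := by
  refine ⟨fun r hr => hr.1, fun r hr s hs c hc h => ?_⟩
  obtain ⟨-, h1, h2, h4, -⟩ := R.cert.commTerms_props r.2 s.2 c hc
  refine ⟨(h4 hr.1 hs.1).2.2, ?_⟩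
  show m ≤ rhgt D X lam c.1
  rw [R.rhgt_comm lam hc]
  have a1 : (1 : ℝ) ≤ c.2.2.1 := by exact_mod_cast h1
  have a2 : (1 : ℝ) ≤ c.2.2.2 := by exact_mod_cast h2
  nlinarith [hr.2, hs.2]

theorem rhgt_sroot (lam : Fin D.rank → ℝ) (i : Fin D.rank) : rhgt D X lam (R.sroot i : ℕ) = lam i := by
  rw [rhgt, Finset.sum_eq_single i (fun k _ hk => by rw [R.coef_sroot, if_neg hk]; simp) (by simp)]
  simp [R.coef_sroot]

theorem rhgt_negF (lam : Fin D.rank → ℝ) (r : Fin D.nroots) :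
    rhgt D X lam (R.negF r : ℕ) = -rhgt D X lam r := by
  rw [rhgt, rhgt, ← Finset.sum_neg_distrib]
  refine Finset.sum_congr rfl fun k _ => ?_
  rw [show (R.negF r : ℕ) = D.neg (r : ℕ) from rfl, R.cert.coef_neg r.2 k.2]
  push_cast
  ring

theorem rhgt_nonneg {lam : Fin D.rank → ℝ} (h : ∀ k, 0 ≤ lam k) {r : Fin D.nroots} (hr : half D ≤ (r : ℕ)) :
    0 ≤ rhgt D X lam r :=
  Finset.sum_nonneg fun k _ => mul_nonneg (h k) (by exact_mod_cast R.cert.coef_nonneg r.2 k.2 hr)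

theorem rhgt_nonpos {lam : Fin D.rank → ℝ} (h : ∀ k, 0 ≤ lam k) {r : Fin D.nroots} (hr : ¬ half D ≤ (r : ℕ)) :
    rhgt D X lam r ≤ 0 := by
  have := R.rhgt_nonneg h ((R.negF_pos_iff r).2 hr)
  rw [R.rhgt_negF] at this
  linarith

/-- composing a height with a Weyl group element -/
theorem rhgt_qact (lam : Fin D.rank → ℝ) (w : R.WQ) (r : Fin D.nroots) :
    rhgt D X (fun k => rhgt D X lam (R.qact w (R.sroot k) : ℕ)) r = rhgt D X lam (R.qact w r : ℕ) := by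
  simp only [rhgt]
  rw [Finset.sum_congr rfl fun k _ => Finset.sum_mul _ _ _, Finset.sum_comm]
  refine Finset.sum_congr rfl fun j _ => ?_
  rw [R.isLin_qact w r j]
  push_cast
  rw [Finset.mul_sum]
  exact Finset.sum_congr rfl fun k _ => by ring

theorem keep_closed (n : R.NS) (lam : Fin D.rank → ℝ) {m : ℝ} (hm : 0 ≤ m) :
    PosClosed D {r | half D ≤ (r : ℕ) ∧ R.nsPerm n r ∈ rSet D X lam m} := by
  refine ⟨fun r hr => hr.1, fun r hr s hs c hc h => ?_⟩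
  obtain ⟨-, h1, h2, h4, h5⟩ := R.cert.commTerms_props r.2 s.2 c hc
  have hlin : ∀ j : Fin D.rank, X.coef j (R.nsPerm n ⟨c.1, h⟩ : ℕ) =
      (c.2.2.1 : ℤ) * X.coef j (R.nsPerm n r : ℕ) + (c.2.2.2 : ℤ) * X.coef j (R.nsPerm n s : ℕ) := fun j => by
    rw [R.isLin_nsPerm n ⟨c.1, h⟩ j, R.isLin_nsPerm n r j, R.isLin_nsPerm n s j, Finset.mul_sum, Finset.mul_sum,
      ← Finset.sum_add_distrib]
    refine Finset.sum_congr rfl fun i _ => ?_
    rw [show X.coef i ((⟨c.1, h⟩ : Fin D.nroots) : ℕ) = X.coef i c.1 from rfl, h5 i i.2]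
    ring
  refine ⟨(h4 hr.1 hs.1).2.2, ?_, ?_⟩
  · rw [R.pos_iff_coef]
    intro j
    rw [hlin j]
    exact add_nonneg (mul_nonneg (Int.natCast_nonneg _) ((R.pos_iff_coef _).1 hr.2.1 j))
      (mul_nonneg (Int.natCast_nonneg _) ((R.pos_iff_coef _).1 hs.2.1 j))
  · have hf : rhgt D X lam (R.nsPerm n ⟨c.1, h⟩ : ℕ) = (c.2.2.1 : ℝ) * rhgt D X lam (R.nsPerm n r : ℕ) +
        (c.2.2.2 : ℝ) * rhgt D X lam (R.nsPerm n s : ℕ) := by
      simp only [rhgt, hlin, Finset.mul_sum, ← Finset.sum_add_distrib]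
      refine Finset.sum_congr rfl fun k _ => ?_
      push_cast
      ring
    rw [hf]
    have a1 : (1 : ℝ) ≤ c.2.2.1 := by exact_mod_cast h1
    have a2 : (1 : ℝ) ≤ c.2.2.2 := by exact_mod_cast h2
    nlinarith [hr.2.2, hs.2.2]

theorem rSet_zero : rSet D X (0 : Fin D.rank → ℝ) 0 = posSet D := by
  ext r
  refine ⟨fun h => h.1, fun h => ⟨h, ?_⟩⟩
  simp [rhgt]

/-- intersections of two conjugated pieces of `U` are generated by root groups -/
theorem mem_US_of_conj {A : Set (Fin D.nroots)} (hA : PosClosed D A) (n : R.NS) (lam : Fin D.rank → ℝ) {m : ℝ}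
    (hm : 0 ≤ m) {y : G} (hy : y ∈ R.US A) (hy' : (n : G)⁻¹ * y * n ∈ R.US (rSet D X lam m)) :
    y ∈ R.US {r | r ∈ A ∧ R.nsPerm n⁻¹ r ∈ rSet D X lam m} := by
  obtain ⟨p, hp, q, hq, e⟩ := R.exists_UP_factor (R.nsPerm n⁻¹) (R.US_mono hA.1 hy)
  have hp' : (n : G)⁻¹ * p * n ∈ R.UP := by
    have := R.conj_keep (n := n⁻¹) hp
    simpa using this
  have hq' : (n : G)⁻¹ * q * n ∈ R.UN := by
    have := R.conj_inv (n := n⁻¹) hq
    simpa using this
  have hq1 : (n : G)⁻¹ * q * n ∈ R.BS := by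
    rw [show (n : G)⁻¹ * q * n = ((n : G)⁻¹ * p * n)⁻¹ * ((n : G)⁻¹ * y * n) by rw [e]; group]
    exact R.UP_le_BS (mul_mem (inv_mem hp') (R.US_mono (fun r hr => hr.1) hy'))
  have hq0 : q = 1 := by
    have := R.BS_inf_UN hq1 hq'
    rw [mul_assoc, inv_mul_eq_one] at this
    exact mul_eq_right.1 this.symm
  rw [hq0, mul_one] at e
  subst e
  have hk : (n : G)⁻¹ * y * n ∈ R.US {r | half D ≤ (r : ℕ) ∧ R.nsPerm n r ∈ rSet D X (0 : Fin D.rank → ℝ) 0} := by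
    obtain ⟨a, ha⟩ := R.isMon_nsPerm n⁻¹
    have := IsMon.conj_mem_US R ha (T := {r | half D ≤ (r : ℕ) ∧ R.nsPerm n r ∈ rSet D X (0 : Fin D.rank → ℝ) 0})
      (fun r hr => ⟨hr.2, ?_⟩) hp
    · simpa using this
    · rw [R.rSet_zero, map_inv, Equiv.Perm.coe_inv, Equiv.apply_symm_apply]
      exact hr.1
  have h1 := R.US_inf_closed (R.rSet_closed lam hm) (R.keep_closed n 0 le_rfl) hy' hk
  obtain ⟨a, ha⟩ := R.isMon_nsPerm n
  have h2 : y ∈ R.US {r | half D ≤ (r : ℕ) ∧ R.nsPerm n⁻¹ r ∈ rSet D X lam m} := by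
    have := IsMon.conj_mem_US R ha (T := {r | half D ≤ (r : ℕ) ∧ R.nsPerm n⁻¹ r ∈ rSet D X lam m})
      (fun r hr => ⟨hr.2.2.1, by rw [map_inv, Equiv.Perm.coe_inv, Equiv.symm_apply_apply]; exact hr.1⟩) h1
    simpa [mul_assoc] using this
  exact R.US_mono (fun r hr => show _ ∧ _ from ⟨hr.1, hr.2.2⟩)
    (R.US_inf_closed hA (R.keep_closed n⁻¹ lam hm) hy h2)

theorem BS_normalizes_rSet {lam : Fin D.rank → ℝ} (hlam : ∀ k, 0 ≤ lam k) {m : ℝ} (hm : 0 ≤ m) :
    R.BS ≤ Subgroup.normalizer (R.US (rSet D X lam m) : Set G) := by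
  refine sup_le (R.US_le fun s hs t => R.xe_mem_normalizer (fun r hr t' u => ?_) t) (R.HS_le_normalizer_US _)
  by_cases hrs : s = r
  · subst hrs
    rw [mul_assoc, R.xe_add', ← R.xe_neg, R.xe_add']
    exact R.xe_mem_US hr _
  · refine R.xe_conj_mem hrs (fun e => ?_) hr (fun c hc h => ?_) t' u
    · exact (R.negF_pos_iff r).1 (e ▸ hs) hr.1
    · obtain ⟨-, h1, h2, h4, -⟩ := R.cert.commTerms_props r.2 s.2 c hc
      refine ⟨(h4 hr.1 hs).2.2, ?_⟩
      show m ≤ rhgt D X lam c.1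
      rw [R.rhgt_comm lam hc]
      have a1 : (1 : ℝ) ≤ c.2.2.1 := by exact_mod_cast h1
      have a2 : (1 : ℝ) ≤ c.2.2.2 := by exact_mod_cast h2
      nlinarith [hr.2, R.rhgt_nonneg hlam hs]

/-- every real height is dominant after a Weyl group element -/
theorem exists_dominant (lam : Fin D.rank → ℝ) :
    ∃ w : R.WQ, ∀ k, 0 ≤ rhgt D X lam (R.qact w (R.sroot k) : ℕ) := by
  classical
  have := R.rootPerm.finite
  let cnt : R.WQ → ℕ := fun w =>
    (Finset.univ.filter fun r : Fin D.nroots => half D ≤ (r : ℕ) ∧ rhgt D X lam (R.qact w r : ℕ) < 0).card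
  obtain ⟨w, hw⟩ := Finite.exists_min cnt
  refine ⟨w, fun k => ?_⟩
  by_contra hk
  push Not at hk
  have hlt : cnt (w * R.qgen k) < cnt w := by
    refine lt_of_eq_of_lt (Finset.card_map (R.wperm k).toEmbedding).symm (Finset.card_lt_card ?_)
    rw [Finset.ssubset_iff_of_subset ?_]
    · refine ⟨R.sroot k, by simp [R.sroot_pos k, hk], fun h => ?_⟩
      simp only [Finset.mem_map, Finset.mem_filter, Finset.mem_univ, true_and, Equiv.coe_toEmbedding] at h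
      obtain ⟨r, ⟨hr, -⟩, e⟩ := h
      have := congrArg (R.wperm k) e
      rw [R.wperm_invol, R.wperm_sroot] at this
      exact (R.negF_pos_iff _).1 (this ▸ hr) (R.sroot_pos k)
    · intro x hx
      simp only [Finset.mem_map, Finset.mem_filter, Finset.mem_univ, true_and, Equiv.coe_toEmbedding] at hx ⊢
      obtain ⟨r, ⟨hr, hneg⟩, rfl⟩ := hx
      rw [R.qact_mul_apply, R.qact_qgen] at hneg
      refine ⟨R.wperm_pos k r hr fun e => ?_, hneg⟩
      rw [e, R.wperm_sroot, R.qact_negF, R.rhgt_negF] at hneg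
      linarith
  exact (hw _).not_gt hlt

/-- two dominant heights in one orbit are equal, and the element stabilises them -/
theorem dominant_unique {a b : Fin D.rank → ℝ} (ha : ∀ k, 0 ≤ a k) (hb : ∀ k, 0 ≤ b k) (w : R.WQ)
    (h : ∀ r : Fin D.nroots, rhgt D X b r = rhgt D X a (R.qact w r : ℕ)) :
    b = a ∧ w ∈ R.wJ {m | ∃ k : Fin D.rank, (k : ℕ) = m ∧ a k = 0} := by
  induction hN : R.invN w using Nat.strong_induction_on generalizing w with
  | _ N ih =>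
    by_cases hw : w = 1
    · subst hw
      refine ⟨funext fun k => ?_, one_mem _⟩
      have := h (R.sroot k)
      rwa [map_one, Equiv.Perm.one_apply, R.rhgt_sroot, R.rhgt_sroot] at this
    obtain ⟨k, hk⟩ := R.exists_descent hw
    have h0 : b k = 0 := by
      have h1 := h (R.sroot k)
      rw [R.rhgt_sroot] at h1
      exact le_antisymm (h1 ▸ R.rhgt_nonpos ha hk) (hb k)
    have hinv : ∀ r : Fin D.nroots, rhgt D X b (R.wperm k r : ℕ) = rhgt D X b r := by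
      intro r
      refine Finset.sum_congr rfl fun j _ => ?_
      rw [R.wperm_apply, R.cert.coef_w k.2 r.2 j.2]
      split_ifs with hj
      · rw [show b j = 0 by rw [Fin.ext hj]; exact h0]; simp
      · rfl
    have hlt := R.invN_mul_simple hk
    obtain ⟨e, hmem⟩ := ih _ (by omega) (w * R.qgen k) (fun r => by
      rw [R.qact_mul_apply, R.qact_qgen, ← h, hinv]) rfl
    refine ⟨e, ?_⟩
    have hkJ : R.qgen k ∈ R.wJ {m | ∃ k : Fin D.rank, (k : ℕ) = m ∧ a k = 0} :=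
      R.qgen_mem_wJ ⟨k, rfl, by rw [← e]; exact h0⟩
    have := mul_mem hmem hkJ
    rwa [R.qgen_genInv.cancel_right] at this

theorem rNorm_qact (lam : Fin D.rank → ℝ) (w : R.WQ) :
    rNorm D X (fun k => rhgt D X lam (R.qact w (R.sroot k) : ℕ)) = rNorm D X lam := by
  simp only [rNorm, R.rhgt_qact]
  exact Equiv.sum_comp (R.qact w) (fun r : Fin D.nroots => rhgt D X lam r ^ 2)

theorem sq_le_rNorm (lam : Fin D.rank → ℝ) (k : Fin D.rank) : lam k ^ 2 ≤ rNorm D X lam := by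
  rw [← R.rhgt_sroot lam k]
  exact Finset.single_le_sum (f := fun r : Fin D.nroots => rhgt D X lam r ^ 2) (fun r _ => sq_nonneg _)
    (Finset.mem_univ _)

omit R in
theorem rhgt_smul (c : ℝ) (lam : Fin D.rank → ℝ) (r : ℕ) : rhgt D X (c • lam) r = c * rhgt D X lam r := by
  simp [rhgt, Finset.mul_sum, mul_assoc]

omit R in
theorem rNorm_smul (c : ℝ) (lam : Fin D.rank → ℝ) : rNorm D X (c • lam) = c ^ 2 * rNorm D X lam := by
  simp [rNorm, rhgt_smul, Finset.mul_sum, mul_pow]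

omit R in
theorem rhgt_continuous (r : ℕ) : Continuous fun lam : Fin D.rank → ℝ => rhgt D X lam r := by
  simp only [rhgt]
  fun_prop

/-- an optimal dominant height exists -/
theorem exists_optimal [Finite F] (Q : Subgroup G) (hne : Q ≠ ⊥) (g₀ : G) (hg₀ : ∀ x ∈ Q, g₀⁻¹ * x * g₀ ∈ R.UP) :
    ∃ (g : G) (lam : Fin D.rank → ℝ) (m : ℝ), (∀ k, 0 ≤ lam k) ∧ rNorm D X lam = 1 ∧ 0 < m ∧
      (∀ x ∈ Q, g⁻¹ * x * g ∈ R.US (rSet D X lam m)) ∧
      ∀ (g' : G) (mu : Fin D.rank → ℝ) (m' : ℝ), (∀ k, 0 ≤ mu k) → rNorm D X mu = 1 →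
        (∀ x ∈ Q, g'⁻¹ * x * g' ∈ R.US (rSet D X mu m')) → m' ≤ m := by
  classical
  have := R.Finite_of_field
  have hK : IsCompact {lam : Fin D.rank → ℝ | (∀ k, 0 ≤ lam k) ∧ rNorm D X lam = 1} := by
    refine IsCompact.of_isClosed_subset (isCompact_univ_pi fun _ => isCompact_Icc (a := (0 : ℝ)) (b := 1)) ?_ ?_
    · refine IsClosed.inter ?_ ?_
      · show IsClosed {lam : Fin D.rank → ℝ | ∀ k, 0 ≤ lam k}
        rw [show {lam : Fin D.rank → ℝ | ∀ k, 0 ≤ lam k} = ⋂ k, {lam | 0 ≤ lam k} by ext; simp]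
        exact isClosed_iInter fun k => isClosed_le continuous_const (continuous_apply k)
      · exact isClosed_eq (continuous_finsetSum _ fun r _ => (rhgt_continuous r).pow 2) continuous_const
    · rintro lam ⟨h1, h2⟩ k -
      exact ⟨h1 k, by nlinarith [R.sq_le_rNorm lam k, h1 k, h2]⟩
  obtain ⟨one, hone⟩ : ∃ one : Fin D.rank → ℝ, one = fun _ => 1 := ⟨_, rfl⟩
  have hk0 : Nonempty (Fin D.rank) := ⟨⟨0, R.cert.rank_pos⟩⟩
  have hN0 : 0 < rNorm D X one := by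
    obtain ⟨k⟩ := hk0
    have := R.sq_le_rNorm one k
    rw [hone] at this ⊢
    norm_num at this ⊢
    linarith
  obtain ⟨c, hc⟩ : ∃ c : ℝ, c = (Real.sqrt (rNorm D X one))⁻¹ := ⟨_, rfl⟩
  have hc0 : 0 < c := hc ▸ inv_pos.2 (Real.sqrt_pos.2 hN0)
  have hu0 : ∀ k, 0 ≤ (c • one) k := fun k => by rw [hone]; simpa using hc0.le
  have hu1 : rNorm D X (c • one) = 1 := by
    rw [rNorm_smul, hc, inv_pow, Real.sq_sqrt hN0.le, inv_mul_cancel₀ hN0.ne']
  have hupos : ∀ r : Fin D.nroots, half D ≤ (r : ℕ) → 0 < rhgt D X (c • one) r := by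
    intro r hr
    rw [rhgt_smul]
    refine mul_pos hc0 ?_
    obtain ⟨j, hj⟩ := R.exists_coef_ne_zero r
    have hnn : ∀ i : Fin D.rank, 0 ≤ one i * (X.coef i (r : ℕ) : ℝ) := fun i => by
      rw [hone]; simpa using R.cert.coef_nonneg r.2 i.2 hr
    refine lt_of_lt_of_le ?_ (Finset.single_le_sum (fun i _ => hnn i) (Finset.mem_univ j))
    rw [hone]
    simpa using lt_of_le_of_ne (R.cert.coef_nonneg r.2 j.2 hr) (Ne.symm hj)
  let P := {x : G × Finset (Fin D.nroots) // x.2.Nonempty ∧ (∀ r ∈ x.2, half D ≤ (r : ℕ)) ∧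
    ∀ q ∈ Q, x.1⁻¹ * q * x.1 ∈ R.US ↑x.2}
  have hS : ∀ (g : G) (S : Finset (Fin D.nroots)), (∀ q ∈ Q, g⁻¹ * q * g ∈ R.US ↑S) → S.Nonempty := by
    intro g S h
    rw [Finset.nonempty_iff_ne_empty]
    intro e
    refine hne ((Subgroup.eq_bot_iff_forall _).2 fun q hq => ?_)
    have h1 := h q hq
    rw [e] at h1
    have h2 : g⁻¹ * q * g = 1 := by
      simpa using (R.US_le (S := ((∅ : Finset (Fin D.nroots)) : Set (Fin D.nroots))) (H := ⊥)
        (fun r hr => absurd hr (by simp))) h1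
    rw [mul_assoc, inv_mul_eq_one] at h2
    exact mul_eq_right.1 h2.symm
  obtain ⟨S₀, hS₀⟩ : ∃ S : Finset (Fin D.nroots), S = Finset.univ.filter fun r : Fin D.nroots => half D ≤ (r : ℕ) := ⟨_, rfl⟩
  have hS₀' : ∀ q ∈ Q, g₀⁻¹ * q * g₀ ∈ R.US ↑S₀ := fun q hq => by
    refine R.US_mono (fun r hr => ?_) (hg₀ q hq)
    simp [hS₀]; exact hr
  have : Nonempty P := ⟨⟨(g₀, S₀), hS _ _ hS₀', fun r hr => by simpa [hS₀] using hr, hS₀'⟩⟩
  have hmax : ∀ x : P, ∃ lam ∈ {lam : Fin D.rank → ℝ | (∀ k, 0 ≤ lam k) ∧ rNorm D X lam = 1},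
      IsMaxOn (fun lam => x.1.2.inf' x.2.1 fun r => rhgt D X lam r)
        {lam : Fin D.rank → ℝ | (∀ k, 0 ≤ lam k) ∧ rNorm D X lam = 1} lam := fun x =>
    hK.exists_isMaxOn ⟨c • one, hu0, hu1⟩
      (Continuous.finset_inf'_apply x.2.1 fun r _ => rhgt_continuous r).continuousOn
  choose best hbest hbmax using hmax
  obtain ⟨x, hx⟩ := Finite.exists_max fun x : P => x.1.2.inf' x.2.1 fun r => rhgt D X (best x) r
  obtain ⟨m, hm⟩ : ∃ m, m = x.1.2.inf' x.2.1 fun r => rhgt D X (best x) r := ⟨_, rfl⟩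
  have hle : ∀ (g' : G) (mu : Fin D.rank → ℝ) (m' : ℝ), (∀ k, 0 ≤ mu k) → rNorm D X mu = 1 →
      (∀ q ∈ Q, g'⁻¹ * q * g' ∈ R.US (rSet D X mu m')) → m' ≤ m := by
    intro g' mu m' hmu0 hmu1 hq
    obtain ⟨S, hS'⟩ : ∃ S : Finset (Fin D.nroots), (↑S : Set (Fin D.nroots)) = rSet D X mu m' :=
      ⟨(rSet D X mu m').toFinite.toFinset, Set.Finite.coe_toFinset _⟩
    rw [← hS'] at hq
    have hmem : ∀ r ∈ S, r ∈ rSet D X mu m' := fun r hr => hS' ▸ hr
    let y : P := ⟨(g', S), hS g' S hq, fun r hr => (hmem r hr).1, hq⟩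
    calc m' ≤ S.inf' y.2.1 fun r => rhgt D X mu r := Finset.le_inf' _ _ fun r hr => (hmem r hr).2
      _ ≤ S.inf' y.2.1 fun r => rhgt D X (best y) r := hbmax y ⟨hmu0, hmu1⟩
      _ ≤ m := hm ▸ hx y
  refine ⟨x.1.1, best x, m, (hbest x).1, (hbest x).2, ?_, fun q hq => ?_, hle⟩
  · obtain ⟨m₀, hm₀⟩ : ∃ m₀, m₀ = S₀.inf' (hS _ _ hS₀') fun r => rhgt D X (c • one) r := ⟨_, rfl⟩
    have h1 : 0 < m₀ := by
      rw [hm₀, Finset.lt_inf'_iff]
      exact fun r hr => hupos r (by simpa [hS₀] using hr)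
    refine lt_of_lt_of_le h1 (hle g₀ _ m₀ hu0 hu1 fun q hq => R.US_mono (fun r hr => ?_) (hg₀ q hq))
    exact ⟨hr, hm₀ ▸ Finset.inf'_le _ (by simp [hS₀]; exact hr)⟩
  · exact R.US_mono (fun r hr => show _ ∧ _ from ⟨x.2.2.1 r hr, hm ▸ Finset.inf'_le _ hr⟩) (x.2.2.2 q hq)

/-- two optimal points with the same dominant height lie in one coset of its parabolic -/
theorem optimal_unique [Finite F] (Q : Subgroup G) (hne : Q ≠ ⊥) {g₁ g₂ : G} {lam : Fin D.rank → ℝ} {m : ℝ}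
    (hlam : ∀ k, 0 ≤ lam k) (hnorm : rNorm D X lam = 1) (hm : 0 < m)
    (h₁ : ∀ x ∈ Q, g₁⁻¹ * x * g₁ ∈ R.US (rSet D X lam m)) (h₂ : ∀ x ∈ Q, g₂⁻¹ * x * g₂ ∈ R.US (rSet D X lam m))
    (hopt : ∀ (g' : G) (mu : Fin D.rank → ℝ) (m' : ℝ), (∀ k, 0 ≤ mu k) → rNorm D X mu = 1 →
        (∀ x ∈ Q, g'⁻¹ * x * g' ∈ R.US (rSet D X mu m')) → m' ≤ m) :
    g₁⁻¹ * g₂ ∈ R.PJ {m | ∃ k : Fin D.rank, (k : ℕ) = m ∧ lam k = 0} := by
  classical
  obtain ⟨b, hb, n, u, hu, hg⟩ := R.exists_bnu (g₁⁻¹ * g₂)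
  have huB : u ∈ R.BS := R.UP_le_BS (R.US_mono (invSet_subset _) hu)
  have hnorm' := R.BS_normalizes_rSet hlam hm.le
  obtain ⟨z, hz⟩ : ∃ z : Fin D.rank → ℝ,
      z = fun k => lam k + rhgt D X lam (R.qact (R.qmk n⁻¹) (R.sroot k) : ℕ) := ⟨_, rfl⟩
  have hzr : ∀ r : Fin D.nroots, rhgt D X z r = rhgt D X lam r + rhgt D X lam (R.qact (R.qmk n⁻¹) r : ℕ) := by
    intro r
    rw [← R.rhgt_qact lam (R.qmk n⁻¹) r, hz]
    simp only [rhgt, ← Finset.sum_add_distrib, add_mul]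
  obtain ⟨w, hw⟩ := R.exists_dominant z
  obtain ⟨mu, hmu⟩ : ∃ mu : Fin D.rank → ℝ, mu = fun k => rhgt D X z (R.qact w (R.sroot k) : ℕ) := ⟨_, rfl⟩
  have hmu0 : ∀ k, 0 ≤ mu k := fun k => hmu ▸ hw k
  have hmur : ∀ r : Fin D.nroots, rhgt D X mu r = rhgt D X z (R.qact w r : ℕ) := fun r =>
    hmu ▸ R.rhgt_qact z w r
  obtain ⟨nw, hnw⟩ := R.qmk_surjective w
  obtain ⟨α, hα⟩ := R.isMon_nsPerm nw⁻¹
  have hQ : ∀ x ∈ Q, (g₁ * b * nw)⁻¹ * x * (g₁ * b * nw) ∈ R.US (rSet D X mu (2 * m)) := by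
    intro x hx
    have hy : b⁻¹ * (g₁⁻¹ * x * g₁) * b ∈ R.US (rSet D X lam m) := by
      have := (Subgroup.mem_normalizer_iff.1 (hnorm' (inv_mem hb)) _).1 (h₁ x hx)
      rwa [inv_inv] at this
    have hy' : (n : G)⁻¹ * (b⁻¹ * (g₁⁻¹ * x * g₁) * b) * n ∈ R.US (rSet D X lam m) := by
      have e : g₂ = g₁ * (b * n * u) := by rw [← hg, mul_inv_cancel_left]
      have := (Subgroup.mem_normalizer_iff.1 (hnorm' huB) _).1 (h₂ x hx)
      rw [show (n : G)⁻¹ * (b⁻¹ * (g₁⁻¹ * x * g₁) * b) * n = u * (g₂⁻¹ * x * g₂) * u⁻¹ by rw [e]; group]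
      exact this
    have h3 := R.mem_US_of_conj (R.rSet_closed lam hm.le) n lam hm.le hy hy'
    have h4 := IsMon.conj_mem_US R hα (T := rSet D X mu (2 * m)) (fun r hr => ?_) h3
    · rw [show (g₁ * b * nw)⁻¹ * x * (g₁ * b * nw) =
        ((nw⁻¹ : R.NS) : G) * (b⁻¹ * (g₁⁻¹ * x * g₁) * b) * ((nw⁻¹ : R.NS) : G)⁻¹ by
          rw [InvMemClass.coe_inv]; group]
      exact h4
    · have hval : 2 * m ≤ rhgt D X mu (R.nsPerm nw⁻¹ r : ℕ) := by
        rw [hmur, ← hnw, R.qact_qmk, map_inv, Equiv.Perm.coe_inv, Equiv.apply_symm_apply, hzr]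
        have a1 := hr.1.2
        have a2 := hr.2.2
        rw [← R.qact_qmk] at a2
        linarith
      refine ⟨by_contra fun hneg => ?_, hval⟩
      have := R.rhgt_nonpos hmu0 hneg
      linarith
  have hN : rNorm D X mu = rNorm D X z := hmu ▸ R.rNorm_qact z w
  have hpar : rNorm D X z + ∑ r : Fin D.nroots, (rhgt D X lam r - rhgt D X lam (R.qact (R.qmk n⁻¹) r : ℕ)) ^ 2 =
      4 := by
    have e2 : ∑ r : Fin D.nroots, rhgt D X lam (R.qact (R.qmk n⁻¹) r : ℕ) ^ 2 = 1 :=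
      (Equiv.sum_comp (R.qact (R.qmk n⁻¹)) (fun r : Fin D.nroots => rhgt D X lam r ^ 2)).trans hnorm
    have e1 : ∑ r : Fin D.nroots, rhgt D X lam r ^ 2 = 1 := hnorm
    simp only [rNorm, hzr]
    rw [← Finset.sum_add_distrib, show (4 : ℝ) = 2 * 1 + 2 * 1 by norm_num]
    nth_rw 1 [← e1]
    rw [← e2, Finset.mul_sum, Finset.mul_sum, ← Finset.sum_add_distrib]
    exact Finset.sum_congr rfl fun r _ => by ring
  have hNpos : 0 < rNorm D X mu := by
    obtain ⟨x, hx, hx1⟩ : ∃ x ∈ Q, x ≠ 1 := Q.bot_or_exists_ne_one.resolve_left hne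
    obtain ⟨r, hr⟩ : (rSet D X mu (2 * m)).Nonempty := by
      by_contra he
      rw [Set.not_nonempty_iff_eq_empty] at he
      have h5 := hQ x hx
      rw [he] at h5
      have h6 : (g₁ * b * nw)⁻¹ * x * (g₁ * b * nw) = 1 := by
        simpa using (R.US_le (S := (∅ : Set (Fin D.nroots))) (H := ⊥) (fun r hr => absurd hr (by simp))) h5
      refine hx1 ?_
      calc x = (g₁ * b * nw) * ((g₁ * b * nw)⁻¹ * x * (g₁ * b * nw)) * (g₁ * b * nw)⁻¹ := by group
        _ = 1 := by rw [h6]; group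
    have h1 : 0 < rhgt D X mu r := lt_of_lt_of_le (by linarith) hr.2
    exact lt_of_lt_of_le (pow_pos h1 2) (Finset.single_le_sum
      (f := fun r : Fin D.nroots => rhgt D X mu r ^ 2) (fun r _ => sq_nonneg _) (Finset.mem_univ r))
  obtain ⟨s, hs⟩ : ∃ s : ℝ, s = (Real.sqrt (rNorm D X mu))⁻¹ := ⟨_, rfl⟩
  have hs0 : 0 < s := hs ▸ inv_pos.2 (Real.sqrt_pos.2 hNpos)
  have h7 : s * (2 * m) ≤ m := by
    refine hopt (g₁ * b * nw) (s • mu) _ (fun k => mul_nonneg hs0.le (hmu0 k)) ?_ fun x hx => ?_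
    · rw [rNorm_smul, hs, inv_pow, Real.sq_sqrt hNpos.le, inv_mul_cancel₀ hNpos.ne']
    · refine R.US_mono (T := rSet D X (s • mu) (s * (2 * m))) (fun r hr => ⟨hr.1, ?_⟩) (hQ x hx)
      rw [rhgt_smul]
      exact mul_le_mul_of_nonneg_left hr.2 hs0.le
  have h8 : 4 ≤ rNorm D X mu := by
    rw [hs, inv_mul_eq_div, div_le_iff₀ (Real.sqrt_pos.2 hNpos)] at h7
    have h9 : 2 ≤ Real.sqrt (rNorm D X mu) := le_of_mul_le_mul_left (by linarith) hm
    nlinarith [Real.sq_sqrt hNpos.le]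
  have hsq : ∑ r : Fin D.nroots, (rhgt D X lam r - rhgt D X lam (R.qact (R.qmk n⁻¹) r : ℕ)) ^ 2 = 0 :=
    le_antisymm (by rw [hN] at h8; linarith) (Finset.sum_nonneg fun r _ => sq_nonneg _)
  have heq : ∀ r : Fin D.nroots, rhgt D X lam r = rhgt D X lam (R.qact (R.qmk n⁻¹) r : ℕ) := fun r =>
    sub_eq_zero.1 (sq_eq_zero_iff.1 ((Finset.sum_eq_zero_iff_of_nonneg fun r _ => sq_nonneg _).1 hsq r (Finset.mem_univ r)))
  obtain ⟨-, hW⟩ := R.dominant_unique hlam hlam (R.qmk n⁻¹) heq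
  rw [map_inv, inv_mem_iff] at hW
  rw [hg]
  exact R.cl_subset_PJ hW (R.mul_mem_cl hb huB)

/-- **Borel–Tits** -/
theorem borel_tits [Finite F] (Q : Subgroup G) (hne : Q ≠ ⊥) (g₀ : G) (hg₀ : ∀ x ∈ Q, g₀⁻¹ * x * g₀ ∈ R.UP) :
    ∃ (g : G) (J : Set ℕ), (∃ i, i < D.rank ∧ i ∉ J) ∧
      (∀ x ∈ Subgroup.normalizer (Q : Set G), g⁻¹ * x * g ∈ R.PJ J) ∧ ∀ x ∈ Q, g⁻¹ * x * g ∈ R.UR J := by
  obtain ⟨g, lam, m, hlam, hnorm, hm, hQ, hopt⟩ := R.exists_optimal Q hne g₀ hg₀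
  refine ⟨g, {m | ∃ k : Fin D.rank, (k : ℕ) = m ∧ lam k = 0}, ?_, fun x hx => ?_, fun x hx => R.US_mono ?_ (hQ x hx)⟩
  · obtain ⟨k, hk⟩ : ∃ k, lam k ≠ 0 := by
      by_contra hc
      push Not at hc
      have : lam = 0 := funext hc
      subst this
      simp [rNorm, rhgt] at hnorm
    refine ⟨k, k.2, ?_⟩
    rintro ⟨k', e, h0⟩
    exact hk (Fin.ext e ▸ h0)
  · have h2 : ∀ y ∈ Q, (x * g)⁻¹ * y * (x * g) ∈ R.US (rSet D X lam m) := fun y hy => by
      have h1 : x⁻¹ * y * x ∈ Q := (Subgroup.mem_normalizer_iff''.1 hx y).1 hy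
      rw [show (x * g)⁻¹ * y * (x * g) = g⁻¹ * (x⁻¹ * y * x) * g by group]
      exact hQ _ h1
    have := R.optimal_unique Q hne hlam hnorm hm hQ h2 hopt
    rwa [← mul_assoc] at this
  · rintro r ⟨hp, hr⟩
    refine ⟨hp, fun hs => ?_⟩
    have h0 : rhgt D X lam r = 0 := by
      refine Finset.sum_eq_zero fun k _ => ?_
      by_cases hk : lam k = 0
      · rw [hk, zero_mul]
      · rw [hs k k.2 (by rintro ⟨k', e, h'⟩; exact hk (Fin.ext e ▸ h'))]; simp
    linarith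

end Rel

end CfsgLib.Lie.Chev
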