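/-
Conjugate elements of the torus are conjugate in the monomial group.
-/
import Cfsg.Agent.Lib.Lie.Rel.Bruhat
import Cfsg.Agent.Lib.Lie.Rel.Inst

set_option autoImplicit false

namespace CfsgLib.Lie.Chev

open Cfsg.Lie (ChevalleyDatum)

namespace Rel

variable {D : ChevalleyDatum} {X : Aux} {F : Type*} [Field F] {G : Type*} [Group G] (R : Rel D X F G)
include R

theorem exists_NS_conj {h₁ h₂ g : G} (h1 : h₁ ∈ R.HS) (h2 : h₂ ∈ R.HS) (hc : g * h₁ = h₂ * g) :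
    ∃ n ∈ R.NS, n * h₁ * n⁻¹ = h₂ := by
  obtain ⟨b, hb, n, u, hu, rfl⟩ := R.exists_bnu g
  obtain ⟨v, hv, h, hh, rfl⟩ := R.exists_of_mem_BS hb
  have hk : (n : G) * h₁ * (n : G)⁻¹ ∈ R.HS := R.HS_conj n.2 h1
  have hu' : h₁⁻¹ * u * h₁ ∈ R.US (invSet (R.nsPerm n)) := by
    have := (Subgroup.mem_normalizer_iff.1 (R.HS_le_normalizer_US _ (inv_mem h1)) u).1 hu
    rwa [inv_inv] at this
  have e1 : v * h * ((n : G) * h₁ * (n : G)⁻¹) = h₂ * (v * h) :=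
    (R.bnu_unique (n := n) (mul_mem hb (R.HS_le_BS hk)) (mul_mem (R.HS_le_BS h2) hb) hu' hu (by
      rw [show v * h * ((n : G) * h₁ * (n : G)⁻¹) * n * (h₁⁻¹ * u * h₁) = v * h * n * u * h₁ by group, hc]
      group)).1
  refine ⟨n, n.2, ?_⟩
  have hv' : h₂ * v * h₂⁻¹ ∈ R.UP := (Subgroup.mem_normalizer_iff.1 (R.HS_le_normalizer_US _ h2) v).1 hv
  have e2 : (h₂ * v * h₂⁻¹)⁻¹ * v = h₂ * h * ((n : G) * h₁ * (n : G)⁻¹)⁻¹ * h⁻¹ := by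
    have hv2 : v = h₂ * (v * h) * ((n : G) * h₁ * (n : G)⁻¹)⁻¹ * h⁻¹ := by rw [← e1]; group
    generalize (n : G) * h₁ * (n : G)⁻¹ = k at hv2 ⊢
    calc (h₂ * v * h₂⁻¹)⁻¹ * v = (h₂ * v * h₂⁻¹)⁻¹ * (h₂ * (v * h) * k⁻¹ * h⁻¹) := by rw [← hv2]
      _ = h₂ * h * k⁻¹ * h⁻¹ := by group
  have h3 : (h₂ * v * h₂⁻¹)⁻¹ * v ∈ R.UP ⊓ R.HS :=
    Subgroup.mem_inf.2 ⟨mul_mem (inv_mem hv') hv, by
      rw [e2]; exact mul_mem (mul_mem (mul_mem h2 hh) (inv_mem hk)) (inv_mem hh)⟩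
  rw [R.UP_inf_HS, Subgroup.mem_bot, e2, R.HS_isMulCommutative h2 hh] at h3
  have h4 : h₂ * ((n : G) * h₁ * (n : G)⁻¹)⁻¹ = 1 := by
    have h5 := congrArg (fun x => h⁻¹ * x * h) h3
    simpa [mul_assoc] using h5
  exact (mul_inv_eq_one.1 h4).symm

end Rel

end CfsgLib.Lie.Chev
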