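/-
Maps between Steinberg groups induced by an embedding of root data.
-/
import Cfsg.Agent.Lib.Lie.Rel.Steinberg

set_option autoImplicit false

namespace CfsgLib.Lie.Chev

open Cfsg.Lie (ChevalleyDatum)

/-- a chain row, with the indices renamed by `I` -/
def embRow (D' : ChevalleyDatum) (I : List ℕ) (L : List (ℕ × Array (ℕ × ℤ))) : List (ℕ × List (ℕ × ℤ)) :=
  L.map fun e => (I.getD e.1 D'.nroots, e.2.toList.map fun c => (I.getD c.1 D'.nroots, c.2))

/-- the chain row of the image of `r` restricted to the image is the image of the chain row of `r` -/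
def chkEmbRow (D D' : ChevalleyDatum) (I : List ℕ) (r : ℕ) : Bool :=
  (D.chain.getD r #[]).toList.all (fun e => Nat.blt e.1 D.nroots && e.2.toList.all fun c => Nat.blt c.1 D.nroots) &&
    decide (((D'.chain.getD (I.getD r D'.nroots) #[]).toList.filter fun e => I.any (Nat.beq e.1)).map
      (fun e => (e.1, e.2.toList)) = embRow D' I (D.chain.getD r #[]).toList)

/-- `I` embeds `D` into `D'` compatibly with negation, the chain table and the simple roots -/
def chkEmb (D D' : ChevalleyDatum) (I : List ℕ) : Bool :=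
  Nat.beq I.length D.nroots && Nat.ble D.rank D'.rank && I.all (fun u => Nat.blt u D'.nroots) &&
  (List.range D.rank).all (fun i => Nat.beq (I.getD (D.simple i) D'.nroots) (D'.simple i)) &&
  (decide I.Nodup && (List.range D.nroots).all fun r =>
    Nat.blt (D.neg r) D.nroots && Nat.beq (I.getD (D.neg r) D'.nroots) (D'.neg (I.getD r D'.nroots)) &&
      chkEmbRow D D' I r)

variable {D D' : ChevalleyDatum} {X' : Aux} {K : Type*} [Field K] {G : Type*} [Group G]
  (R : Rel D' X' K G) {I : List ℕ}

/-- the image of a root -/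
def embIdx (D' : ChevalleyDatum) (I : List ℕ) (r : ℕ) : ℕ := I.getD r D'.nroots

theorem emb_stX (h : chkEmb D D' I = true) (r : ℕ) (t : K) :
    FreeGroup.lift (fun p : Fin D.nroots × K => R.xe (embIdx D' I p.1) p.2) (D.stX r t) =
      R.xe (embIdx D' I r) t := by
  simp only [chkEmb, Bool.and_eq_true, nat_beq_iff] at h
  unfold ChevalleyDatum.stX
  split_ifs with hr
  · exact FreeGroup.lift_apply_of
  · rw [map_one, embIdx, List.getD_eq_default _ _ (by omega), R.xe_oob _ _ (lt_irrefl _)]

theorem emb_stWord (h : chkEmb D D' I = true) (w : List (ℕ × K)) :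
    FreeGroup.lift (fun p : Fin D.nroots × K => R.xe (embIdx D' I p.1) p.2) (D.stWord w) =
      (w.map fun p => R.xe (embIdx D' I p.1) p.2).prod := by
  rw [ChevalleyDatum.stWord, map_list_prod, List.map_map]
  exact congrArg List.prod (List.map_congr_left fun p _ => emb_stX R h p.1 p.2)

theorem commTerms_emb {D D' : ChevalleyDatum} {e : ℕ → ℕ}
    (hlt : ∀ r < D.nroots, ∀ s < D.nroots, ∀ c ∈ D.chainEntry r s, c.1 < D.nroots)
    (hE : ∀ r < D.nroots, ∀ s < D.nroots, D'.chainEntry (e r) (e s) = (D.chainEntry r s).map fun c => (e c.1, c.2))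
    {r s : ℕ} (hr : r < D.nroots) (hs : s < D.nroots) :
    (D.commTerms r s).map (fun c => (e c.1, c.2)) = D'.commTerms (e r) (e s) := by
  have hR : ∀ a < D.nroots, ∀ b < D.nroots, ∀ i, D'.chainRoot (e a) (e b) i = (D.chainRoot a b i).map e :=
    fun a ha b hb i => by
      simp only [ChevalleyDatum.chainRoot, hE a ha b hb, List.getElem?_map, Option.map_map]; rfl
  have hM : ∀ a < D.nroots, ∀ b < D.nroots, ∀ i, D'.chainM (e a) (e b) i = D.chainM a b i :=
    fun a ha b hb i => by
      simp only [ChevalleyDatum.chainM, hE a ha b hb, List.getElem?_map, Option.map_map]; rfl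
  have hlt' : ∀ a < D.nroots, ∀ b < D.nroots, ∀ i, ∀ k ∈ D.chainRoot a b i, k < D.nroots := by
    intro a ha b hb i k hk
    obtain ⟨c, hc, rfl⟩ := Option.map_eq_some_iff.1 hk
    exact hlt a ha b hb c (List.mem_of_getElem? hc)
  have hbind : ∀ a < D.nroots, ∀ b < D.nroots, ∀ i, ∀ c < D.nroots,
      ((D.chainRoot a b i).map e).bind (fun k => D'.chainRoot k (e c) 1) =
        ((D.chainRoot a b i).bind fun k => D.chainRoot k c 1).map e := by
    intro a ha b hb i c hc
    cases hk : D.chainRoot a b i with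
    | none => rfl
    | some k => simpa using hR k (hlt' a ha b hb i k hk) c hc 1
  have hmap : ∀ a < D.nroots, ∀ b < D.nroots, ∀ i, ∀ c < D.nroots, ∀ j, ∀ g : ℤ → ℤ,
      (((D.chainRoot a b i).map e).map fun k => g (D'.chainM k (e c) j)).getD 0 =
        ((D.chainRoot a b i).map fun k => g (D.chainM k c j)).getD 0 := by
    intro a ha b hb i c hc j g
    cases hk : D.chainRoot a b i with
    | none => rfl
    | some k => simp [hM k (hlt' a ha b hb i k hk) c hc j]
  unfold ChevalleyDatum.commTerms
  simp only [hR r hr s hs, hR s hs r hr, hM r hr s hs, hM s hs r hr]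
  rw [hbind r hr s hs 3 s hs, hbind s hs r hr 3 r hr, hmap r hr s hs 1 r hr 2 (fun x => x / 3),
    hmap r hr s hs 1 s hs 2 (fun x => -2 * x / 3), List.map_filterMap]
  simp only [List.filterMap_cons, List.filterMap_nil]
  generalize (D.chainRoot r s 3).bind (fun k => D.chainRoot k s 1) = b₁
  generalize (D.chainRoot s r 3).bind (fun k => D.chainRoot k r 1) = b₂
  cases b₁ <;> cases b₂ <;> cases D.chainRoot r s 1 <;> cases D.chainRoot r s 2 <;> cases D.chainRoot s r 2 <;> cases D.chainRoot r s 3 <;>
    cases D.chainRoot s r 3 <;> simp [Option.map]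

theorem emb_props (h : chkEmb D D' I = true) {r : ℕ} (hr : r < D.nroots) :
    embIdx D' I r < D'.nroots ∧ embIdx D' I (D.neg r) = D'.neg (embIdx D' I r) ∧
      ∀ s < D.nroots, s ≠ r → s ≠ D.neg r → embIdx D' I s ≠ embIdx D' I r ∧
        embIdx D' I s ≠ D'.neg (embIdx D' I r) ∧
        (D.commTerms r s).map (fun c => (embIdx D' I c.1, c.2)) = D'.commTerms (embIdx D' I r) (embIdx D' I s) := by
  simp only [chkEmb, chkEmbRow, Bool.and_eq_true, nat_beq_iff, nat_blt_iff, List.all_eq_true, List.mem_range,
    decide_eq_true_iff] at h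
  obtain ⟨⟨⟨⟨h1, _⟩, h2⟩, _⟩, hnd, h3⟩ := h
  have hmem : ∀ a < D.nroots, embIdx D' I a ∈ I := fun a ha => by
    rw [embIdx, List.getD_eq_getElem _ _ (h1 ▸ ha)]
    exact List.getElem_mem _
  have hinj : ∀ a < D.nroots, ∀ b < D.nroots, embIdx D' I a = embIdx D' I b → a = b := fun a ha b hb he => by
    rwa [embIdx, embIdx, List.getD_eq_getElem _ _ (h1 ▸ ha), List.getD_eq_getElem _ _ (h1 ▸ hb),
      hnd.getElem_inj_iff] at he
  have hlt : ∀ a < D.nroots, ∀ b < D.nroots, ∀ c ∈ D.chainEntry a b, c.1 < D.nroots := by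
    intro a ha b _ c hc
    unfold ChevalleyDatum.chainEntry at hc
    split at hc
    · exact absurd hc List.not_mem_nil
    · rename_i e he
      exact ((h3 a ha).2.1 e (List.mem_of_find?_eq_some he)).2 c hc
  have hE : ∀ a < D.nroots, ∀ b < D.nroots, D'.chainEntry (embIdx D' I a) (embIdx D' I b) =
      (D.chainEntry a b).map fun c => (embIdx D' I c.1, c.2) := by
    intro a ha b hb
    obtain ⟨hrow, heq⟩ := (h3 a ha).2
    have e1 := congrArg (List.find? fun x : ℕ × List (ℕ × ℤ) => decide (x.1 = embIdx D' I b)) heq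
    rw [embRow, List.find?_map, List.find?_map, List.find?_filter] at e1
    have e2 : ((D'.chain.getD (embIdx D' I a) #[]).toList.find? fun x => decide (x.1 = embIdx D' I b)).map
        (fun x => (x.1, x.2.toList)) =
        ((D.chain.getD a #[]).toList.find? fun x => decide (x.1 = b)).map
          (fun x => (embIdx D' I x.1, x.2.toList.map fun c => (embIdx D' I c.1, c.2))) := by
      refine Eq.trans ?_ (e1.trans ?_)
      · refine congrArg (Option.map _) (List.find?_congr fun x _ => ?_)
        by_cases hx : x.1 = embIdx D' I b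
        · have hany : I.any (Nat.beq x.1) = true :=
            List.any_eq_true.2 ⟨x.1, hx ▸ hmem b hb, by simp [nat_beq_iff]⟩
          simp [hx, hx ▸ hany]
        · simp [hx]
      · refine congrArg (Option.map _) (List.find?_congr fun x hx => ?_)
        simp only [Function.comp_apply, decide_eq_decide]
        exact ⟨fun he => hinj _ (hrow x hx).1 _ hb he, fun he => by rw [he]; rfl⟩
    unfold ChevalleyDatum.chainEntry
    cases h4 : (D.chain.getD a #[]).toList.find? fun x => decide (x.1 = b) <;>
      cases h5 : (D'.chain.getD (embIdx D' I a) #[]).toList.find? fun x => decide (x.1 = embIdx D' I b) <;>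
      rw [h4, h5] at e2 <;> simp_all
  refine ⟨h2 _ (hmem r hr), (h3 r hr).1.2, fun s hs hne hne' => ⟨fun e => hne (hinj s hs r hr e), fun e => hne' ?_, ?_⟩⟩
  · exact hinj s hs _ (h3 r hr).1.1 (e.trans (h3 r hr).1.2.symm)
  · exact commTerms_emb hlt hE hr hs

theorem emb_stH (h : chkEmb D D' I = true) {r : ℕ} (hr : r < D.nroots) (t : K) :
    FreeGroup.lift (fun p : Fin D.nroots × K => R.xe (embIdx D' I p.1) p.2) (D.stH r t) =
      heOf D' R.xe (embIdx D' I r) t := by
  rw [ChevalleyDatum.stH, emb_stWord R h]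
  simp [heOf, neOf, ChevalleyDatum.hWord, ChevalleyDatum.nWord, (emb_props h hr).2.1, mul_assoc]

theorem emb_rels (h : chkEmb D D' I = true) : ∀ g ∈ D.steinbergRels K,
    FreeGroup.lift (fun p : Fin D.nroots × K => R.xe (embIdx D' I p.1) p.2) g = 1 := by
  rintro g ((⟨r, t, u, hr, rfl⟩ | ⟨r, s, t, u, hr, hs, h1, h2, rfl⟩) | ⟨r, t, u, hr, ht, hu, rfl⟩)
  · simp only [map_mul, map_inv, emb_stX R h, mul_inv_eq_one]
    exact R.xe_add _ t u (emb_props h hr).1
  · simp only [map_mul, map_inv, emb_stX R h, emb_stWord R h, mul_inv_eq_one]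
    obtain ⟨hs1, hs2, hc⟩ := (emb_props h hr).2.2 s hs h1 h2
    have e := R.xe_comm (embIdx D' I r) (embIdx D' I s) t u (emb_props h hr).1 (emb_props h hs).1 hs1 hs2
    have hw : ((D'.commWord K (embIdx D' I r) (embIdx D' I s) t u).map fun p => R.xe p.1 p.2) =
        (D.commWord K r s t u).map fun p => R.xe (embIdx D' I p.1) p.2 := by
      simp only [ChevalleyDatum.commWord, ← hc, List.map_map, Function.comp_def]
    rw [hw] at e
    rw [mul_assoc _ (R.xe (embIdx D' I s) u), e]; group
  · rw [map_mul, map_mul, map_inv, emb_stH R h hr, emb_stH R h hr, emb_stH R h hr, mul_inv_eq_one]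
    exact R.he_mul ⟨_, (emb_props h hr).1⟩ ht hu

/-- the induced homomorphism -/
def embHom (h : chkEmb D D' I = true) : D.SteinbergGroup K →* G := PresentedGroup.toGroup (emb_rels R h)

theorem embHom_gen (h : chkEmb D D' I = true) (r : ℕ) (t : K) :
    embHom R h (D.stGen K r t) = R.xe (embIdx D' I r) t := by
  show PresentedGroup.toGroup (emb_rels R h) (PresentedGroup.mk _ (D.stX r t)) = _
  rw [← emb_stX R h r t]
  rfl

/-- extension of torus parameters by `1` -/
def extPar {m : ℕ} (n : ℕ) (K : Type*) [Field K] : (Fin m → Kˣ) →* (Fin n → Kˣ) where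
  toFun c j := if h : (j : ℕ) < m then c ⟨j, h⟩ else 1
  map_one' := by funext j; simp
  map_mul' a b := by funext j; by_cases h : (j : ℕ) < m <;> simp [h]

theorem extPar_injective {m n : ℕ} (hmn : m ≤ n) : Function.Injective (extPar (m := m) n K) := by
  intro a b e
  funext i
  have := congrFun e ⟨i, i.2.trans_le hmn⟩
  simpa [extPar, i.2] using this

variable {X : Aux} (C : Cert D X) {L : List (ℕ × ℕ × ℕ × List ℤ)}

theorem embHom_torusHom (h : chkEmb D D' I = true) (hL : chkWits D X L = true) (c : Fin D.rank → Kˣ) :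
    embHom R h ((stRel C K hL).torusHom c : D.SteinbergGroup K) = (R.torusHom (extPar D'.rank K c) : G) := by
  classical
  have h' := h
  simp only [chkEmb, Bool.and_eq_true, nat_beq_iff, nat_ble_iff, List.all_eq_true, List.mem_range] at h'
  obtain ⟨⟨⟨⟨_, hrk⟩, _⟩, hsim⟩, _⟩ := h'
  have key : (embHom R h).comp ((stRel C K hL).HS.subtype.comp (stRel C K hL).torusHom) =
      R.HS.subtype.comp (R.torusHom.comp (extPar D'.rank K)) := by
    refine MonoidHom.pi_ext fun i u => ?_
    have e : extPar D'.rank K (Pi.mulSingle i u) = Pi.mulSingle (⟨i, i.2.trans_le hrk⟩ : Fin D'.rank) u := by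
      funext j
      by_cases hj : (j : ℕ) < D.rank
      · by_cases hij : (j : ℕ) = i
        · obtain rfl : j = ⟨i, i.2.trans_le hrk⟩ := Fin.ext hij
          simp [extPar]
        · simp only [extPar, MonoidHom.coe_mk, OneHom.coe_mk, dif_pos hj]
          rw [Pi.mulSingle_eq_of_ne (fun e => hij (congrArg Fin.val e)),
            Pi.mulSingle_eq_of_ne (fun e => hij (congrArg Fin.val e))]
      · simp only [extPar, MonoidHom.coe_mk, OneHom.coe_mk, dif_neg hj]
        rw [Pi.mulSingle_eq_of_ne (fun e => hj (by rw [e]; exact i.2))]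
    simp only [MonoidHom.comp_apply, e, Rel.torusHom_single]
    show embHom R h (heOf D (D.stGen K) (D.simple i) (u : K)) = heOf D' R.xe (D'.simple i) (u : K)
    simp only [heOf, neOf, map_mul, embHom_gen, (emb_props h (C.simple_lt i.2)).2.1]
    rw [show embIdx D' I (D.simple i) = D'.simple i from hsim i i.2]
  exact DFunLike.congr_fun key c

theorem stRel_torusHom_injective (h : chkEmb D D' I = true) (hL : chkWits D X L = true)
    (hR : Function.Injective R.torusHom) : Function.Injective (stRel C K hL).torusHom := by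
  intro a b e
  have h' := h
  simp only [chkEmb, Bool.and_eq_true, nat_ble_iff] at h'
  refine extPar_injective (n := D'.rank) h'.1.1.1.2 (hR (Subtype.ext ?_))
  rw [← embHom_torusHom R C h hL, ← embHom_torusHom R C h hL, e]

end CfsgLib.Lie.Chev
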