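/-
The order of the centre of Steinberg's group of types E6 and E7.
-/
import Cfsg.Agent.Lib.Lie.Rel.EmbedData
import Cfsg.Agent.Lib.Lie.Rel.OrderData

set_option autoImplicit false

namespace CfsgLib.Lie.Chev

open Cfsg.Lie (ChevalleyDatum)

variable {D : ChevalleyDatum} {X : Aux} (C : Cert D X) (K : Type*) [Field K]

theorem chevRel_torusHom_injective {M U U' V V' : List (List ℤ)} {d : List ℕ} (hM : cmat D = M)
    (hS : chkSmith D.rank M U U' V V' d = true) (hd : ∀ i : Fin D.rank, d.getD i 0 = 1) :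
    Function.Injective (chevRel C K).torusHom := by
  rw [← MonoidHom.ker_eq_bot_iff, eq_bot_iff]
  intro c h1
  rw [mem_torusHom_ker, MonoidHom.mem_ker, hM] at h1
  simp only [chkSmith, Bool.and_eq_true, decide_eq_true_iff] at hS
  obtain ⟨⟨⟨h2, h3⟩, h4⟩, h5⟩ := hS
  have hdiag : (Matrix.diagonal fun i : Fin D.rank => ((d.getD i 0 : ℕ) : ℤ)) = 1 := by
    rw [← Matrix.diagonal_one]; congr 1; funext i; rw [hd i]; rfl
  rw [hdiag] at h5
  have hinv : ∀ A U V : Matrix (Fin D.rank) (Fin D.rank) ℤ, U * A * V = 1 → A * (V * U) = 1 := by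
    intro A U V h
    rw [← mul_assoc]
    rw [mul_assoc] at h
    exact mul_eq_one_comm.1 h
  rw [Subgroup.mem_bot, ← powMat_one c, ← hinv _ _ _ h5, powMat_mul, h1, map_one]

theorem card_ker_torusHom [Fintype K] {M U U' V V' : List (List ℤ)} {d : List ℕ} (hM : cmat D = M)
    (hchk : chkSmith D.rank M U U' V V' d = true) :
    Nat.card (chevRel C K).torusHom.ker = ∏ i : Fin D.rank, Nat.gcd (Fintype.card K - 1) (d.getD i 0) := by
  classical
  simp only [chkSmith, Bool.and_eq_true, decide_eq_true_iff] at hchk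
  obtain ⟨⟨⟨h1, h2⟩, h3⟩, h4⟩ := hchk
  have hu : Nat.card Kˣ = Fintype.card K - 1 := by rw [Nat.card_units, Nat.card_eq_fintype_card]
  rw [Nat.card_congr (Equiv.subtypeEquivRight (mem_torusHom_ker C K)), hM, card_ker_powMat_congr h1 h2 h3, h4,
    card_ker_diagonal, hu]

theorem card_center_stGroup [Fintype K] {L : List (ℕ × ℕ × ℕ × List ℤ)} (hL : chkWits D X L = true)
    (hc : Rel.Connected D) {I : List ℕ} (hI : chkEmb D Cfsg.Lie.chevE8 I = true) :
    Nat.card (Subgroup.center (D.SteinbergGroup K)) = Nat.card (chevRel C K).torusHom.ker := by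
  have hinj := stRel_torusHom_injective (chevRel certE8 K) C hI hL
    (chevRel_torusHom_injective certE8 K cmat_E8 smithE8 (by decide +kernel))
  rw [center_stGroup C K hL hc]
  refine (Nat.card_eq_of_bijective
    (fun c : (chevRel C K).torusHom.ker =>
      (⟨((stRel C K hL).torusHom c.1 : D.SteinbergGroup K), MonoidHom.mem_ker.2 (by
        rw [stTheta_torusHom, MonoidHom.mem_ker.1 c.2]; rfl)⟩ : (stTheta C K).ker))
    ⟨fun a b e => Subtype.ext (hinj (Subtype.ext (Subtype.ext_iff.1 e :))), fun ⟨g, hg⟩ => ?_⟩).symm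
  obtain ⟨c, hcg⟩ := (stRel C K hL).torusHom_surjective
    ⟨g, (stRel C K hL).ker_le_HS (MonoidHom.mem_ker.1 (by rw [ker_stRel]; exact hg))⟩
  have hgc : ((stRel C K hL).torusHom c : D.SteinbergGroup K) = g := congrArg Subtype.val hcg
  exact ⟨⟨c, MonoidHom.mem_ker.2 (Subtype.ext (by rw [← stTheta_torusHom C K hL c, hgc]; exact hg))⟩,
    Subtype.ext hgc⟩

theorem card_center_E6 [Fintype K] :
    Nat.card (Subgroup.center (Cfsg.Lie.chevE6.SteinbergGroup K)) = Nat.gcd 3 (Fintype.card K - 1) := by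
  rw [card_center_stGroup certE6 K witE6 (connected_of_chk (by decide +kernel)) embE6E8,
    card_ker_torusHom certE6 K cmat_E6 smithE6, Finset.prod_eq_single ⟨5, by decide +kernel⟩]
  · exact Nat.gcd_comm _ _
  · intro i _ hi
    have h1 : ∀ j : Fin Cfsg.Lie.chevE6.rank, (j : ℕ) ≠ 5 → [1, 1, 1, 1, 1, 3].getD (j : ℕ) 0 = 1 := by
      decide +kernel
    rw [h1 i (fun e => hi (Fin.ext e)), Nat.gcd_one_right]
  · simp

theorem card_center_E7 [Fintype K] :
    Nat.card (Subgroup.center (Cfsg.Lie.chevE7.SteinbergGroup K)) = Nat.gcd 2 (Fintype.card K - 1) := by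
  rw [card_center_stGroup certE7 K witE7 (connected_of_chk (by decide +kernel)) embE7E8,
    card_ker_torusHom certE7 K cmat_E7 smithE7, Finset.prod_eq_single ⟨6, by decide +kernel⟩]
  · exact Nat.gcd_comm _ _
  · intro i _ hi
    have h1 : ∀ j : Fin Cfsg.Lie.chevE7.rank, (j : ℕ) ≠ 6 → [1, 1, 1, 1, 1, 1, 2].getD (j : ℕ) 0 = 1 := by
      decide +kernel
    rw [h1 i (fun e => hi (Fin.ext e)), Nat.gcd_one_right]
  · simp

end CfsgLib.Lie.Chev
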