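/-
The Bruhat normal form of a Chevalley group in terms of matrices.
-/
import Cfsg.Agent.Lib.Lie.Rel.Bruhat
import Cfsg.Agent.Lib.Lie.Rel.Facts

set_option autoImplicit false

namespace CfsgLib.Lie.Chev

open Cfsg.Lie (ChevalleyDatum)

variable {D : ChevalleyDatum} {X : Aux} (C : Cert D X) (F : Type*) [Field F]
include C

/-- the closure appearing in the printed normal form -/
theorem bruhat_closure_eq (n : (chevRel C F).NS) :
    Subgroup.closure {x : GL D.Idx F | ∃ (r : ℕ) (t : F), D.IsPosRoot r ∧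
      (D.rootSubgroup F r).map (MulAut.conj ((n : ↥(D.group F)) : GL D.Idx F)).toMonoidHom ≤ D.negUnipotent F ∧
      (x : Matrix D.Idx D.Idx F) = D.x F r t} =
    ((chevRel C F).US (invSet ((chevRel C F).nsPerm n))).map (D.group F).subtype := by
  rw [map_US C F (invSet ((chevRel C F).nsPerm n)) (fun r => D.IsPosRoot r ∧
    (D.rootSubgroup F r).map (MulAut.conj ((n : ↥(D.group F)) : GL D.Idx F)).toMonoidHom ≤ D.negUnipotent F)]
  · simp only [and_assoc]
  intro r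
  constructor
  · rintro ⟨hp, hle⟩
    refine ⟨hp.1, (C.pos_iff hp.1).1 hp, fun hpos => ?_⟩
    obtain ⟨a, ha⟩ := (chevRel C F).isMon_nsPerm n
    have h1 := (ha ⟨r, hp.1⟩).2.2.2 1
    rw [mul_one] at h1
    have h2 : ((n : ↥(D.group F)) * (chevRel C F).xe r 1 * (n : ↥(D.group F))⁻¹) ∈ (chevRel C F).UN := by
      have h3 : (((n : ↥(D.group F)) * (chevRel C F).xe r 1 * (n : ↥(D.group F))⁻¹ : ↥(D.group F)) : GL D.Idx F) ∈
          D.negUnipotent F := by
        refine hle ⟨_, ?_, rfl⟩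
        exact Subgroup.subset_closure ⟨1, rfl⟩
      rw [negUnipotent_eq C F] at h3
      obtain ⟨y, hy, e⟩ := h3
      exact Subtype.ext e ▸ hy
    rw [h1] at h2
    have h4 := (chevRel C F).BS_inf_UN ((chevRel C F).xe_pos_mem_BS hpos _) h2
    exact (ha ⟨r, hp.1⟩).1 ((chevRel C F).xe_inj_param (h4.trans ((chevRel C F).xe_zero _).symm))
  · rintro ⟨hr, hp, hneg⟩
    refine ⟨(C.pos_iff hr).2 hp, ?_⟩
    rw [rootSubgroup_eq C F hr, negUnipotent_eq C F]
    rintro _ ⟨_, ⟨u, hu, rfl⟩, rfl⟩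
    obtain ⟨a, ha⟩ := (chevRel C F).isMon_nsPerm n
    exact ⟨(n : ↥(D.group F)) * u * (n : ↥(D.group F))⁻¹, Rel.IsMon.conj_mem_US _ ha (T := negSet D)
      (fun s hs => by rw [Set.mem_singleton_iff.1 hs]; exact hneg) hu, rfl⟩

theorem bruhat_normal_form :
    (∀ g ∈ D.group F, ∃ b ∈ D.borelSubgroup F, ∃ n ∈ D.monomialSubgroup F,
      ∃ u ∈ Subgroup.closure {x : GL D.Idx F | ∃ (r : ℕ) (t : F), D.IsPosRoot r ∧
            (D.rootSubgroup F r).map (MulAut.conj n).toMonoidHom ≤ D.negUnipotent F ∧ (x : Matrix D.Idx D.Idx F) = D.x F r t},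
        g = b * n * u) ∧
    (∀ (b b' n n' u u' : GL D.Idx F), b ∈ D.borelSubgroup F → b' ∈ D.borelSubgroup F →
      n ∈ D.monomialSubgroup F → n' ∈ D.monomialSubgroup F →
      u ∈ Subgroup.closure {x : GL D.Idx F | ∃ (r : ℕ) (t : F), D.IsPosRoot r ∧
            (D.rootSubgroup F r).map (MulAut.conj n).toMonoidHom ≤ D.negUnipotent F ∧ (x : Matrix D.Idx D.Idx F) = D.x F r t} →
      u' ∈ Subgroup.closure {x : GL D.Idx F | ∃ (r : ℕ) (t : F), D.IsPosRoot r ∧
            (D.rootSubgroup F r).map (MulAut.conj n').toMonoidHom ≤ D.negUnipotent F ∧ (x : Matrix D.Idx D.Idx F) = D.x F r t} →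
      b * n * u = b' * n' * u' → n⁻¹ * n' ∈ D.diagonalSubgroup F ∧ (n = n' → b = b' ∧ u = u')) := by
  refine ⟨fun g hg => ?_, ?_⟩
  · obtain ⟨b, hb, n, u, hu, e⟩ := (chevRel C F).exists_bnu ⟨g, hg⟩
    refine ⟨(b : GL D.Idx F), ?_, ((n : ↥(D.group F)) : GL D.Idx F), ?_, (u : GL D.Idx F), ?_,
      congrArg Subtype.val e⟩
    · rw [borelSubgroup_eq C F]; exact Subgroup.mem_map_of_mem _ hb
    · rw [monomialSubgroup_eq C F]; exact Subgroup.mem_map_of_mem _ n.2
    · rw [bruhat_closure_eq C F n]; exact Subgroup.mem_map_of_mem _ hu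
  · intro b b' n n' u u' hb hb' hn hn' hu hu' e
    rw [borelSubgroup_eq C F] at hb hb'
    rw [monomialSubgroup_eq C F] at hn hn'
    obtain ⟨b, hb, rfl⟩ := hb
    obtain ⟨b', hb', rfl⟩ := hb'
    obtain ⟨n, hn, rfl⟩ := hn
    obtain ⟨n', hn', rfl⟩ := hn'
    rw [show Subgroup.subtype (D.group F) n = (((⟨n, hn⟩ : (chevRel C F).NS) : ↥(D.group F)) : GL D.Idx F) from rfl,
      bruhat_closure_eq C F] at hu
    rw [show Subgroup.subtype (D.group F) n' = (((⟨n', hn'⟩ : (chevRel C F).NS) : ↥(D.group F)) : GL D.Idx F) from rfl,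
      bruhat_closure_eq C F] at hu'
    obtain ⟨u, hu, rfl⟩ := hu
    obtain ⟨u', hu', rfl⟩ := hu'
    have e' : b * n * u = b' * n' * u' := Subtype.ext e
    refine ⟨?_, fun h => ?_⟩
    · rw [diagonalSubgroup_eq C F]
      exact ⟨_, (chevRel C F).bnu_weyl (n := ⟨n, hn⟩) (n' := ⟨n', hn'⟩) hb hb'
        ((chevRel C F).US_mono (Rel.invSet_subset _) hu) ((chevRel C F).US_mono (Rel.invSet_subset _) hu') e',
        by simp⟩
    · obtain rfl : n = n' := Subtype.ext h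
      obtain ⟨rfl, rfl⟩ := (chevRel C F).bnu_unique (n := ⟨n, hn⟩) hb hb' hu hu' e'
      exact ⟨rfl, rfl⟩

end CfsgLib.Lie.Chev
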