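/-
The constituents of the permutation character on the cosets of the Borel subgroup are counted by the classes of the
Weyl group.
-/
import Cfsg.Prelude.Def_Characters
import Cfsg.Prelude.Def_ParabolicCharacters
import Cfsg.Agent.Lib.Lie.Rel.HeckeCenter
import Cfsg.Agent.Lib.Lie.Rel.WeylData
import Cfsg.Agent.Lib.Char.Perm

set_option autoImplicit false

namespace CfsgLib.Lie.Chev

open Cfsg.Lie (ChevalleyDatum)
open scoped ComplexConjugate

theorem constituent_iff {G : Type*} [Group G] [Fintype G] (B : Subgroup G) [Fintype B] (χ : Cfsg.IrrCharacter G) :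
    (∃ φ : G → ℂ, Cfsg.IsCharacter G φ ∧ Cfsg.fixedPointCharacter B = (χ : G → ℂ) + φ) ↔
      ∑ b : B, (χ : G → ℂ) b ≠ 0 := by
  classical
  have := Fintype.ofFinite (Cfsg.IrrCharacter G)
  have hπ : Cfsg.fixedPointCharacter B = CfsgLib.Char.permChar G (G ⧸ B) := rfl
  have hinner : Cfsg.classInner (Cfsg.fixedPointCharacter B) (χ : G → ℂ) =
      (Nat.card G : ℂ)⁻¹ * ((Nat.card (G ⧸ B) : ℂ) * conj (∑ b : B, (χ : G → ℂ) b)) := by
    rw [Cfsg.classInner, map_sum]
    congr 1
    have h1 : ∀ g, Cfsg.fixedPointCharacter B g = ∑ c : G ⧸ B, if g • c = c then (1 : ℂ) else 0 := fun g => by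
      rw [Cfsg.fixedPointCharacter, Nat.card_eq_fintype_card, Finset.sum_boole, ← Fintype.card_subtype, Nat.cast_inj]
      exact Fintype.card_congr (Equiv.subtypeEquivRight fun c => Iff.rfl)
    simp only [h1, Finset.sum_mul, ite_mul, one_mul, zero_mul]
    rw [Finset.sum_comm, Nat.card_eq_fintype_card, ← nsmul_eq_mul, ← Finset.card_univ, ← Finset.sum_const]
    refine Finset.sum_congr rfl fun c => ?_
    induction c using QuotientGroup.induction_on with
    | H x =>
      intro _
      rw [← Finset.sum_filter]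
      refine Finset.sum_bij' (fun g hg => (⟨x⁻¹ * g * x, ?_⟩ : B)) (fun b _ => x * b * x⁻¹) ?_ ?_ ?_ ?_ ?_
      · have h := (Finset.mem_filter.1 hg).2
        rw [MulAction.Quotient.smul_coe, QuotientGroup.eq, smul_eq_mul] at h
        simpa [mul_assoc] using inv_mem h
      · intros; exact Finset.mem_univ _
      · intro b _
        refine Finset.mem_filter.2 ⟨Finset.mem_univ _, ?_⟩
        rw [MulAction.Quotient.smul_coe, QuotientGroup.eq, smul_eq_mul]
        simpa [mul_assoc] using inv_mem b.2
      · intro g _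
        group
      · intro b _
        exact Subtype.ext (show x⁻¹ * (x * b * x⁻¹) * x = b by group)
      · intro g _
        congr 1
        show (χ : G → ℂ) g = (χ : G → ℂ) (x⁻¹ * g * x)
        have := CfsgLib.Char.IsIrr.isClassFunction χ.2 g x⁻¹
        rw [inv_inv] at this
        exact this.symm
  have hG : (Nat.card G : ℂ)⁻¹ ≠ 0 := inv_ne_zero (Nat.cast_ne_zero.2 Nat.card_pos.ne')
  have hX : (Nat.card (G ⧸ B) : ℂ) ≠ 0 := Nat.cast_ne_zero.2 Nat.card_pos.ne'
  constructor
  · rintro ⟨φ, hφ, e⟩ h0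
    rw [e, CfsgLib.Char.classInner_add_left, CfsgLib.Char.classInner_irr_self, h0, map_zero, mul_zero, mul_zero]
      at hinner
    obtain ⟨n, hn⟩ := CfsgLib.Char.IsChar.classInner_eq_natCast hφ (CfsgLib.Char.IsIrr.isCharacter χ.2)
    rw [hn] at hinner
    have h2 : ((n + 1 : ℕ) : ℂ) = 0 := by push_cast; rw [add_comm]; exact hinner
    exact Nat.succ_ne_zero n (Nat.cast_eq_zero.1 h2)
  · intro h
    obtain ⟨m, hm⟩ := CfsgLib.Char.IsChar.exists_sum (CfsgLib.Char.isCharacter_permChar (G := G) (X := G ⧸ B))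
    rw [← hπ] at hm
    have hm0 : m χ ≠ 0 := fun h0 => by
      rw [hm, CfsgLib.Char.classInner_sum_irr, h0, Nat.cast_zero, eq_comm, mul_eq_zero, or_iff_right hG, mul_eq_zero,
        or_iff_right hX, map_eq_zero] at hinner
      exact h hinner
    refine ⟨_, CfsgLib.Char.isCharacter_natCast_sum fun ψ => if ψ = χ then m ψ - 1 else m ψ, ?_⟩
    rw [hm, ← Finset.add_sum_erase _ _ (Finset.mem_univ χ), ← Finset.add_sum_erase _ _ (Finset.mem_univ χ),
      ← add_assoc, if_pos rfl]
    congr 1
    · rw [Nat.cast_sub (Nat.one_le_iff_ne_zero.2 hm0), Nat.cast_one, sub_smul, one_smul, add_sub_cancel]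
    · exact Finset.sum_congr rfl fun ψ hψ => by rw [if_neg (Finset.ne_of_mem_erase hψ)]

theorem card_constituents_eq {D : ChevalleyDatum} {X : Aux} (C : Cert D X) (M : CoxeterMatrix (Fin D.rank))
    (h : chkCox D X M.M = true) (F : Type*) [Field F] [Fintype F] :
    Nat.card {χ : Cfsg.IrrCharacter ↥(D.group F) //
      ∃ φ : ↥(D.group F) → ℂ, Cfsg.IsCharacter ↥(D.group F) φ ∧
        Cfsg.fixedPointCharacter ((D.borelSubgroup F).subgroupOf (D.group F)) = (χ : ↥(D.group F) → ℂ) + φ} =
      Nat.card (ConjClasses M.Group) := by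
  classical
  set R := chevRel C F with hR
  have : Finite ↥(D.group F) := R.Finite_of_field
  let _ : Fintype ↥(D.group F) := Fintype.ofFinite _
  have := R.rootPerm.finite
  let _ : Fintype R.WQ := Fintype.ofFinite _
  obtain ⟨cs, -⟩ := R.exists_coxeterSystem M h
  rw [borel_subgroupOf C F, ← hR]
  rw [Nat.card_congr (Equiv.subtypeEquivRight fun χ => constituent_iff R.BS χ), R.card_constituents]
  exact Nat.card_congr
    { toFun := ConjClasses.map cs.mulEquiv.toMonoidHom
      invFun := ConjClasses.map cs.mulEquiv.symm.toMonoidHom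
      left_inv := fun c => by
        induction c using Quotient.inductionOn with
        | h a => exact congrArg ConjClasses.mk (cs.mulEquiv.symm_apply_apply a)
      right_inv := fun c => by
        induction c using Quotient.inductionOn with
        | h a => exact congrArg ConjClasses.mk (cs.mulEquiv.apply_symm_apply a) }

end CfsgLib.Lie.Chev
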