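/-
Fixed vectors of the positive unipotent group in characteristic p: the Hecke operators of the simple reflections,
and uniqueness of the idempotent of defect zero.
-/
import Cfsg.Agent.Lib.Lie.Rel.StCells
import Cfsg.Agent.Lib.Char.DefectZeroIdem

set_option autoImplicit false

namespace CfsgLib.Lie.Chev

open Cfsg.Lie (ChevalleyDatum)
open CfsgLib.DefectZeroIdem

namespace Rel

open scoped _root_.Classical

universe uG

variable {D : ChevalleyDatum} {X : Aux} {F : Type*} [Field F] [Fintype F] {G : Type uG} [Group G] [Fintype G]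
  (R : Rel D X F G) {k : Type*} [Field k] {V : Type*} [AddCommGroup V] [Module k V] (ρ : Representation k G V)
include R

/-- the longest element -/
noncomputable def wTop : R.WQ := R.wMax Set.univ

omit [Fintype F] [Fintype G] in
theorem wTop_inv : R.wTop⁻¹ = R.wTop := R.wMax_inv _

omit [Fintype F] [Fintype G] in
theorem wTop_neg {r : Fin D.nroots} (hr : half D ≤ (r : ℕ)) : ¬ half D ≤ (R.qact R.wTop r : ℕ) :=
  R.neg_of_sub (R.wMax_isMax _) hr fun _ _ h => absurd (Set.mem_univ _) h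

/-- the sum over the positive unipotent group -/
noncomputable def uSum : V →ₗ[k] V := ∑ u : ↥R.UP, ρ (u : G)

/-- fixed by the positive unipotent group -/
def UFix (v : V) : Prop := ∀ u ∈ R.UP, ρ u v = v

omit [Fintype F] in
theorem uSum_apply (v : V) : R.uSum ρ v = ∑ u : ↥R.UP, ρ (u : G) v := by
  simp [uSum, LinearMap.sum_apply]

omit [Fintype F] in
theorem uSum_UP {a : G} (ha : a ∈ R.UP) (v : V) : R.uSum ρ (ρ a v) = R.uSum ρ v := by
  rw [uSum_apply, uSum_apply]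
  refine Fintype.sum_equiv (Equiv.mulRight (⟨a, ha⟩ : ↥R.UP)) _ _ fun u => ?_
  rw [Equiv.coe_mulRight, Subgroup.coe_mul, map_mul, Module.End.mul_apply]

omit [Fintype F] in
theorem uFix_uSum (v : V) : R.UFix ρ (R.uSum ρ v) := fun a ha => by
  rw [uSum_apply, map_sum]
  refine Fintype.sum_equiv (Equiv.mulLeft (⟨a, ha⟩ : ↥R.UP)) _ _ fun u => ?_
  rw [Equiv.coe_mulLeft, Subgroup.coe_mul, map_mul, Module.End.mul_apply]

omit [Fintype F] [Fintype G] in
theorem uFix_HS {h : G} (hh : h ∈ R.HS) {v : V} (hv : R.UFix ρ v) : R.UFix ρ (ρ h v) := fun u hu => by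
  have h1 : h⁻¹ * u * h ∈ R.UP := by
    have := (Subgroup.mem_normalizer_iff.1 (R.HS_le_normalizer_US _ (inv_mem hh)) u).1 hu
    rwa [inv_inv] at this
  rw [← Module.End.mul_apply, ← map_mul, show u * h = h * (h⁻¹ * u * h) by group, map_mul, Module.End.mul_apply,
    hv _ h1]

omit [Fintype F] in
theorem uSum_HS {h : G} (hh : h ∈ R.HS) (v : V) : R.uSum ρ (ρ h v) = ρ h (R.uSum ρ v) := by
  rw [uSum_apply, uSum_apply, map_sum]
  have hn : ∀ u : ↥R.UP, h⁻¹ * (u : G) * h ∈ R.UP := fun u => by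
    have := (Subgroup.mem_normalizer_iff.1 (R.HS_le_normalizer_US _ (inv_mem hh)) (u : G)).1 u.2
    rwa [inv_inv] at this
  refine Fintype.sum_bijective (fun u => (⟨_, hn u⟩ : ↥R.UP)) ((Fintype.bijective_iff_injective_and_card _).2
    ⟨fun a b e => Subtype.ext ?_, rfl⟩) _ _ fun u => ?_
  · exact mul_left_cancel (mul_right_cancel (congrArg Subtype.val e))
  · rw [← Module.End.mul_apply, ← map_mul, ← Module.End.mul_apply, ← map_mul]
    congr 2
    group

omit [Fintype G] R in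
theorem charCard_field_eq_zero (p : ℕ) [Fact p.Prime] [CharP F p] [CharP k p] : (Fintype.card F : k) = 0 := by
  obtain ⟨n, -, hn⟩ := FiniteField.card F p
  rw [hn, Nat.cast_pow, CharP.cast_eq_zero, zero_pow n.ne_zero]

/-- factor the sum through the image of the additive group -/
theorem uSum_hom (φ : Multiplicative F →* ↥R.UP) (hφ : Function.Injective φ) (v : V) :
    ∃ (ι : Type uG) (_ : Fintype ι) (r : ι → ↥R.UP),
      R.uSum ρ v = ∑ i, ρ (r i : G) (∑ t : F, ρ (φ (Multiplicative.ofAdd t) : G) v) := by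
  classical
  refine ⟨↥R.UP ⧸ φ.range, inferInstance, Quotient.out, ?_⟩
  rw [uSum_apply]
  simp only [map_sum, ← Module.End.mul_apply, ← map_mul, ← Subgroup.coe_mul]
  rw [← Fintype.sum_prod_type']
  symm
  refine Fintype.sum_bijective (fun x => x.1.out * φ (Multiplicative.ofAdd x.2)) ⟨?_, ?_⟩ _ _ fun x => rfl
  · rintro ⟨a, s⟩ ⟨b, t⟩ e
    simp only at e
    have hab : a = b := by
      have h := congrArg (fun z : ↥R.UP => (z : ↥R.UP ⧸ φ.range)) e
      simp only [QuotientGroup.mk_mul_of_mem _ (MonoidHom.mem_range.2 ⟨_, rfl⟩), QuotientGroup.out_eq'] at h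
      exact h
    subst hab
    rw [Multiplicative.ofAdd.injective (hφ (mul_left_cancel e))]
  · intro u
    obtain ⟨⟨_, t, rfl⟩, ht⟩ := QuotientGroup.mk_out_eq_mul φ.range u
    exact ⟨⟨(u : ↥R.UP ⧸ φ.range), Multiplicative.toAdd t⁻¹⟩, by simp [ht]⟩

theorem uSum_eq_zero (p : ℕ) [Fact p.Prime] [CharP F p] [CharP k p] (φ : Multiplicative F →* ↥R.UP)
    (hφ : Function.Injective φ) {v : V} (hv : ∀ t : F, ρ (φ (Multiplicative.ofAdd t) : G) v = v) :
    R.uSum ρ v = 0 := by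
  obtain ⟨ι, _, r, e⟩ := R.uSum_hom ρ φ hφ v
  rw [e]
  refine Finset.sum_eq_zero fun i _ => ?_
  simp only [hv, Finset.sum_const, Finset.card_univ, ← Nat.cast_smul_eq_nsmul k,
    charCard_field_eq_zero (F := F) (k := k) p, zero_smul, map_zero]

/-- a simple root group inside the positive unipotent group -/
def rootHom {r : Fin D.nroots} (hr : half D ≤ (r : ℕ)) : Multiplicative F →* ↥R.UP where
  toFun t := ⟨R.xe r (Multiplicative.toAdd t), R.xe_mem_US (S := posSet D) hr _⟩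
  map_one' := Subtype.ext (R.xe_zero r)
  map_mul' a b := Subtype.ext (R.xe_add' r _ _).symm

omit [Fintype F] [Fintype G] in
theorem rootHom_injective {r : Fin D.nroots} (hr : half D ≤ (r : ℕ)) : Function.Injective (R.rootHom hr) :=
  fun _ _ e => Multiplicative.toAdd.injective (R.xe_inj_param (congrArg Subtype.val e))

/-- the sum after the longest element -/
noncomputable def topOp (v : V) : V := R.uSum ρ (ρ (R.rep R.wTop : G) v)

omit [Fintype F] in
theorem sum_coset (f : G → V) :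
    ∑ x, f x = ∑ q : G ⧸ R.UP, ∑ u : ↥R.UP, f (q.out * u) := by
  classical
  rw [← Fintype.sum_prod_type']
  symm
  refine Fintype.sum_bijective (fun x => x.1.out * (x.2 : G)) ⟨?_, ?_⟩ _ _ fun x => rfl
  · rintro ⟨a, s⟩ ⟨b, t⟩ e
    simp only at e
    have hab : a = b := by
      have h := congrArg (fun z : G => (z : G ⧸ R.UP)) e
      simp only [QuotientGroup.mk_mul_of_mem _ (SetLike.coe_mem s), QuotientGroup.mk_mul_of_mem _ (SetLike.coe_mem t),
        QuotientGroup.out_eq'] at h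
      exact h
    subst hab
    rw [Subtype.ext (mul_left_cancel e)]
  · intro g
    obtain ⟨u, hu⟩ := QuotientGroup.mk_out_eq_mul R.UP g
    exact ⟨⟨(g : G ⧸ R.UP), u⁻¹⟩, by simp [hu]⟩

/-- the Hecke operator of a simple reflection -/
noncomputable def tw (i : Fin D.rank) : V →ₗ[k] V :=
  ∑ t : F, ρ (R.xe (D.simple i) t) * ρ (R.ne (D.simple i) 1)

omit [Fintype G] in
theorem tw_apply (i : Fin D.rank) (v : V) :
    R.tw ρ i v = ∑ t : F, ρ (R.xe (D.simple i) t) (ρ (R.ne (D.simple i) 1) v) := by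
  simp [tw, LinearMap.sum_apply, Module.End.mul_apply]

omit [Fintype G] in
theorem uFix_tw (i : Fin D.rank) {v : V} (hv : R.UFix ρ v) : R.UFix ρ (R.tw ρ i v) := fun a ha => by
  obtain ⟨x, hx, s, rfl⟩ := R.exists_UP_split i ha
  rw [tw_apply, map_sum]
  refine Fintype.sum_equiv (Equiv.addLeft s) _ _ fun t => ?_
  obtain ⟨y, hy, ey⟩ : ∃ y ∈ R.US (R.restSet i), y = (R.xe (D.simple i) (s + t))⁻¹ * x * R.xe (D.simple i) (s + t) := by
    refine ⟨_, ?_, rfl⟩
    have := (Subgroup.mem_normalizer_iff.1 (inv_mem (R.xe_simple_mem_normalizer i (s + t)).1) x).1 hx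
    rwa [inv_inv] at this
  obtain ⟨z, hz, ez⟩ : ∃ z ∈ R.US (R.restSet i), z = (R.ne (D.simple i) 1)⁻¹ * y * R.ne (D.simple i) 1 := by
    refine ⟨_, ?_, rfl⟩
    have hsq : R.ne (D.simple i) 1 * R.ne (D.simple i) 1 ∈ R.HS := R.nS_mul_self_mem i
    have := (Subgroup.mem_normalizer_iff.1 (R.HS_le_normalizer_US (R.restSet i) (inv_mem hsq)) _).1
      (R.ne_conj_rest i hy)
    rw [inv_inv] at this
    simpa [mul_assoc] using this
  rw [Equiv.coe_addLeft, ← Module.End.mul_apply, ← map_mul, mul_assoc, R.xe_add']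
  have e : x * R.xe (D.simple i) (s + t) = R.xe (D.simple i) (s + t) * y := by rw [ey]; group
  rw [e, map_mul, Module.End.mul_apply, ← Module.End.mul_apply (ρ y), ← map_mul,
    show y * R.ne (D.simple i) 1 = R.ne (D.simple i) 1 * z by rw [ez]; group, map_mul, Module.End.mul_apply,
    hv z (R.US_mono (R.restSet_subset i) hz)]

theorem topOp_eq_zero_of_tw (i : Fin D.rank) {v : V} (h0 : R.tw ρ i v = 0) : R.topOp ρ v = 0 := by
  set n' : R.NS := R.rep R.wTop * (R.nS i)⁻¹ with hn'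
  have hperm : R.nsPerm n' (R.sroot i) = R.negF (R.qact R.wTop (R.sroot i)) := by
    rw [hn', map_mul, Equiv.Perm.mul_apply, map_inv, R.nsPerm_nS,
      inv_eq_of_mul_eq_one_left (R.wperm_mul_self i), R.wperm_sroot, R.nsPerm_negF, R.nsPerm_rep]
  have hpos : half D ≤ (R.nsPerm n' (R.sroot i) : ℕ) := by
    rw [hperm, R.negF_pos_iff]
    exact R.wTop_neg (R.sroot_pos i)
  obtain ⟨a, ha⟩ := R.isMon_nsPerm n'
  let φ : Multiplicative F →* ↥R.UP :=
    { toFun := fun t => ⟨(n' : G) * R.xe (D.simple i) (Multiplicative.toAdd t) * (n' : G)⁻¹, by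
        rw [show (D.simple i : ℕ) = (R.sroot i : ℕ) from rfl, (ha (R.sroot i)).2.2.2]
        exact R.xe_mem_US (S := posSet D) hpos _⟩
      map_one' := Subtype.ext (by simp [R.xe_zero])
      map_mul' := fun s t => Subtype.ext (by
        show (n' : G) * R.xe (D.simple i) (Multiplicative.toAdd s + Multiplicative.toAdd t) * (n' : G)⁻¹ =
          ((n' : G) * R.xe (D.simple i) (Multiplicative.toAdd s) * (n' : G)⁻¹) *
            ((n' : G) * R.xe (D.simple i) (Multiplicative.toAdd t) * (n' : G)⁻¹)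
        rw [← R.xe_add']
        group) }
  have hφ : Function.Injective φ := fun s t e => by
    have := mul_left_cancel (mul_right_cancel (congrArg Subtype.val e))
    exact Multiplicative.toAdd.injective (R.xe_inj_param (r := R.sroot i) this)
  obtain ⟨ι, _, r, e⟩ := R.uSum_hom ρ φ hφ (ρ (R.rep R.wTop : G) v)
  rw [topOp, e]
  refine Finset.sum_eq_zero fun j _ => ?_
  have e2 : ∀ t : F, ρ (φ (Multiplicative.ofAdd t) : G) (ρ (R.rep R.wTop : G) v) =
      ρ (n' : G) (ρ (R.xe (D.simple i) t) (ρ (R.ne (D.simple i) 1) v)) := fun t => by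
    simp only [← Module.End.mul_apply, ← map_mul]
    congr 2
    show (n' : G) * R.xe (D.simple i) t * (n' : G)⁻¹ * _ = _
    rw [show (R.rep R.wTop : G) = (n' : G) * R.ne (D.simple i) 1 by
      rw [hn', Subgroup.coe_mul, Subgroup.coe_inv]; exact (inv_mul_cancel_right _ _).symm]
    group
  simp only [e2, ← map_sum, ← R.tw_apply, h0, map_zero]

/-- the eigenvalue on the top vector -/
noncomputable def topEig (f : G → k) : k :=
  ∑ g ∈ Finset.univ.filter (fun g => g * (R.rep R.wTop : G) ∈ R.cl R.wTop), f g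

variable (p : ℕ) [Fact p.Prime] [CharP F p] [CharP k p]
include p

theorem uSum_low {n : R.NS} (hn : R.qmk n ≠ R.wTop) {v : V} (hv : R.UFix ρ v) :
    R.uSum ρ (ρ (n : G) v) = 0 := by
  have h1 : ¬ R.IsMax Set.univ (R.qmk n)⁻¹ := fun h => hn (by
    have := R.max_unique (R.wJ_univ (fun i _ => Set.mem_univ i) _) (R.wMax_mem _) h (R.wMax_isMax _)
    rw [← inv_inv (R.qmk n), this]
    exact R.wTop_inv)
  simp only [IsMax, not_forall, not_not] at h1
  obtain ⟨i, -, hpos⟩ := h1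
  rw [← map_inv, R.qact_qmk] at hpos
  refine R.uSum_eq_zero ρ p (R.rootHom (R.sroot_pos i)) (R.rootHom_injective _) fun t => ?_
  show ρ (R.xe (R.sroot i) t) (ρ (n : G) v) = _
  obtain ⟨a, ha⟩ := R.isMon_nsPerm n⁻¹
  have h := (ha (R.sroot i)).2.2.2 t
  rw [Subgroup.coe_inv, inv_inv] at h
  have e : R.xe (R.sroot i) t * (n : G) = (n : G) * ((n : G)⁻¹ * R.xe (R.sroot i) t * n) := by group
  rw [← Module.End.mul_apply, ← map_mul, e, map_mul, Module.End.mul_apply, h]
  exact congrArg _ (hv _ (R.xe_mem_US (S := posSet D) hpos _))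

theorem uSum_cl {g : G} {v : V} (hv : R.UFix ρ v) :
    (g ∉ R.cl R.wTop → R.uSum ρ (ρ g v) = 0) ∧
      (g ∈ R.cl R.wTop → ∃ h ∈ R.HS, R.uSum ρ (ρ g v) = ρ h (R.topOp ρ v) ∧
        ((∀ h ∈ R.HS, ρ h v = v) → R.uSum ρ (ρ g v) = R.topOp ρ v)) := by
  obtain ⟨w, hw⟩ := R.exists_cl g
  obtain ⟨n, rfl, b, hb, b', hb', rfl⟩ := R.exists_of_mem_cl hw
  obtain ⟨u, hu, h, hh, rfl⟩ := R.exists_of_mem_BS hb
  obtain ⟨u', hu', h', hh', rfl⟩ := R.exists_of_mem_BS hb'
  let n' : R.NS := ⟨h, R.HS_le_NS hh⟩ * n * ⟨h', R.HS_le_NS hh'⟩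
  have hn' : R.qmk n' = R.qmk n := by
    simp only [n', map_mul, R.qmk_eq_one.2 (show ((⟨h, R.HS_le_NS hh⟩ : R.NS) : G) ∈ R.HS from hh),
      R.qmk_eq_one.2 (show ((⟨h', R.HS_le_NS hh'⟩ : R.NS) : G) ∈ R.HS from hh'), one_mul, mul_one]
  have e : R.uSum ρ (ρ (u * h * (n : G) * (u' * h')) v) = R.uSum ρ (ρ (n' : G) v) := by
    simp only [map_mul, Module.End.mul_apply, n', Subgroup.coe_mul, R.uFix_HS ρ hh' hv u' hu', R.uSum_UP ρ hu]
  refine ⟨fun hg => ?_, fun hg => ?_⟩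
  · rw [e]
    exact R.uSum_low ρ p (fun h => hg ((hn'.symm.trans h) ▸ hw)) hv
  · have hq := R.cl_inj hw hg
    have hH : (n' : G) * (R.rep R.wTop : G)⁻¹ ∈ R.HS :=
      (R.qmk_eq_one (g := n' * (R.rep R.wTop)⁻¹)).1 (by rw [map_mul, map_inv, R.qmk_rep, hn', hq, mul_inv_cancel])
    have e2 : ρ (n' : G) v = ρ ((n' : G) * (R.rep R.wTop : G)⁻¹) (ρ (R.rep R.wTop : G) v) := by
      rw [← Module.End.mul_apply, ← map_mul, inv_mul_cancel_right]
    refine ⟨_, hH, by rw [e, e2, R.uSum_HS ρ hH]; rfl, fun hB => ?_⟩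
    have hH' : (R.rep R.wTop : G)⁻¹ * (n' : G) ∈ R.HS :=
      (R.qmk_eq_one (g := (R.rep R.wTop)⁻¹ * n')).1 (by rw [map_mul, map_inv, R.qmk_rep, hn', hq, inv_mul_cancel])
    rw [e, ← mul_inv_cancel_left (R.rep R.wTop : G) (n' : G), map_mul, Module.End.mul_apply, hB _ hH']
    rfl

theorem topOp_inj (Dt : Datum G k) {v : V} (hA : v ∈ part ρ Dt) (hv : R.UFix ρ v) (h0 : R.topOp ρ v = 0) :
    v = 0 := by
  refine smul_right_injective V Dt.γ_ne ?_
  simp only
  rw [← part_spread ρ Dt hA, smul_zero, ← Equiv.sum_comp (Equiv.inv G) (fun x => ρ (x * Dt.h0 * x⁻¹) v),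
    R.sum_coset]
  refine Finset.sum_eq_zero fun q _ => ?_
  have e : ∀ u : ↥R.UP, ρ (Equiv.inv G (q.out * (u : G)) * Dt.h0 * (Equiv.inv G (q.out * (u : G)))⁻¹) v =
      ρ ((u⁻¹ : ↥R.UP) : G) (ρ (q.out⁻¹ * Dt.h0 * q.out) v) := fun u => by
    rw [Equiv.inv_apply, inv_inv, mul_inv_rev, show (u : G)⁻¹ * q.out⁻¹ * Dt.h0 * (q.out * (u : G)) =
      (u : G)⁻¹ * ((q.out⁻¹ * Dt.h0 * q.out) * (u : G)) by group, map_mul, Module.End.mul_apply, map_mul,
      Module.End.mul_apply, hv _ u.2, Subgroup.coe_inv]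
  simp only [e]
  refine (Equiv.sum_comp (Equiv.inv ↥R.UP) (fun u : ↥R.UP => ρ (u : G) (ρ (q.out⁻¹ * Dt.h0 * q.out) v))).trans ?_
  rw [← R.uSum_apply]
  by_cases hg : q.out⁻¹ * Dt.h0 * q.out ∈ R.cl R.wTop
  · obtain ⟨h, -, e, -⟩ := (R.uSum_cl ρ p hv).2 hg
    rw [e, h0, map_zero]
  · exact (R.uSum_cl ρ p hv).1 hg

omit [Fintype G] in
theorem tw_tw (i : Fin D.rank) {v : V} (hv : R.UFix ρ v) :
    R.tw ρ i (R.tw ρ i v) = ∑ t ∈ (Finset.univ.erase (0 : F)),
      ρ (R.he (D.simple i) t⁻¹ * (R.ne (D.simple i) 1 * R.ne (D.simple i) 1)) (R.tw ρ i v) := by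
  obtain ⟨n, hn⟩ : ∃ n, n = R.ne (D.simple i) 1 := ⟨_, rfl⟩
  have hsq : n * n ∈ R.HS := hn ▸ R.nS_mul_self_mem i
  simp only [tw_apply, map_sum, ← hn]
  rw [← Finset.add_sum_erase _ _ (Finset.mem_univ (0 : F))]
  have h1 : ∑ s : F, ρ (R.xe (D.simple i) s) (ρ n (ρ (R.xe (D.simple i) 0) (ρ n v))) = 0 := by
    rw [R.xe_zero, map_one, Module.End.one_apply, ← Module.End.mul_apply (ρ n), ← map_mul]
    have hfix : ∀ s : F, ρ (R.xe (D.simple i) s) (ρ (n * n) v) = ρ (n * n) v := fun s =>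
      R.uFix_HS ρ hsq hv _ (R.xe_mem_US (S := posSet D) (r := R.sroot i) (R.sroot_pos i) s)
    simp only [hfix, Finset.sum_const, Finset.card_univ, ← Nat.cast_smul_eq_nsmul k, charCard_field_eq_zero (F := F) (k := k) p, zero_smul]
  rw [h1, zero_add]
  refine Finset.sum_congr rfl fun t ht => ?_
  have ht' : t ≠ 0 := Finset.ne_of_mem_erase ht
  have e0 : n * R.xe (D.simple i) t * n =
      R.xe (D.simple i) (-t⁻¹) * (R.he (D.simple i) t⁻¹ * n) * R.xe (D.simple i) (-t⁻¹) * (n * n) := by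
    have h0 := R.ne_conj_xe_simple i t
    rw [R.xe_neg_eq _ ht', R.ne_eq_he_mul _ t⁻¹, mul_inv_eq_iff_eq_mul, ← hn] at h0
    rw [h0]
    group
  set h := R.he (D.simple i) t⁻¹ * (n * n) with hh
  have hmem : h ∈ R.HS := mul_mem (R.he_mem_HS i (inv_ne_zero ht')) hsq
  obtain ⟨a, ha⟩ := R.isMon_of_mem_HS hmem
  have ha0 := (ha (R.sroot i)).1
  have hx : ∀ s, R.xe (D.simple i) (a (R.sroot i) * s) * h = h * R.xe (D.simple i) s := fun s => by
    have := (ha (R.sroot i)).2.2.2 s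
    rw [Equiv.Perm.one_apply] at this
    rw [show D.simple i = (R.sroot i : ℕ) from rfl, ← this, inv_mul_cancel_right]
  have hfx : ρ (R.xe (D.simple i) (-t⁻¹)) (ρ (n * n) v) = ρ (n * n) v :=
    R.uFix_HS ρ hsq hv _ (R.xe_mem_US (S := posSet D) (r := R.sroot i) (R.sroot_pos i) (-t⁻¹))
  have e1 : ρ n (ρ (R.xe (D.simple i) t) (ρ n v)) = ρ (R.xe (D.simple i) (-t⁻¹)) (ρ h (ρ n v)) := by
    simp only [← Module.End.mul_apply, ← map_mul, ← mul_assoc]
    rw [e0, map_mul, Module.End.mul_apply, map_mul, Module.End.mul_apply, hfx]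
    simp only [← Module.End.mul_apply, ← map_mul]
    congr 2
    rw [hh]
    group
  simp only [e1]
  refine Fintype.sum_equiv ((Equiv.addRight (-t⁻¹)).trans (Equiv.mulLeft₀ _ (inv_ne_zero ha0))) _ _ fun s => ?_
  simp only [Equiv.trans_apply, Equiv.coe_addRight, Equiv.mulLeft₀_apply, ← Module.End.mul_apply, ← map_mul,
    ← mul_assoc, R.xe_add']
  rw [← hx, mul_inv_cancel_left₀ ha0]

theorem part_HS [FiniteDimensional k V] (Dt : Datum G k) {v : V} (hA : v ∈ part ρ Dt) (hv : R.UFix ρ v)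
    {h : G} (hh : h ∈ R.HS) : ρ h v = v := by
  classical
  induction hh using Subgroup.closure_induction generalizing v with
  | one => rw [map_one, Module.End.one_apply]
  | mul x y _ _ hx hy => rw [map_mul, Module.End.mul_apply, hy hA hv, hx hA hv]
  | inv x _ hx =>
    conv_lhs => rw [← hx hA hv]
    rw [← Module.End.mul_apply, ← map_mul, inv_mul_cancel, map_one, Module.End.one_apply]
  | mem x hx =>
    obtain ⟨i, b, hb, rfl⟩ := hx
    let W : Submodule k V :=
      { carrier := {w | w ∈ part ρ Dt ∧ R.UFix ρ w}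
        add_mem' := fun {x y} hx hy => ⟨add_mem hx.1 hy.1, fun u hu => by rw [map_add, hx.2 u hu, hy.2 u hu]⟩
        zero_mem' := ⟨zero_mem _, fun u _ => map_zero _⟩
        smul_mem' := fun c x hx => ⟨Submodule.smul_mem _ c hx.1, fun u hu => by rw [map_smul, hx.2 u hu]⟩ }
    have hTW : ∀ w ∈ W, R.tw ρ i w ∈ W := fun w hw => ⟨by
      rw [tw_apply]
      exact Submodule.sum_mem _ fun t _ => part_apply_mem ρ Dt _ (part_apply_mem ρ Dt _ hw.1), R.uFix_tw ρ i hw.2⟩
    have hinj : Function.Injective ((R.tw ρ i).restrict hTW) := by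
      rw [← LinearMap.ker_eq_bot, LinearMap.ker_eq_bot']
      rintro ⟨w, hw⟩ e
      exact Subtype.ext (R.topOp_inj ρ p Dt hw.1 hw.2 (R.topOp_eq_zero_of_tw ρ i (congrArg Subtype.val e)))
    have hsurj := LinearMap.injective_iff_surjective.1 hinj
    set S : V → V := fun w => ∑ t ∈ (Finset.univ.erase (0 : F)),
      ρ (R.he (D.simple i) t⁻¹ * (R.ne (D.simple i) 1 * R.ne (D.simple i) 1)) w with hS
    have htwo : ∀ w ∈ W, R.tw ρ i w = S w := by
      intro w hw
      obtain ⟨⟨u, hu⟩, e⟩ := hsurj ⟨w, hw⟩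
      obtain rfl : R.tw ρ i u = w := congrArg Subtype.val e
      exact R.tw_tw ρ p i hu.2
    have hS' : S (ρ (R.he (D.simple i) b) v) = S v := by
      simp only [hS]
      refine Finset.sum_nbij' (fun t => t * b⁻¹) (fun t => t * b) ?_ ?_ ?_ ?_ fun t ht => ?_
      · intro t ht
        exact Finset.mem_erase.2 ⟨mul_ne_zero (Finset.ne_of_mem_erase ht) (inv_ne_zero hb), Finset.mem_univ _⟩
      · intro t ht
        exact Finset.mem_erase.2 ⟨mul_ne_zero (Finset.ne_of_mem_erase ht) hb, Finset.mem_univ _⟩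
      · intro t _; exact inv_mul_cancel_right₀ hb t
      · intro t _; exact mul_inv_cancel_right₀ hb t
      · have hc := R.HS_isMulCommutative (show R.ne (D.simple i) 1 * R.ne (D.simple i) 1 ∈ R.HS from
          R.nS_mul_self_mem i) (R.he_mem_HS i hb)
        rw [← Module.End.mul_apply, ← map_mul, mul_assoc, hc, ← mul_assoc,
          R.hmul' i i.2 (inv_ne_zero (Finset.ne_of_mem_erase ht)) hb, mul_inv, inv_inv]
    have hv' : ρ (R.he (D.simple i) b) v ∈ W :=
      ⟨part_apply_mem ρ Dt _ hA, R.uFix_HS ρ (R.he_mem_HS i hb) hv⟩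
    exact congrArg Subtype.val (hinj (a₁ := (⟨_, hv'⟩ : W)) (a₂ := (⟨v, hA, hv⟩ : W))
      (Subtype.ext ((htwo _ hv').trans (hS'.trans (htwo v ⟨hA, hv⟩).symm))))

theorem oper_topOp {f : G → k} (hf : ∀ g h, f (h * g * h⁻¹) = f g) {v : V} (hv : R.UFix ρ v)
    (hB : ∀ h ∈ R.HS, ρ h v = v) : oper ρ f (R.topOp ρ v) = R.topEig f • R.topOp ρ v := by
  classical
  rw [topEig, Finset.sum_smul, Finset.sum_filter]
  have h1 : oper ρ f (R.topOp ρ v) = R.uSum ρ (oper ρ f (ρ (R.rep R.wTop : G) v)) := by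
    rw [topOp, uSum_apply, uSum_apply, map_sum]
    exact Finset.sum_congr rfl fun u _ => oper_comm ρ hf _ _
  rw [h1, oper_apply, map_sum]
  refine Finset.sum_congr rfl fun g _ => ?_
  rw [map_smul, ← Module.End.mul_apply (ρ g), ← map_mul]
  split_ifs with hg
  · obtain ⟨h, -, -, e⟩ := (R.uSum_cl ρ p hv).2 hg
    rw [e hB]
  · rw [(R.uSum_cl ρ p hv).1 hg, smul_zero]

theorem orthogonal_absurd [FiniteDimensional k V] (A B : Datum G k)
    (horth : ∀ g, ∑ h, A.e h * B.e (h⁻¹ * g) = 0) {v w : V} (hv : v ∈ part ρ A) (hvU : R.UFix ρ v)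
    (hv0 : v ≠ 0) (hw : w ∈ part ρ B) (hwU : R.UFix ρ w) : w = 0 := by
  have hvH := fun h (hh : h ∈ R.HS) => R.part_HS ρ p A hv hvU hh
  have hwH := fun h (hh : h ∈ R.HS) => R.part_HS ρ p B hw hwU hh
  have ev := R.oper_topOp ρ p A.conj hvU hvH
  have hvT : R.topOp ρ v ∈ part ρ A := by
    rw [topOp, uSum_apply]
    exact Submodule.sum_mem _ fun u _ => part_apply_mem _ A _ (part_apply_mem _ A _ hv)
  have hwT : R.topOp ρ w ∈ part ρ B := by
    rw [topOp, uSum_apply]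
    exact Submodule.sum_mem _ fun u _ => part_apply_mem _ B _ (part_apply_mem _ B _ hw)
  rw [show oper ρ A.e (R.topOp ρ v) = _ from hvT] at ev
  have hc : A.c = R.topEig A.e :=
    smul_left_injective k (fun h => hv0 (R.topOp_inj ρ p A hv hvU h)) ev
  have ew := R.oper_topOp ρ p A.conj hwU hwH
  rw [oper_part_eq_zero ρ B horth hwT, ← hc] at ew
  exact R.topOp_inj ρ p B hw hwU ((smul_eq_zero.1 ew.symm).resolve_left A.c_ne)

omit ρ in
/-- two orthogonal idempotents of defect zero cannot exist -/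
theorem not_orthogonal (hU : IsPGroup p R.UP) (A B : Datum G k) :
    ¬ ∀ g, ∑ h, A.e h * B.e (h⁻¹ * g) = 0 := by
  intro horth
  obtain ⟨v, hv, hv0, hvU⟩ := exists_fixed_part A hU
  obtain ⟨w, hw, hw0, hwU⟩ := exists_fixed_part B hU
  exact hw0 (R.orthogonal_absurd (regRep (G := G) (k := k)) p A B horth hv hvU hv0 hw hwU)

end Rel

end CfsgLib.Lie.Chev
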