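/-
Values of the Steinberg alternating sum at elements prime to p: sums over the radical of a minimal parabolic.
-/
import Cfsg.Agent.Lib.Lie.Rel.StChar

set_option autoImplicit false

namespace CfsgLib.Lie.Chev

open Cfsg.Lie (ChevalleyDatum)
open CfsgLib.Lie.Exchange

namespace Rel

variable {D : ChevalleyDatum} {X : Aux} {F : Type*} [Field F] {G : Type*} [Group G] (R : Rel D X F G)
include R

/-- heights do not drop under a linear map keeping the involved simple roots positive -/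
theorem height_le (f : Fin D.nroots → Fin D.nroots) (hlin : ∀ (r : Fin D.nroots) (j : Fin D.rank),
      X.coef j (f r : ℕ) = ∑ i : Fin D.rank, X.coef i (r : ℕ) * X.coef j (f (R.sroot i) : ℕ))
    {r : Fin D.nroots} (hr : half D ≤ (r : ℕ))
    (hpos : ∀ t : Fin D.rank, X.coef t (r : ℕ) ≠ 0 → half D ≤ (f (R.sroot t) : ℕ)) :
    ∑ j : Fin D.rank, X.coef j (r : ℕ) ≤ ∑ j : Fin D.rank, X.coef j (f r : ℕ) := by
  simp only [hlin r]
  rw [Finset.sum_comm]
  refine Finset.sum_le_sum fun t _ => ?_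
  rw [← Finset.mul_sum]
  by_cases h : X.coef t (r : ℕ) = 0
  · rw [h, zero_mul]
  refine le_mul_of_one_le_right (R.cert.coef_nonneg r.2 t.2 hr) ?_
  have hnn := (R.pos_iff_coef _).1 (hpos t h)
  obtain ⟨j, hj⟩ := R.exists_coef_ne_zero (f (R.sroot t))
  refine le_trans ?_ (Finset.single_le_sum (fun j _ => hnn j) (Finset.mem_univ j))
  have := hnn j
  omega

theorem height_sroot (i : Fin D.rank) : ∑ j : Fin D.rank, X.coef j (R.sroot i : ℕ) = 1 := by
  simp [R.coef_sroot]

theorem mem_of_sroot_sub {K : Set ℕ} {t : Fin D.rank} (h : R.sroot t ∈ subSet D X K) : (t : ℕ) ∈ K := by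
  by_contra hc
  have := h t t.2 hc
  rw [R.coef_sroot, if_pos rfl] at this
  exact one_ne_zero this

/-- the longest element negates simple roots up to a permutation -/
theorem wMax_sroot (K : Set ℕ) {i : Fin D.rank} (hi : (i : ℕ) ∈ K) :
    ∃ t : Fin D.rank, (t : ℕ) ∈ K ∧ R.qact (R.wMax K) (R.sroot i) = R.negF (R.sroot t) := by
  set w := R.wMax K with hw
  set r := R.negF (R.qact w (R.sroot i)) with hr
  have hp : half D ≤ (r : ℕ) := (R.negF_pos_iff _).2 (R.wMax_isMax K i hi)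
  have hsub : r ∈ subSet D X K := R.negF_mem_sub K (R.qact_mem_sub (R.wMax_mem K) (R.sroot_mem_sub K hi))
  have hneg : R.negF (R.qact w r) = R.sroot i := by
    rw [hr, R.qact_negF, R.negF_negF, ← R.qact_mul_apply, R.wMax_mul_self, map_one, Equiv.Perm.one_apply]
  have h := R.height_le (fun s => R.negF (R.qact w s)) (fun s j => by
    show X.coef j (D.neg (R.qact w s)) = ∑ k : Fin D.rank, X.coef k (s : ℕ) * X.coef j (D.neg (R.qact w (R.sroot k)))
    simp only [R.cert.coef_neg (R.qact w _).2 j.2]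
    rw [R.isLin_qact w s j, ← Finset.sum_neg_distrib]
    exact Finset.sum_congr rfl fun k _ => (mul_neg _ _).symm) hp (fun t ht => (R.negF_pos_iff _).2 (R.wMax_isMax K t (by
      by_contra hc
      exact ht (hsub t t.2 hc))))
  simp only [hneg, R.height_sroot] at h
  obtain ⟨t, ht⟩ := R.eq_sroot_of_height hp h
  exact ⟨t, R.mem_of_sroot_sub (ht ▸ hsub), by rw [← ht, hr, R.negF_negF]⟩

/-- the simple roots of `J` that `x` takes from `K` -/
def admSet (J K : Set ℕ) (x : R.WQ) : Set ℕ :=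
  {j | j ∈ J ∧ ∃ i k : Fin D.rank, (i : ℕ) = j ∧ (k : ℕ) ∈ K ∧ R.qact x (R.sroot k) = R.sroot i}

/-- Kilmoyer's lemma -/
theorem wJ_inter {J K : Set ℕ} {x v u : R.WQ} (hxK : R.IsMin K x) (hxJ : R.IsMin J x⁻¹)
    (hv : v ∈ R.wJ J) (hu : u ∈ R.wJ K) (e : v * x = x * u) : v ∈ R.wJ (R.admSet J K x) := by
  induction hn : wlen R.qgen v using Nat.strong_induction_on generalizing v u with
  | _ n ih =>
    by_cases h1 : v = 1
    · exact h1 ▸ one_mem _
    obtain ⟨i, hi, hneg⟩ := R.exists_descent_wJ hv h1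
    set β := R.qact x⁻¹ (R.sroot i) with hβ
    have hβp : half D ≤ (β : ℕ) := hxJ i hi i.2
    have hxβ : R.qact x β = R.sroot i := R.qact_inv_apply x _ ▸ rfl
    have hvi : R.qact x⁻¹ (R.qact v (R.sroot i)) = R.qact u β := by
      rw [hβ, ← R.qact_mul_apply, ← R.qact_mul_apply]
      congr 2
      rw [eq_mul_inv_iff_mul_eq, mul_assoc, e, inv_mul_cancel_left]
    have hβK : β ∈ subSet D X K := by
      by_contra hc
      have h2 := R.pos_wJ_of_not_sub hu hβp hc
      rw [← hvi] at h2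
      have h3 := R.pos_of_sub hxJ ((R.negF_pos_iff _).2 hneg)
        (R.negF_mem_sub J (R.qact_mem_sub hv (R.sroot_mem_sub J hi)))
      rw [R.qact_negF, R.negF_pos_iff] at h3
      exact h3 h2
    have hh := R.height_le (R.qact x) (R.isLin_qact x) hβp (fun t ht => hxK t (by
      by_contra hc
      exact ht (hβK t t.2 hc)) t.2)
    rw [hxβ, R.height_sroot] at hh
    obtain ⟨t, ht⟩ := R.eq_sroot_of_height hβp hh
    rw [ht] at hxβ hβK
    have htK := R.mem_of_sroot_sub hβK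
    have hconj := R.rootPerm.conj x t i hxβ
    have e' : R.qgen i * x = x * R.qgen t := by rw [← hconj, inv_mul_cancel_right]
    have hmem : (i : ℕ) ∈ R.admSet J K x := ⟨hi, i, t, rfl, htK, hxβ⟩
    have h4 := ih _ (hn ▸ (R.rootPerm.wlen_mul_simple_lt_iff v i).2 hneg) (mul_mem hv (R.qgen_mem_wJ hi))
      (mul_mem hu (R.qgen_mem_wJ htK)) (by rw [mul_assoc, e', ← mul_assoc, e, mul_assoc]) rfl
    have h5 := mul_mem h4 (R.qgen_mem_wJ hmem)
    rwa [R.rootPerm.toGenInv.cancel_right] at h5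

theorem PJ_inter_conj {J K : Set ℕ} {x : R.WQ} (hxK : R.IsMin K x) (hxJ : R.IsMin J x⁻¹) {y : G}
    (hy : y ∈ R.PJ J) (hy' : (R.rep x : G)⁻¹ * y * R.rep x ∈ R.PJ K) : y ∈ R.PJ (R.admSet J K x) := by
  obtain ⟨v, hv, hyv⟩ := R.exists_mem_cl_of_PJ hy
  obtain ⟨u, hu, hyu⟩ := R.exists_mem_cl_of_PJ hy'
  have h1 := R.mul_cl_min hxK hu (R.rep_mem_cl x) hyu
  rw [← mul_assoc, mul_inv_cancel_left] at h1
  have h2 := R.mul_cl (fun r hr => R.pos_wJ_of_not_sub hv hr.1 fun h => hr.2 (R.pos_of_sub hxJ hr.1 h))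
    hyv (R.rep_mem_cl x)
  exact R.cl_subset_PJ (R.wJ_inter hxK hxJ hv hu (R.cl_inj h2 h1)) hyv

/-- every simple root of `J` comes from `K` -/
def IsAdm (J K : Set ℕ) (x : R.WQ) : Prop :=
  ∀ i : Fin D.rank, (i : ℕ) ∈ J → ∃ k : Fin D.rank, (k : ℕ) ∈ K ∧ R.qact x (R.sroot k) = R.sroot i

theorem IsAdm.isMin_inv {J K : Set ℕ} {x : R.WQ} (h : R.IsAdm J K x) : R.IsMin J x⁻¹ := fun j hj hjr => by
  obtain ⟨k, -, e⟩ := h ⟨j, hjr⟩ hj
  rw [← e, R.qact_apply_inv]
  exact R.sroot_pos k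

/-- the radical together with the stabiliser exhausts the parabolic -/
theorem PJ_le_rad_sup (hD : Desc D X) {J K : Set ℕ} {x : R.WQ} (h : R.IsAdm J K x) {g : G} (hg : g ∈ R.PJ J) :
    ∃ u ∈ R.UR J, ((g * R.rep x : G) : G ⧸ R.PJ K) = ((u * R.rep x : G) : G ⧸ R.PJ K) := by
  set n : G := (R.rep x : G) with hn
  let S : Subgroup G := R.PJ J ⊓ (R.PJ K).comap (MulAut.conj n⁻¹).toMonoidHom
  have hmem : ∀ {y : G}, y ∈ R.PJ J → n⁻¹ * y * n ∈ R.PJ K → y ∈ S := fun {y} h1 h2 =>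
    ⟨h1, by show MulAut.conj n⁻¹ y ∈ R.PJ K; rwa [MulAut.conj_apply, inv_inv]⟩
  have hroot : ∀ r ∈ subSet D X J, ∀ t, R.xe (r : ℕ) t ∈ S := by
    intro r hr t
    refine hmem (R.xe_mem_PJ J hD (Or.inr hr) t) ?_
    obtain ⟨a, ha⟩ := R.isMon_nsPerm (R.rep x)⁻¹
    have h4 := (ha r).2.2.2 t
    rw [Subgroup.coe_inv, inv_inv] at h4
    rw [h4]
    refine R.xe_mem_PJ K hD (Or.inr ?_) _
    rw [map_inv, R.nsPerm_rep, ← map_inv]
    intro k hk hkK
    have hl := R.isLin_qact x⁻¹ r ⟨k, hk⟩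
    simp only at hl
    rw [hl]
    refine Finset.sum_eq_zero fun i _ => ?_
    by_cases hi : (i : ℕ) ∈ J
    · obtain ⟨k', hk', e⟩ := h i hi
      rw [← e, R.qact_apply_inv, R.coef_sroot k' ⟨k, hk⟩, if_neg, mul_zero]
      intro he
      exact hkK (by have := congrArg Fin.val he; simp only at this; rw [this]; exact hk')
    · rw [hr i i.2 hi, zero_mul]
  have hHS : R.HS ≤ S := fun y hy => hmem (Subgroup.mem_sup_left (R.HS_le_BS hy))
    (Subgroup.mem_sup_left (R.HS_le_BS (by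
      have := R.HS_conj (inv_mem (R.rep x).2) hy
      rwa [inv_inv] at this)))
  have hle : R.PJ J ≤ R.UR J ⊔ S := by
    rw [← R.UR_sup_LJ J hD]
    exact sup_le le_sup_left (sup_le (hHS.trans le_sup_right) ((R.US_le hroot).trans le_sup_right))
  obtain ⟨u, hu, y, hy, rfl⟩ := exists_mul_of_mem_sup
    (fun y hy => R.PJ_le_normalizer J hD (inf_le_left (a := R.PJ J) hy)) (hle hg)
  refine ⟨u, hu, QuotientGroup.eq.2 ?_⟩
  have h2 : MulAut.conj n⁻¹ y ∈ R.PJ K := hy.2
  rw [MulAut.conj_apply, inv_inv] at h2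
  rw [show (u * y * n)⁻¹ * (u * n) = (n⁻¹ * y * n)⁻¹ by group]
  exact inv_mem h2

/-- the cosets of `P_K` meeting the double coset of `x` -/
def InDbl (J K : Set ℕ) (x : R.WQ) (c : G ⧸ R.PJ K) : Prop :=
  R.IsMin K x ∧ R.IsMin J x⁻¹ ∧ ∃ a ∈ R.PJ J, c = ((a * R.rep x : G) : G ⧸ R.PJ K)

theorem inDbl_exists [Finite G] (J K : Set ℕ) (c : G ⧸ R.PJ K) : ∃ x, R.InDbl J K x c := by
  induction c using QuotientGroup.induction_on with
  | H g =>
    obtain ⟨x, hxJ, hxK, a, ha, p, hp, h⟩ := R.exists_double_min K J g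
    obtain ⟨m, hm, b, hb, b', hb', e⟩ := R.exists_of_mem_cl h
    have hH : (R.rep x : G)⁻¹ * m ∈ R.HS :=
      R.qmk_eq_one (g := (R.rep x)⁻¹ * m) |>.1 (by rw [map_mul, map_inv, R.qmk_rep, hm, inv_mul_cancel])
    refine ⟨x, hxJ, hxK, a⁻¹ * b, mul_mem (inv_mem ha) (Subgroup.mem_sup_left hb), QuotientGroup.eq.2 ?_⟩
    have e' : g⁻¹ * (a⁻¹ * b * R.rep x) = p * b'⁻¹ * ((R.rep x : G)⁻¹ * m)⁻¹ := by
      rw [show g = a⁻¹ * (b * m * b') * p⁻¹ by rw [← e]; group]; group
    rw [e']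
    exact mul_mem (mul_mem hp (Subgroup.mem_sup_left (inv_mem hb')))
      (inv_mem (Subgroup.mem_sup_left (R.HS_le_BS hH)))

theorem inDbl_unique [Finite G] {J K : Set ℕ} {x y : R.WQ} {c : G ⧸ R.PJ K} (hx : R.InDbl J K x c)
    (hy : R.InDbl J K y c) : y = x := by
  obtain ⟨hxK, hxJ, a, ha, rfl⟩ := hx
  obtain ⟨hyK, hyJ, b, hb, e⟩ := hy
  have hp := QuotientGroup.eq.1 e
  obtain ⟨v, hv, u, hu, h⟩ := R.exists_double (mul_mem (inv_mem hb) ha) (R.rep_mem_cl x) hp
  have e2 : b⁻¹ * a * R.rep x * ((a * R.rep x : G)⁻¹ * (b * R.rep y)) = (R.rep y : G) := by group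
  rw [e2] at h
  exact R.double_unique hv hu hxK hyK hxJ hyJ (R.cl_inj (R.rep_mem_cl y) h)

/-- `s` lies in no conjugate of a smaller parabolic -/
def IsCusp (J : Finset ℕ) (s : G) : Prop :=
  s ∈ R.PJ (J : Set ℕ) ∧ ∀ S : Finset ℕ, S ⊂ J → ∀ g, g⁻¹ * s * g ∉ R.PJ (S : Set ℕ)

/-- the fixed points of the coset of the radical, counted over all cosets of `P_K` -/
theorem sum_stFix_rad [Fintype G] (hD : Desc D X) {J : Finset ℕ} (hJ : ∀ j ∈ J, j < D.rank) {s : G}
    (hs : R.IsCusp J s) (K : Set ℕ) [Fintype ↥(R.UR (J : Set ℕ))] :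
    ∑ u : ↥(R.UR (J : Set ℕ)), Nat.card (MulAction.fixedBy (G ⧸ R.PJ K) ((u : G) * s)) =
      Nat.card ↥(R.UR (J : Set ℕ)) * Nat.card {x : R.WQ // R.IsMin K x ∧ R.IsAdm (J : Set ℕ) K x} := by
  classical
  have := R.rootPerm.finite
  have := Fintype.ofFinite R.WQ
  have := Fintype.ofFinite (G ⧸ R.PJ K)
  let U := R.UR (J : Set ℕ)
  let N : G ⧸ R.PJ K → ℕ := fun c => ∑ u : ↥U, if ((u : G) * s) • c = c then 1 else 0
  let xc : G ⧸ R.PJ K → R.WQ := fun c => (R.inDbl_exists (J : Set ℕ) K c).choose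
  have hxc : ∀ c, R.InDbl (J : Set ℕ) K (xc c) c := fun c => (R.inDbl_exists (J : Set ℕ) K c).choose_spec
  have h0 : ∑ u : ↥U, Nat.card (MulAction.fixedBy (G ⧸ R.PJ K) ((u : G) * s)) = ∑ c, N c := by
    rw [Finset.sum_comm]
    refine Finset.sum_congr rfl fun u _ => ?_
    rw [Nat.card_eq_fintype_card, Finset.sum_boole, Nat.cast_id, ← Fintype.card_subtype]
    exact Fintype.card_congr (Equiv.subtypeEquivRight fun c => Iff.rfl)
  rw [h0, ← Finset.sum_fiberwise Finset.univ xc]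
  rw [Nat.card_eq_fintype_card (α := {x : R.WQ // R.IsMin K x ∧ R.IsAdm (J : Set ℕ) K x}), Fintype.card_subtype,
    mul_comm, ← smul_eq_mul, ← Finset.sum_const, Finset.sum_filter]
  refine Finset.sum_congr rfl fun x _ => ?_
  split_ifs with hx
  · obtain ⟨hxK, hxA⟩ := hx
    set c0 : G ⧸ R.PJ K := ((R.rep x : G) : G ⧸ R.PJ K) with hc0
    have hfib : ∀ c, xc c = x ↔ c ∈ MulAction.orbit ↥U c0 := by
      intro c
      constructor
      · intro e
        obtain ⟨-, -, a, ha, rfl⟩ := e ▸ hxc c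
        obtain ⟨u, hu, e'⟩ := R.PJ_le_rad_sup hD hxA ha
        exact ⟨⟨u, hu⟩, e'.symm⟩
      · rintro ⟨u, rfl⟩
        exact R.inDbl_unique ⟨hxK, IsAdm.isMin_inv R hxA, (u : G),
          Subgroup.mem_sup_left (R.UP_le_BS (R.UR_le_UP _ u.2)), rfl⟩ (hxc _)
    rw [Finset.filter_congr fun c _ => hfib c]
    have hN : ∀ c ∈ MulAction.orbit ↥U c0, N c * Nat.card (MulAction.orbit ↥U c0) = Nat.card ↥U := by
      intro c hc
      obtain ⟨a, ha, rfl⟩ : ∃ a ∈ R.PJ (J : Set ℕ), c = ((a * R.rep x : G) : G ⧸ R.PJ K) := by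
        obtain ⟨u, rfl⟩ := hc
        exact ⟨u, Subgroup.mem_sup_left (R.UP_le_BS (R.UR_le_UP _ u.2)), rfl⟩
      obtain ⟨w, hw, ew⟩ := R.PJ_le_rad_sup hD hxA (mul_mem hs.1 ha)
      have hsd : s • ((a * R.rep x : G) : G ⧸ R.PJ K) ∈ MulAction.orbit ↥U c0 := by
        refine ⟨⟨w, hw⟩, ?_⟩
        show ((w * R.rep x : G) : G ⧸ R.PJ K) = ((s * (a * R.rep x) : G) : G ⧸ R.PJ K)
        rw [← ew, mul_assoc]
      rw [← MulAction.orbit_eq_iff.2 hc] at hsd ⊢
      obtain ⟨u0, hu0⟩ := hsd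
      have h1 : N ((a * R.rep x : G) : G ⧸ R.PJ K) =
          Nat.card (MulAction.stabilizer ↥U ((a * R.rep x : G) : G ⧸ R.PJ K)) := by
        simp only [N]
        rw [Finset.sum_boole, Nat.cast_id, ← Fintype.card_subtype, ← Nat.card_eq_fintype_card]
        refine Nat.card_congr ((Equiv.mulRight u0).subtypeEquiv fun u => ?_)
        rw [MulAction.mem_stabilizer_iff, Equiv.coe_mulRight, mul_smul, mul_smul]
        constructor
        · intro h
          rw [← hu0] at h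
          exact h
        · intro h
          rw [← hu0]
          exact h
      rw [h1, mul_comm, ← Nat.card_prod]
      exact Nat.card_congr (MulAction.orbitProdStabilizerEquivGroup ↥U ((a * R.rep x : G) : G ⧸ R.PJ K))
    have hpos : 0 < Nat.card (MulAction.orbit ↥U c0) := by
      have : Nonempty (MulAction.orbit ↥U c0) := ⟨⟨c0, MulAction.mem_orbit_self c0⟩⟩
      exact Nat.card_pos
    refine mul_right_cancel₀ hpos.ne' ?_
    rw [Finset.sum_mul, Finset.sum_congr rfl fun c hc => hN c (Finset.mem_filter.1 hc).2, Finset.sum_const,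
      smul_eq_mul, mul_comm, ← Fintype.card_subtype, ← Nat.card_eq_fintype_card]
  · refine Finset.sum_eq_zero fun c hc => Finset.sum_eq_zero fun u _ => if_neg fun hu => hx ?_
    obtain ⟨hxK, hxJ, a, ha, rfl⟩ := (Finset.mem_filter.1 hc).2 ▸ hxc c
    refine ⟨hxK, ?_⟩
    rw [MulAction.Quotient.smul_coe, QuotientGroup.eq, smul_eq_mul] at hu
    have hus : (u : G) * s ∈ R.PJ (J : Set ℕ) :=
      mul_mem (Subgroup.mem_sup_left (R.UP_le_BS (R.UR_le_UP _ u.2))) hs.1
    have hy : a⁻¹ * ((u : G) * s) * a ∈ R.PJ (J : Set ℕ) := mul_mem (mul_mem (inv_mem ha) hus) ha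
    have hy' : (R.rep x : G)⁻¹ * (a⁻¹ * ((u : G) * s) * a) * R.rep x ∈ R.PJ K := by
      have := inv_mem hu
      simpa [mul_assoc] using this
    have h2 := R.PJ_inter_conj hxK hxJ hy hy'
    have h3 : a⁻¹ * (u : G) * a ∈ R.PJ (R.admSet (J : Set ℕ) K x) := by
      have := (R.UR_conj_mem hD (u := (u : G)) ha).2 u.2
      exact Subgroup.mem_sup_left (R.UP_le_BS (R.UR_le_UP _ this))
    have h4 : a⁻¹ * s * a ∈ R.PJ (R.admSet (J : Set ℕ) K x) := by
      have := mul_mem (inv_mem h3) h2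
      simpa [mul_assoc] using this
    intro i hi
    by_contra hcon
    let S : Finset ℕ := J.filter fun j => j ∈ R.admSet (J : Set ℕ) K x
    have hS : (S : Set ℕ) = R.admSet (J : Set ℕ) K x := Set.ext fun j =>
      ⟨fun h => (Finset.mem_filter.1 h).2, fun h => Finset.mem_filter.2 ⟨h.1, h⟩⟩
    refine hs.2 S (Finset.ssubset_iff_subset_ne.2 ⟨Finset.filter_subset _ _, fun e => hcon ?_⟩) a (hS ▸ h4)
    obtain ⟨-, i', k, hi', hk, hik⟩ := (hS ▸ e.symm ▸ hi : (i : ℕ) ∈ R.admSet (J : Set ℕ) K x)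
    exact ⟨k, hk, by rw [hik, Fin.ext hi']⟩

open scoped _root_.Classical in
/-- the alternating count of admissible double cosets -/
theorem alt_adm {J : Finset ℕ} (hJ : ∀ j ∈ J, j < D.rank) :
    ∑ K ∈ (Finset.range D.rank).powerset, (-1 : ℤ) ^ K.card *
      (Nat.card {x : R.WQ // R.IsMin (K : Set ℕ) x ∧ R.IsAdm (J : Set ℕ) (K : Set ℕ) x} : ℤ) =
        (-1) ^ J.card := by
  have := R.rootPerm.finite
  have := Fintype.ofFinite R.WQ
  let T : R.WQ → Finset ℕ := fun x => (Finset.range D.rank).filter fun k =>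
    ∃ i k' : Fin D.rank, (i : ℕ) ∈ J ∧ (k' : ℕ) = k ∧ R.qact x (R.sroot k') = R.sroot i
  let A : R.WQ → Finset ℕ := fun x => (Finset.range D.rank).filter fun k => R.asc x k
  let Ex : R.WQ → Prop := fun x => ∀ i : Fin D.rank, (i : ℕ) ∈ J → ∃ k, R.qact x (R.sroot k) = R.sroot i
  have hTA : ∀ x, T x ⊆ A x := fun x k hk => by
    obtain ⟨hk1, i, k', hi, rfl, e⟩ := Finset.mem_filter.1 hk
    refine Finset.mem_filter.2 ⟨hk1, fun h => ?_⟩
    rw [Fin.eta, e]; exact R.sroot_pos i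
  have hiff : ∀ K ∈ (Finset.range D.rank).powerset, ∀ x,
      (R.IsMin (K : Set ℕ) x ∧ R.IsAdm (J : Set ℕ) (K : Set ℕ) x) ↔ (T x ⊆ K ∧ K ⊆ A x ∧ Ex x) := by
    intro K hK x
    constructor
    · rintro ⟨h1, h2⟩
      refine ⟨fun k hk => ?_, fun k hk => Finset.mem_filter.2 ⟨Finset.mem_powerset.1 hK hk, h1 k (Finset.mem_coe.2 hk)⟩,
        fun i hi => (h2 i (Finset.mem_coe.2 hi)).imp fun _ h => h.2⟩
      obtain ⟨-, i, k', hi, rfl, e⟩ := Finset.mem_filter.1 hk
      obtain ⟨k, hkK, e'⟩ := h2 i (Finset.mem_coe.2 hi)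
      rw [← R.sroot_injective ((R.qact x).injective (e'.trans e.symm))]
      exact Finset.mem_coe.1 hkK
    · rintro ⟨h1, h2, h3⟩
      refine ⟨fun k hk => (Finset.mem_filter.1 (h2 (Finset.mem_coe.1 hk))).2, fun i hi => ?_⟩
      obtain ⟨k, e⟩ := h3 i (Finset.mem_coe.1 hi)
      exact ⟨k, Finset.mem_coe.2 (h1 (Finset.mem_filter.2 ⟨Finset.mem_range.2 k.2, i, k, Finset.mem_coe.1 hi, rfl, e⟩)), e⟩
  have hcard : ∀ x, Ex x → (T x).card = J.card := by
    intro x hx
    refine (Finset.card_bij (fun j hj => ((hx ⟨j, hJ j hj⟩ hj).choose : ℕ)) ?_ ?_ ?_).symm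
    · intro j hj
      exact Finset.mem_filter.2 ⟨Finset.mem_range.2 (Fin.is_lt _), ⟨j, hJ j hj⟩, _, hj, rfl,
        (hx ⟨j, hJ j hj⟩ hj).choose_spec⟩
    · intro a ha b hb e
      have h1 := (hx ⟨a, hJ a ha⟩ ha).choose_spec
      have h2 := (hx ⟨b, hJ b hb⟩ hb).choose_spec
      rw [Fin.ext e, h2] at h1
      exact (congrArg Fin.val (R.sroot_injective h1)).symm
    · intro k hk
      obtain ⟨-, i, k', hi, rfl, e⟩ := Finset.mem_filter.1 hk
      refine ⟨i, hi, congrArg Fin.val ?_⟩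
      exact R.sroot_injective ((R.qact x).injective ((hx ⟨i, hJ i hi⟩ hi).choose_spec.trans (by rw [e])))
  have hrow : ∀ x, ∑ K ∈ (Finset.range D.rank).powerset, (-1 : ℤ) ^ K.card *
      (if R.IsMin (K : Set ℕ) x ∧ R.IsAdm (J : Set ℕ) (K : Set ℕ) x then 1 else 0) =
      if Ex x ∧ A x = T x then (-1) ^ J.card else 0 := by
    intro x
    rw [Finset.sum_congr rfl fun K hK => by rw [if_congr (hiff K hK x) rfl rfl]]
    by_cases hx : Ex x
    · simp only [hx, and_true, true_and, mul_ite, mul_one, mul_zero]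
      rw [← Finset.sum_filter]
      have e : ∑ K ∈ (Finset.range D.rank).powerset.filter (fun K => T x ⊆ K ∧ K ⊆ A x), (-1 : ℤ) ^ K.card =
          ∑ L ∈ (A x \ T x).powerset, (-1 : ℤ) ^ J.card * (-1) ^ L.card := by
        refine Finset.sum_nbij' (fun K => K \ T x) (fun L => T x ∪ L) ?_ ?_ ?_ ?_ ?_
        · intro K hK
          exact Finset.mem_powerset.2 (Finset.sdiff_subset_sdiff (Finset.mem_filter.1 hK).2.2 le_rfl)
        · intro L hL
          have hL' := Finset.mem_powerset.1 hL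
          refine Finset.mem_filter.2 ⟨Finset.mem_powerset.2 ?_, Finset.subset_union_left, ?_⟩
          · exact (Finset.union_subset (hTA x) (hL'.trans Finset.sdiff_subset)).trans (Finset.filter_subset _ _)
          · exact Finset.union_subset (hTA x) (hL'.trans Finset.sdiff_subset)
        · intro K hK
          exact Finset.union_sdiff_of_subset (Finset.mem_filter.1 hK).2.1
        · intro L hL
          refine Finset.union_sdiff_cancel_left ?_
          exact Finset.disjoint_sdiff.mono_right (Finset.mem_powerset.1 hL)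
        · intro K hK
          rw [← hcard x hx, ← pow_add, add_comm, Finset.card_sdiff_add_card_eq_card (Finset.mem_filter.1 hK).2.1]
      rw [e, ← Finset.mul_sum, Finset.sum_powerset_neg_one_pow_card, mul_ite, mul_one, mul_zero]
      refine if_congr ?_ rfl rfl
      rw [Finset.sdiff_eq_empty_iff_subset]
      exact ⟨fun h => Finset.Subset.antisymm h (hTA x), fun h => h.le⟩
    · simp [hx]
  have hconv : ∀ K : Finset ℕ, (Nat.card {x : R.WQ // R.IsMin (K : Set ℕ) x ∧ R.IsAdm (J : Set ℕ) (K : Set ℕ) x} : ℤ) =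
      ∑ x : R.WQ, if R.IsMin (K : Set ℕ) x ∧ R.IsAdm (J : Set ℕ) (K : Set ℕ) x then (1 : ℤ) else 0 := fun K => by
    rw [Nat.card_eq_fintype_card, Fintype.card_subtype, Finset.sum_boole]
  simp only [hconv, Finset.mul_sum]
  rw [Finset.sum_comm, Finset.sum_congr rfl fun x _ => hrow x]
  -- the unique such element
  let w0 := R.wMax Set.univ
  have hw0 : ∀ r : Fin D.nroots, half D ≤ (r : ℕ) → ¬ half D ≤ (R.qact w0 r : ℕ) := fun r hr =>
    R.neg_of_sub (R.wMax_isMax _) hr fun _ _ h => absurd (Set.mem_univ _) h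
  let S0 : Set ℕ := {k | ∃ i k' : Fin D.rank, (i : ℕ) ∈ J ∧ (k' : ℕ) = k ∧ R.qact w0 (R.sroot k') = R.negF (R.sroot i)}
  set x0 := w0 * R.wMax S0 with hx0
  have hinS : ∀ t : Fin D.rank, (t : ℕ) ∈ S0 → ∃ i : Fin D.rank, (i : ℕ) ∈ J ∧ R.qact w0 (R.sroot t) = R.negF (R.sroot i) := by
    rintro t ⟨i, k', hi, e, h⟩
    exact ⟨i, hi, by rwa [Fin.ext e] at h⟩
  have hmain : ∀ x, (Ex x ∧ A x = T x) ↔ x = x0 := by
    intro x
    constructor
    · rintro ⟨hx, hA⟩
      set S : Set ℕ := (T x : Set ℕ) with hS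
      have hTS : ∀ k : Fin D.rank, (k : ℕ) ∈ S ↔ ∃ i : Fin D.rank, (i : ℕ) ∈ J ∧ R.qact x (R.sroot k) = R.sroot i := by
        intro k
        refine ⟨fun h => ?_, fun ⟨i, hi, e⟩ => Finset.mem_coe.2 (Finset.mem_filter.2
          ⟨Finset.mem_range.2 k.2, i, k, hi, rfl, e⟩)⟩
        obtain ⟨-, i, k', hi, e, h'⟩ := Finset.mem_filter.1 (Finset.mem_coe.1 h)
        exact ⟨i, hi, by rwa [Fin.ext e] at h'⟩
      have hneg : ∀ k : Fin D.rank, (k : ℕ) ∉ S → ¬ half D ≤ (R.qact x (R.sroot k) : ℕ) := fun k hk hp =>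
        hk (Finset.mem_coe.2 (hA ▸ Finset.mem_filter.2 ⟨Finset.mem_range.2 k.2, fun _ => hp⟩))
      have hMax : R.IsMax Set.univ (x * R.wMax S) := by
        intro i _
        rw [R.qact_mul_apply]
        by_cases hi : (i : ℕ) ∈ S
        · obtain ⟨t, ht, e⟩ := R.wMax_sroot S hi
          obtain ⟨j, -, e'⟩ := (hTS t).1 ht
          rw [e, R.qact_negF, e', R.negF_pos_iff, not_not]
          exact R.sroot_pos j
        · set r := R.qact (R.wMax S) (R.sroot i) with hr
          have hrS : R.sroot i ∉ subSet D X S := fun h => hi (R.mem_of_sroot_sub h)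
          have hrp : half D ≤ (r : ℕ) := R.pos_wJ_of_not_sub (R.wMax_mem S) (R.sroot_pos i) hrS
          have hrS' : r ∉ subSet D X S := fun h => hrS (by
            have := R.qact_mem_sub (R.wMax_mem S) h
            rwa [hr, ← R.qact_mul_apply, R.wMax_mul_self, map_one, Equiv.Perm.one_apply] at this)
          intro hp
          -- all coordinates of the image of `r` outside `J` vanish, forcing `r` into the span of `S`
          simp only [subSet, Set.mem_setOf_eq, not_forall] at hrS'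
          obtain ⟨k, hk, hkS, hne⟩ := hrS'
          have hck : 0 < X.coef k (r : ℕ) := lt_of_le_of_ne (R.cert.coef_nonneg r.2 hk hrp) (Ne.symm hne)
          obtain ⟨j, hjJ, hj⟩ : ∃ j : Fin D.rank, (j : ℕ) ∉ J ∧ X.coef j (R.qact x (R.sroot ⟨k, hk⟩) : ℕ) ≠ 0 := by
            by_contra hcon
            simp only [not_exists, not_and, not_not] at hcon
            have hl := R.isLin_qact x⁻¹ (R.qact x (R.sroot ⟨k, hk⟩)) ⟨k, hk⟩
            rw [R.qact_apply_inv, R.coef_sroot, if_pos rfl] at hl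
            refine one_ne_zero (hl.trans (Finset.sum_eq_zero fun j _ => ?_))
            by_cases hjJ : (j : ℕ) ∈ J
            · obtain ⟨k', e⟩ := hx j hjJ
              rw [← e, R.qact_apply_inv, R.coef_sroot, if_neg, mul_zero]
              intro he
              exact hkS (he ▸ ((hTS k').2 ⟨j, hjJ, e⟩) : ((⟨k, hk⟩ : Fin D.rank) : ℕ) ∈ S)
            · rw [hcon j hjJ, zero_mul]
          have hterm : ∀ i : Fin D.rank, X.coef i (r : ℕ) * X.coef j (R.qact x (R.sroot i) : ℕ) ≤ 0 := fun i => by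
            refine mul_nonpos_of_nonneg_of_nonpos (R.cert.coef_nonneg r.2 i.2 hrp) ?_
            by_cases hiS : (i : ℕ) ∈ S
            · obtain ⟨i', hi', e⟩ := (hTS i).1 hiS
              rw [e, R.coef_sroot, if_neg]
              rintro rfl
              exact hjJ hi'
            · by_contra hc
              exact hneg i hiS (R.pos_of_coef _ j (not_le.1 hc))
          have hlt : X.coef j (R.qact x r : ℕ) < 0 := by
            rw [R.isLin_qact x r j]
            refine Finset.sum_neg' (fun i _ => hterm i) ⟨⟨k, hk⟩, Finset.mem_univ _, ?_⟩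
            have hneg' := hneg ⟨k, hk⟩ hkS
            have : X.coef j (R.qact x (R.sroot ⟨k, hk⟩) : ℕ) ≤ 0 := by
              by_contra hc
              exact hneg' (R.pos_of_coef _ j (not_le.1 hc))
            exact mul_neg_of_pos_of_neg hck (lt_of_le_of_ne this hj)
          exact absurd ((R.pos_iff_coef _).1 hp j) (not_le.2 hlt)
      have hU : ∀ i < D.rank, i ∈ (Set.univ : Set ℕ) := fun i _ => Set.mem_univ i
      have hxw : x * R.wMax S = w0 := R.max_unique (R.wJ_univ hU _) (R.wMax_mem _) hMax (R.wMax_isMax _)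
      have hxeq : x = w0 * R.wMax S := by rw [← hxw, mul_assoc, R.wMax_mul_self, mul_one]
      have hSS : S = S0 := by
        ext k
        constructor
        · intro hk
          have hkr : k < D.rank := Finset.mem_range.1 (Finset.mem_filter.1 (Finset.mem_coe.1 hk)).1
          obtain ⟨t, ht, e⟩ := R.wMax_sroot S (i := ⟨k, hkr⟩) hk
          obtain ⟨j, hj, e'⟩ := (hTS t).1 ht
          refine ⟨j, ⟨k, hkr⟩, hj, rfl, ?_⟩
          rw [← hxw, R.qact_mul_apply, e, R.qact_negF, e']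
        · rintro ⟨i, k', hi, rfl, e⟩
          obtain ⟨t, ht⟩ := hx i hi
          have htS := (hTS t).2 ⟨i, hi, ht⟩
          obtain ⟨t', ht', e'⟩ := R.wMax_sroot S htS
          have : R.qact w0 (R.sroot t') = R.negF (R.sroot i) := by
            have h1 := congrArg (fun z => R.negF (R.qact (R.wMax S) z)) e'
            simp only [← R.qact_mul_apply, R.wMax_mul_self, map_one, Equiv.Perm.one_apply, R.qact_negF,
              R.negF_negF] at h1
            rw [← hxw, R.qact_mul_apply, ← h1, R.qact_negF, ht]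
          rw [← R.sroot_injective ((R.qact w0).injective (this.trans e.symm))]
          exact ht'
      rw [hxeq, hSS]
    · rintro rfl
      have hex : Ex x0 := by
        intro i hi
        obtain ⟨k, -, e⟩ := R.wMax_sroot Set.univ (i := i) (Set.mem_univ _)
        have e1 : R.qact w0 (R.sroot k) = R.negF (R.sroot i) := by
          have h1 := congrArg (fun z => R.negF (R.qact w0 z)) e
          simp only [w0, ← R.qact_mul_apply, R.wMax_mul_self, map_one, Equiv.Perm.one_apply, R.qact_negF,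
            R.negF_negF] at h1
          exact h1.symm
        obtain ⟨t, -, e'⟩ := R.wMax_sroot S0 (i := k) ⟨i, k, hi, rfl, e1⟩
        refine ⟨t, ?_⟩
        have h1 := congrArg (fun z => R.negF (R.qact (R.wMax S0) z)) e'
        simp only [← R.qact_mul_apply, R.wMax_mul_self, map_one, Equiv.Perm.one_apply, R.qact_negF,
          R.negF_negF] at h1
        rw [hx0, R.qact_mul_apply, ← h1, R.qact_negF, e1, R.negF_negF]
      refine ⟨hex, Finset.Subset.antisymm (fun k hk => ?_) (hTA x0)⟩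
      obtain ⟨hkr', hasc⟩ := Finset.mem_filter.1 hk
      have hkr := Finset.mem_range.1 hkr'
      have hp := hasc hkr
      rw [hx0, R.qact_mul_apply] at hp
      have hkS : k ∈ S0 := by
        by_contra hc
        exact hw0 _ (R.pos_wJ_of_not_sub (R.wMax_mem S0) (R.sroot_pos ⟨k, hkr⟩)
          fun h => hc (R.mem_of_sroot_sub h)) hp
      obtain ⟨t, ht, e⟩ := R.wMax_sroot S0 (i := ⟨k, hkr⟩) hkS
      obtain ⟨j, hj, e'⟩ := hinS t ht
      exact Finset.mem_filter.2 ⟨hkr', j, ⟨k, hkr⟩, hj, rfl, by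
        rw [hx0, R.qact_mul_apply, e, R.qact_negF, e', R.negF_negF]⟩
  simp only [hmain, Finset.sum_ite_eq', Finset.mem_univ, if_true]

/-- the sum of the alternating sum over a coset of the radical -/
theorem sum_stK_rad [Finite F] [Fintype G] (hD : Desc D X) {J : Finset ℕ} (hJ : ∀ j ∈ J, j < D.rank) {s : G}
    (hs : R.IsCusp J s) [Fintype ↥(R.UR (J : Set ℕ))] :
    ∑ u : ↥(R.UR (J : Set ℕ)), R.stK (Finset.range D.rank) ((u : G) * s) =
      (Nat.card ↥(R.UR (J : Set ℕ)) : ℤ) * (-1) ^ J.card := by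
  simp only [stK, R.stFix_univ (fun i hi => Finset.mem_coe.2 (Finset.mem_range.2 hi))]
  rw [Finset.sum_comm, ← R.alt_adm hJ, Finset.mul_sum]
  refine Finset.sum_congr rfl fun K _ => ?_
  rw [← Finset.mul_sum, ← Nat.cast_sum, R.sum_stFix_rad hD hJ hs, Nat.cast_mul, mul_left_comm]

end Rel

end CfsgLib.Lie.Chev
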